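import Cfsg.Agent.E8A.Reg5.Iface
import Cfsg.Agent.E8A.Reg5.AutLat
import Cfsg.Agent.E8A.Fix.Jor

/-!
# The box KIL: the trace form of the algebra of type `E₈` in characteristic at least 7 (helper44)
-/

set_option autoImplicit false
set_option linter.unusedSectionVars false
set_option maxRecDepth 100000

namespace Cfsg.Agent.E8A.Reg5.Aut

open Cfsg Cfsg.Lie CoxeterSystem Matrix
open Cfsg.Agent.ChevalleyStructure Cfsg.Agent.ChevalleyStructure.JacMain
open Cfsg.Agent.ChevalleyStructure.CoxeterGeom Cfsg.Agent.ChevalleyStructure.CoxeterGeomTypes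
open Cfsg.Agent.ChevalleyStructure.LieAut Cfsg.Agent.ChevalleyStructure.LieAbs
open Cfsg.Agent.Tits.Roots Cfsg.Agent.Nodes.Reps Cfsg.Agent.Nodes.BNOf Cfsg.Agent.Nodes.RGDChev
open Cfsg.Agent.H942.E8Tab (e8T)
open Cfsg.Agent.H288.E8L (wt wt_inl wt_inr rt_vec vec_ne_zero exists_idx wt_inj adA_wt)

universe u

variable {K : Type u} [Field K]

/-- the trace form -/
noncomputable def kf (x y : L8 K) : K := Matrix.trace (adm x * adm y)

theorem kf_add_right (x y z : L8 K) : kf x (y + z) = kf x y + kf x z := by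
  unfold kf
  rw [adm_add, Matrix.mul_add, Matrix.trace_add]

theorem kf_comm (x y : L8 K) : kf x y = kf y x := Matrix.trace_mul_comm _ _

/-- invariance -/
theorem kf_br (x y z : L8 K) : kf x (br y z) = kf (br x y) z := by
  unfold kf
  rw [adm_br, adm_br, Matrix.mul_sub, Matrix.sub_mul, Matrix.trace_sub, Matrix.trace_sub, ← Matrix.mul_assoc,
    ← Matrix.mul_assoc, Matrix.trace_mul_cycle (adm x) (adm z)]

theorem kf_act (g : G8 K) (x y : L8 K) : kf (act g x) (act g y) = kf x y := by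
  unfold kf
  rw [adm_act g y, ← Matrix.mul_assoc, ← Matrix.mul_assoc, ← adm_conj, Matrix.trace_mul_cycle, ← Matrix.mul_assoc,
    mx_inv_mul, Matrix.one_mul]

theorem kf_LS {A A' : Set Q8} (h : ∀ a ∈ A, ∀ b ∈ A', a + b ≠ 0) {x y : L8 K} (hx : x ∈ LS K A) (hy : y ∈ LS K A') :
    kf x y = 0 := by
  show ∑ i, ∑ j, adm x i j * adm y j i = 0
  refine Finset.sum_eq_zero fun i _ => ?_
  refine Finset.sum_eq_zero fun j _ => ?_
  by_contra hc
  obtain ⟨k, hk, e1⟩ := adm_wt (left_ne_zero_of_mul hc)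
  obtain ⟨l, hl, e2⟩ := adm_wt (right_ne_zero_of_mul hc)
  refine h _ (hx k hk) _ (hy l hl) ?_
  rw [e2, ← add_assoc] at e1
  exact add_eq_right.1 e1.symm

theorem tab60' : ∀ i j : Fin 8, (chevE8.cartanSR.getD i #[]).toList.length = 240 ∧
    (List.zipWith (· * ·) (chevE8.cartanSR.getD i #[]).toList (chevE8.cartanSR.getD j #[]).toList).sum =
      60 * cartanOf chevE8 8 j i := by decide +kernel

theorem tab60 (i j : Fin 8) : ∑ r : Fin chevE8.nroots, chevE8.cartan i r * chevE8.cartan j r =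
    60 * cartanOf chevE8 8 j i := by
  obtain ⟨h1, h2⟩ := tab60' i j
  obtain ⟨h3, -⟩ := tab60' j i
  rw [← h2, ← Fin.sum_univ_getElem]
  have h4 : (List.zipWith (· * ·) (chevE8.cartanSR.getD i #[]).toList
      (chevE8.cartanSR.getD j #[]).toList).length = chevE8.nroots := by
    rw [List.length_zipWith, h1, h3]
    rfl
  refine Fintype.sum_equiv (finCongr h4.symm) _ _ fun r => ?_
  have h5 : r.val < 240 := r.2
  rw [List.getElem_zipWith]
  unfold ChevalleyDatum.cartan
  rw [Array.length_toList] at h1 h3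
  have h6 : ∀ (l : Array ℤ) (h : r.val < l.size), l.getD r.val 0 = l[r.val] := fun l h => by
    unfold Array.getD
    rw [dif_pos h]
    rfl
  rw [Array.getElem_toList, Array.getElem_toList, h6 _ (by omega), h6 _ (by omega)]
  rfl

theorem rv_ee (r : Fin chevE8.nroots) (i : Fin 8) : rv r (ee K (Sum.inl (xi i))) = ((chevE8.cartan i r : ℤ) : K) := by
  rw [rv_def, Finset.sum_eq_single (xi i)]
  · rw [ee_self, mul_one]
    rfl
  · intro j _ hj
    rw [ee_ne fun e => hj (Sum.inl.inj e), mul_zero]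
  · intro h
    exact absurd (Finset.mem_univ _) h

theorem kf_T (i : Fin 8) (v : L8 K) : kf (ee K (Sum.inl (xi i))) v = 60 * rl v (sr i) := by
  have h1 : InT (ee K (Sum.inl (xi i))) := fun s => ee_ne (by simp)
  have h2 : v - tp v ∈ LS K {a | a ≠ 0} := by
    intro j hj
    rcases j with j | r
    · exact absurd (sub_self _) hj
    · exact vec_ne_zero r
  have h3 : v = tp v + (v - tp v) := by rw [add_sub_cancel]
  have h4 : kf (ee K (Sum.inl (xi i))) (v - tp v) = 0 :=
    kf_LS (A := {0}) (A' := {a | a ≠ 0}) (fun a ha b hb => by rwa [Set.mem_singleton_iff.1 ha, zero_add])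
      (inT_iff.1 h1) h2
  conv_lhs => rw [h3]
  rw [kf_add_right, h4, add_zero]
  unfold kf
  rw [adm_T h1, adm_T (inT_tp v), Matrix.diagonal_mul_diagonal, Matrix.trace_diagonal, Fintype.sum_sum_type,
    Finset.sum_eq_zero fun j _ => by rw [wt_inl, map_zero, zero_mul], zero_add, rl_sr, Finset.mul_sum]
  have h5 : ∀ r : Fin chevE8.nroots, rl (ee K (Sum.inl (xi i))) (wt (Sum.inr r)) * rl (tp v) (wt (Sum.inr r)) =
      ∑ j : Fin 8, ((chevE8.cartan i r * chevE8.cartan j r : ℤ) : K) * v (Sum.inl (xi j)) := by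
    intro r
    rw [wt_inr, rl_vec, rl_vec, rv_ee, rv_tp, rv_def, Finset.mul_sum]
    exact Finset.sum_congr rfl fun j _ => by rw [Int.cast_mul, mul_assoc]; rfl
  rw [Finset.sum_congr rfl fun r _ => h5 r, Finset.sum_comm]
  refine Finset.sum_congr rfl fun j _ => ?_
  rw [← Finset.sum_mul, ← Int.cast_sum, tab60]
  push_cast
  ring

theorem sixty_ne (p : ℕ) [CharP K p] (hp : 7 ≤ p) : (60 : K) ≠ 0 := by
  have h1 : ∀ n : ℕ, 0 < n → n < 7 → (n : K) ≠ 0 := fun n h0 hn h => by
    have := Nat.le_of_dvd h0 ((CharP.cast_eq_zero_iff K p n).1 h)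
    omega
  have h2 := mul_ne_zero (mul_ne_zero (h1 3 (by norm_num) (by norm_num)) (h1 4 (by norm_num) (by norm_num)))
    (h1 5 (by norm_num) (by norm_num))
  intro h
  apply h2
  push_cast
  linear_combination h

/-- the trace form is nondegenerate -/
theorem kf_nondeg (h60 : (60 : K) ≠ 0) {v : L8 K} (h : ∀ x, kf x v = 0) : v = 0 := by
  have h1 : ∀ v : L8 K, (∀ x, kf x v = 0) → ∀ i, v (Sum.inl i) = 0 := by
    intro v hv i
    have h2 : tp v = tp 0 := tp_eq_of_rl fun j => by
      have h3 := kf_T j v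
      rw [hv] at h3
      rw [(mul_eq_zero.1 h3.symm).resolve_left h60, rl_apply]
      exact (Finset.sum_eq_zero fun j _ => mul_zero _).symm
    exact congrFun h2 (Sum.inl i)
  funext i
  rcases i with i | r
  · exact h1 v h i
  · obtain ⟨j, hj⟩ := exists_adA_ng (K := K) (ng r)
    have h2 : ng (ng r) = r := vec_injective (by rw [vec_ng, vec_ng, neg_neg])
    rw [h2] at hj
    have h3 := h1 (br (ee K (Sum.inr (ng r))) v) (fun x => by rw [kf_br, h]) j
    have h4 : adm (ee K (Sum.inr (ng r))) = adR chevE8 K (Sum.inr (ng r)) := adv_single_one _ _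
    have h5 : br (ee K (Sum.inr (ng r))) v (Sum.inl j) =
        ∑ k, ((adA chevE8 (Sum.inr (ng r)) (Sum.inl j) k : ℤ) : K) * v k := by
      unfold br
      rw [h4]
      rfl
    rw [h5, Finset.sum_eq_single (Sum.inr r)] at h3
    · exact (mul_eq_zero.1 h3).resolve_left hj
    · intro k _ hk
      by_cases h0 : adA chevE8 (Sum.inr (ng r)) (Sum.inl j) k = 0
      · rw [h0, Int.cast_zero, zero_mul]
      · have h6 := adA_wt _ _ _ h0
        rw [wt_inl, wt_inr, vec_ng, eq_comm, neg_add_eq_zero] at h6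
        exact absurd (wt_inj (i := Sum.inr r) h6 (vec_ne_zero r)).symm hk
    · intro hh
      exact absurd (Finset.mem_univ _) hh

theorem kf_eq_sum (x v : L8 K) :
    kf x v = ∑ i, x i * ((Matrix.of fun i j : chevE8.Idx => Matrix.trace (adR chevE8 K i * adR chevE8 K j)) *ᵥ v) i := by
  unfold kf adm adv
  rw [Finset.sum_mul, Matrix.trace_sum]
  refine Finset.sum_congr rfl fun i _ => ?_
  rw [Matrix.smul_mul, Matrix.trace_smul, smul_eq_mul, Finset.mul_sum, Matrix.trace_sum]
  congr 1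
  show _ = ∑ j, Matrix.trace (adR chevE8 K i * adR chevE8 K j) * v j
  refine Finset.sum_congr rfl fun j _ => ?_
  rw [Matrix.mul_smul, Matrix.trace_smul, smul_eq_mul, mul_comm]

/-- **KIL** -/
theorem kil : KIL.{u} := by
  intro K _ p _ hp h
  obtain ⟨v, hv, e⟩ := Matrix.exists_mulVec_eq_zero_iff.2 h
  refine hv (kf_nondeg (sixty_ne p hp) fun x => ?_)
  rw [kf_eq_sum, e]
  exact Finset.sum_eq_zero fun i _ => mul_zero _

end Cfsg.Agent.E8A.Reg5.Aut
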