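import Mathlib

/-!
# The icosahedral group on the projective line: the data (helper42)

`Ico k Γ P π` : a finite group `Γ` (the binary icosahedral group) with a map `π` onto `A₅` and a map `ρ` to `SL₂(k)`; `P` is
a finite set of points of the projective line, the union of four orbits of sizes 30, 20, 12 (classes `some 0`,
`some 1`, `some 2`) and 60 (class `none`).
-/

set_option autoImplicit false

namespace Cfsg.Agent.E8A.Reg5

open Matrix

universe u

/-- the alternating group of degree five -/
abbrev A5 : Type := ↥(alternatingGroup (Fin 5))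

/-- the three orders -/
def mm : Fin 3 → ℕ := ![2, 3, 5]

/-- the orders of the stabilizers in `A₅` of the points of the four classes -/
def mo : Option (Fin 3) → ℕ := fun c => c.elim 1 mm

/-- the determinant of two vectors -/
def dt {R : Type*} [CommRing R] (v w : Fin 2 → R) : R := v 0 * w 1 - v 1 * w 0

/-- The binary icosahedral group and four of its orbits on the projective line. -/
structure Ico (k : Type u) [Field k] (Γ P : Type) [Group Γ] [Fintype Γ] [Fintype P] (π : Γ →* A5) where
  /-- the representation of degree two -/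
  ρ : Γ →* SpecialLinearGroup (Fin 2) k
  surj : Function.Surjective π
  card : (Fintype.card Γ : k) ≠ 0
  perf : ∀ χ : Γ →* kˣ, χ = 1
  /-- the class of a point -/
  cl : P → Option (Fin 3)
  /-- a vector on the line -/
  v : P → Fin 2 → k
  indep : ∀ x y, x ≠ y → dt (v x) (v y) ≠ 0
  cnt : ∀ c, (Finset.univ.filter fun x => cl x = c).card * mo c = 60
  /-- the action on the points -/
  mv : Γ → P → P
  /-- the scalars -/
  sc : Γ → P → k
  sc_ne : ∀ γ x, sc γ x ≠ 0
  mv_cl : ∀ γ x, cl (mv γ x) = cl x
  mv_inj : ∀ γ, Function.Injective (mv γ)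
  mv_v : ∀ γ x, (ρ γ).1 *ᵥ v x = sc γ x • v (mv γ x)
  /-- base points -/
  b : Option (Fin 3) → P
  b_cl : ∀ c, cl (b c) = c
  trans : ∀ x, ∃ γ, mv γ (b (cl x)) = x
  /-- generators of the stabilizers -/
  g : Fin 3 → Γ
  /-- their eigenvalues -/
  η : Fin 3 → k
  /-- the second eigenvectors -/
  w : Fin 3 → Fin 2 → k
  g_v : ∀ i, (ρ (g i)).1 *ᵥ v (b (some i)) = η i • v (b (some i))
  g_w : ∀ i, (ρ (g i)).1 *ᵥ w i = (η i)⁻¹ • w i
  dt_vw : ∀ i, dt (v (b (some i))) (w i) = 1
  prim : ∀ i, IsPrimitiveRoot (η i ^ 2) (mm i)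
  ord : ∀ i, orderOf (π (g i)) = mm i
  /-- the central involution -/
  z : Γ
  z_ne : z ≠ 1
  ρ_z : (ρ z).1 = -1
  π_z : π z = 1
  free : ∀ γ, mv γ (b none) = b none → γ = 1 ∨ γ = z

/-- **ICO**: the data exist over an algebraically closed field of characteristic at least 7. -/
def ICO : Prop := ∀ (k : Type u) [Field k] [IsAlgClosed k] (p : ℕ) [CharP k p], 7 ≤ p →
  ∃ (Γ P : Type) (_ : Group Γ) (_ : Fintype Γ) (_ : Fintype P) (π : Γ →* A5), Nonempty (Ico k Γ P π)

end Cfsg.Agent.E8A.Reg5
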