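import Cfsg.Agent.E8A.Fix.Basic
import Cfsg.Agent.E8A.Reg5.Ico
import Cfsg.Agent.BpExc.LangFr

/-!
# `A₅` without fixed vectors on the adjoint module of `E₈`, characteristic at least 7: the boxes (helper42)

See `notes/E8A/reg5.md`.
-/

set_option autoImplicit false

namespace Cfsg.Agent.E8A.Reg5

open Cfsg Cfsg.Lie Matrix
open Cfsg.Agent.H952.F4 (MaxAlt)
open Cfsg.Agent.H288.E8L (wt)
open Cfsg.Agent.LangThm (van rk)
open Cfsg.Agent.ChevalleyStructure.LieAut (adR)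

universe u

/-- the nodes with marks 2, 3, 5 (centralizers `D₈`, `A₈`, `A₄ A₄`) -/
def nd : Fin 3 → Fin 8 := ![0, 1, 4]

/-- the three gradings -/
def lam (i : Fin 3) (j : chevE8.Idx) : ℤ := wt j (nd i)

/-- the coordinates of three matrices -/
def co3 {ι R : Type*} (γ : Fin 3 → Matrix ι ι R) : Fin 3 × ι × ι → R := fun t => γ t.1 t.2.1 t.2.2

/-- no fixed vectors -/
def NoFix {K : Type u} [Field K] (φ : A5 →* G8 K) : Prop := ∀ v : L8 K, (∀ a, act (φ a) v = v) → v = 0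

/-- **AUT**: the automorphisms of the algebra. -/
def AUT : Prop := ∀ (K : Type u) [Field K] [IsAlgClosed K] (p : ℕ) [CharP K p], 7 ≤ p →
  ∀ a a' : Matrix chevE8.Idx chevE8.Idx K, a * a' = 1 → (∀ x : L8 K, a * adm x = adm (a *ᵥ x) * a) →
    ∃ g : G8 K, mx g = a

/-- **KIL**: the trace form is nondegenerate. -/
def KIL : Prop := ∀ (K : Type u) [Field K] (p : ℕ) [CharP K p], 7 ≤ p →
  (Matrix.of fun i j : chevE8.Idx => Matrix.trace (adR chevE8 K i * adR chevE8 K j)).det ≠ 0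

/-- **N3**: there is no grading with three terms. -/
def N3 : Prop := ∀ (K : Type u) [Field K] (p : ℕ) [CharP K p], 7 ≤ p →
  ∀ h : L8 K, adm h * adm h * adm h = adm h → h = 0

/-- **CLS**: the classes of the elements of an `A₅` without fixed vectors. -/
def CLS : Prop := ∀ (F : Type u) [Field F] [Finite F] (p : ℕ) [CharP F p], 7 ≤ p →
  ∀ φ : A5 →* G8 (Kb F), NoFix φ → ∀ (i : Fin 3) (a : A5) (ζ : Kb F), orderOf a = mm i → IsPrimitiveRoot ζ (mm i) →
    ∃ c : G8 (Kb F), mx (φ a) * mx c = mx c * Matrix.diagonal fun j => ζ ^ lam i j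

/-- **GEN**: two points of `G³` of rank `3 * 248` have the same vanishing ideal. -/
def GEN : Prop := ∀ (k : Type u) [Field k] [IsAlgClosed k] (Ω Ω' : Type u) [Field Ω] [Field Ω'] [Algebra k Ω]
  [Algebra k Ω'] (γ : Fin 3 → G8 Ω) (γ' : Fin 3 → G8 Ω'), 744 ≤ rk k (co3 fun i => mx (γ i)) →
    744 ≤ rk k (co3 fun i => mx (γ' i)) → van k (co3 fun i => mx (γ i)) = van k (co3 fun i => mx (γ' i))

/-- **RHO**: a rational `A₅` without fixed vectors with a rational centralizing element. -/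
def RHO : Prop := ∀ (F : Type u) [Field F] [Finite F] (p : ℕ) [CharP F p], 7 ≤ p →
  ∃ ρ : A5 →* G8 F, NoFix ρ ∧ ∃ z : G8 F, z ≠ 1 ∧ ∀ a, z * ρ a = ρ a * z

/-- **UNIQ**: uniqueness over the algebraic closure. -/
def UNIQ : Prop := ∀ (F : Type u) [Field F] [Finite F] (p : ℕ) [CharP F p], 7 ≤ p →
  ∀ φ φ' : A5 →* G8 (Kb F), NoFix φ → NoFix φ' → ∃ g : G8 (Kb F), ∀ a, g * φ a = φ' a * g

/-- **REG5**: the result. -/
def REG5 : Prop := ∀ (F : Type u) [Field F] [Finite F] (p : ℕ) [CharP F p], 7 ≤ p →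
  ∀ (H : Subgroup (G8 F)) (φ : A5 →* G8 F), MaxAlt H 5 φ → NoFix φ → False

/-- **END5**: the end of the proof. -/
def END5 : Prop := UNIQ.{u} → RHO.{u} → REG5.{u}

end Cfsg.Agent.E8A.Reg5
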