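import Cfsg.Agent.E8A.Fix.Basic2
import Cfsg.Agent.H944.Kac
import Cfsg.Agent.FP3.Aff.Scott

/-!
# Kac coordinates of the semisimple elements of `E₈(k)` and the dimensions of their fixed spaces (helper93)

* `kac` : `g ^ N = 1`, `N` prime to `p`, `ζ` a primitive `N`-th root of unity: `g` is conjugate to `dz ζ y`, `θ y ≤ N`;
* `dfx_of_conj` : the dimension of the fixed space is `248 - mv N y`;
* `tab2`, `tab3`, `tab5` : the tables; `dim_two`, `dim_three`, `dim_five`.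
-/

set_option autoImplicit false
set_option maxRecDepth 100000

namespace Cfsg.Agent.E8A.Reg5.Cls

open CoxeterSystem Cfsg Cfsg.Lie Matrix Module
open Cfsg.Agent.ChevalleyStructure Cfsg.Agent.ChevalleyStructure.Elts Cfsg.Agent.ChevalleyStructure.CoxeterGeom
  Cfsg.Agent.ChevalleyStructure.CoxeterGeomTypes Cfsg.Agent.ChevalleyStructure.RootVec
  Cfsg.Agent.ChevalleyStructure.RootVecTab
open Cfsg.Agent.Tits.Roots Cfsg.Agent.Nodes.Reps Cfsg.Agent.Nodes.BNOf Cfsg.Agent.Nodes.RGDChev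
open Cfsg.Agent.KFacts.RgdChevCoord Cfsg.Agent.H129.TorusChar
open Cfsg.Agent.H942.E8Tab (e8T theta8 pos8)
open Cfsg.Agent.H942.CB (W8 cs8)
open Cfsg.Agent.H288.E8L (Q8 wt act8 wt_inl wt_inr)
open Cfsg.Agent.H944.Kac (srefl srefl_cast rv_srefl exists_alcove)
open Cfsg.Agent.FP3 (dfx fixSp comSp mem_fixSp finrank_comSp_add_dfx)

universe u

variable {K : Type u} [Field K]

/-- the value of the coweight `y` on `a` -/
def ex (y a : Q8) : ℤ := ∑ i, a i * y i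

/-- the torus element with coordinates `y` -/
def dz (ζ : K) (y : Q8) : Matrix chevE8.Idx chevE8.Idx K := Matrix.diagonal fun j => ζ ^ ex y (wt j)

/-- the number of roots not in the kernel -/
def mv (N : ℕ) (y : Q8) : ℕ := (Finset.univ.filter fun j : chevE8.Idx => ex y (wt j) % N ≠ 0).card

/-- `g` is conjugate to `dz ζ y` -/
def Cj (g : G8 K) (ζ : K) (y : Q8) : Prop := ∃ c : G8 K, mx g * mx c = mx c * dz ζ y

theorem ex_zero (y : Q8) : ex y 0 = 0 := by simp [ex]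

theorem ex_refl (y : Q8) (i : Fin 8) (b : chevE8.Idx) :
    ex y (act8 (cs8.simple i) (wt b)) = ex (srefl chevE8 8 i y) (wt b) := by
  rcases b with b | b
  · rw [wt_inl, act8_zero, ex_zero, ex_zero]
  · have e2 : act8 (cs8.simple i) (vec chevE8 8 b) = vec chevE8 8 (chevE8.reflectRoot i b) := rep_vec e8T cs8 i b.2
    rw [wt_inr, e2]
    exact (rv_srefl e8T i y b.2).symm

theorem Cj.refl {g : G8 K} {ζ : K} {y : Q8} (h : Cj g ζ y) (i : Fin 8) : Cj g ζ (srefl chevE8 8 i y) := by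
  obtain ⟨c, hc⟩ := h
  refine ⟨c * nc e8T K i, ?_⟩
  have h1 : dz ζ y * mx (nc e8T K i) = mx (nc e8T K i) * dz ζ (srefl chevE8 8 i y) := by
    ext a b
    rw [dz, dz, Matrix.diagonal_mul, Matrix.mul_diagonal]
    by_cases h0 : mx (nc e8T K i) a b = 0
    · rw [h0, mul_zero, zero_mul]
    · rw [nc_wt i h0, ex_refl, mul_comm]
  rw [mx_mul, ← Matrix.mul_assoc, hc, Matrix.mul_assoc, h1, Matrix.mul_assoc]

theorem dz_congr {ζ : K} {N : ℕ} (hζ : IsPrimitiveRoot ζ N) (hN : N ≠ 0) {y y' : Q8}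
    (h : ∀ i, ((y i : ℤ) : ZMod N) = ((y' i : ℤ) : ZMod N)) : dz ζ y = dz ζ y' := by
  unfold dz
  congr 1
  funext j
  have h1 : (N : ℤ) ∣ ex y (wt j) - ex y' (wt j) := by
    rw [← ZMod.intCast_zmod_eq_zero_iff_dvd]
    unfold ex
    push_cast
    simp only [h, sub_self]
  have h2 := (hζ.zpow_eq_one_iff_dvd _).2 h1
  have h0 := hζ.ne_zero hN
  rwa [zpow_sub₀ h0, div_eq_one_iff_eq (zpow_ne_zero _ h0)] at h2

theorem zpow_sum' {ζ : K} (h : ζ ≠ 0) {ι : Type*} (s : Finset ι) (f : ι → ℤ) :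
    ζ ^ (∑ i ∈ s, f i) = ∏ i ∈ s, ζ ^ f i := by
  classical
  induction s using Finset.induction_on with
  | empty => simp
  | insert a s ha ih => rw [Finset.sum_insert ha, Finset.prod_insert ha, zpow_add₀ h, ih]

theorem cj_of_TT {ζ : K} {N : ℕ} (hζ : IsPrimitiveRoot ζ N) (hN : N ≠ 0) {g x : G8 K} (hg : g ^ N = 1)
    (ht : x * g * x⁻¹ ∈ TT chevE8 K) : ∃ y, Cj g ζ y := by
  have : NeZero N := ⟨hN⟩
  have h1 : ∀ i, ∃ m : ℕ, ζ ^ m = cX e8T (x * g * x⁻¹) (sr i) := by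
    intro i
    have h2 : cX e8T (x * g * x⁻¹) (sr i) ^ N = 1 := by
      rw [← cX_pow e8T ht, conj_pow, hg, mul_one, mul_inv_cancel, cX_one]
    obtain ⟨m, -, hm⟩ := hζ.eq_pow_of_pow_eq_one h2
    exact ⟨m, hm⟩
  choose m hm using h1
  refine ⟨fun i => m i, x⁻¹, ?_⟩
  have h2 : mx (x * g * x⁻¹) = dz ζ fun i => m i := by
    rw [mx_TT ht, dz]
    congr 1
    funext j
    rw [(isMC_cX e8T ht).eq_prod, ex, zpow_sum' (hζ.ne_zero hN)]
    refine Finset.prod_congr rfl fun i _ => ?_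
    rw [← hm, ← _root_.zpow_natCast, ← _root_.zpow_mul, mul_comm]
  rw [← h2, ← mx_mul, ← mx_mul]
  congr 1
  group

/-- moving the coordinates into the alcove -/
theorem Cj.alcove {ζ : K} {N : ℕ} (hζ : IsPrimitiveRoot ζ N) (hN : N ≠ 0) {g : G8 K} {y₀ : Q8} (h : Cj g ζ y₀) :
    ∃ y : Fin 8 → ℕ, 2 * y 0 + 3 * y 1 + 4 * y 2 + 6 * y 3 + 5 * y 4 + 4 * y 5 + 3 * y 6 + 2 * y 7 ≤ N ∧
      Cj g ζ fun i => y i := by
  obtain ⟨y, ⟨y', hy', c, hc⟩, hθ⟩ := exists_alcove e8T (N := N) (Nat.pos_of_ne_zero hN) _ _ 60 (by norm_num) theta8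
    (by decide) _ pos8 (fun v => ∃ y : Q8, (fun i => ((y i : ℤ) : ZMod N)) = v ∧ Cj g ζ y)
    (by
      rintro _ j ⟨y, rfl, hy⟩
      exact ⟨_, (srefl_cast y j).symm, hy.refl j⟩) ⟨y₀, rfl, h⟩
  refine ⟨y, ?_, c, ?_⟩
  · simp only [Fin.sum_univ_eight, Matrix.cons_val] at hθ
    omega
  · rw [hc, dz_congr hζ hN (y' := fun i => y i) fun i => by rw [congrFun hy' i, Int.cast_natCast]]

/-- **Kac coordinates** -/
theorem kac {F : Type u} [Field F] [Finite F] (p : ℕ) [Fact p.Prime] [CharP F p] {N : ℕ} (hN : N ≠ 0)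
    (hp : N.Coprime p) {ζ : Kb F} (hζ : IsPrimitiveRoot ζ N) {g : G8 (Kb F)} (hg : g ^ N = 1) :
    ∃ y : Fin 8 → ℕ, 2 * y 0 + 3 * y 1 + 4 * y 2 + 6 * y 3 + 5 * y 4 + 4 * y 5 + 3 * y 6 + 2 * y 7 ≤ N ∧
      Cj g ζ fun i => y i := by
  have : CharP (Kb F) p := charP_of_injective_algebraMap (algebraMap F (Kb F)).injective p
  obtain ⟨x, hx⟩ := Cfsg.Agent.H944.TorAnyChev.exists_conj_mem_TT e8T p
    (Cfsg.Agent.H944.RootVals.hAlg_closure p F) hN hp hg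
  obtain ⟨y, hy⟩ := cj_of_TT hζ hN hg hx
  exact hy.alcove hζ hN

/-! ### dimensions -/

theorem dfx_le_of_semi {V : Type*} [AddCommGroup V] [Module K V] [FiniteDimensional K V] {u v e : Module.End K V}
    (he : Function.Injective e) (h : u * e = e * v) : dfx v ≤ dfx u := by
  have h1 : ∀ w ∈ fixSp v, e w ∈ fixSp u := by
    intro w hw
    rw [mem_fixSp] at hw ⊢
    rw [← Module.End.mul_apply, h, Module.End.mul_apply, hw]
  refine LinearMap.finrank_le_finrank_of_injective (f := e.restrict h1) fun a b hab => ?_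
  exact Subtype.ext (he (congrArg Subtype.val hab))

theorem dfx_dz {ζ : K} {N : ℕ} (hζ : IsPrimitiveRoot ζ N) (y : Q8) : dfx (Matrix.toLin' (dz ζ y)) + mv N y = 248 := by
  classical
  have h1 := finrank_comSp_add_dfx (Matrix.toLin' (dz ζ y))
  have h2 : Matrix.toLin' (dz ζ y) - 1 = (Matrix.diagonal fun j => ζ ^ ex y (wt j) - 1).mulVecLin := by
    refine LinearMap.ext fun v => funext fun j => ?_
    rw [LinearMap.sub_apply, Matrix.toLin'_apply, Matrix.mulVecLin_apply, Pi.sub_apply, dz, Matrix.mulVec_diagonal,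
      Matrix.mulVec_diagonal, Module.End.one_apply, sub_mul, one_mul]
  have h3 : finrank K (comSp (Matrix.toLin' (dz ζ y))) = mv N y := by
    rw [comSp, h2]
    change (Matrix.diagonal fun j => ζ ^ ex y (wt j) - 1).rank = _
    rw [Matrix.rank_diagonal, Fintype.card_subtype, mv]
    congr 1
    refine Finset.filter_congr fun j _ => ?_
    rw [Ne, Ne, sub_eq_zero, hζ.zpow_eq_one_iff_dvd, Int.dvd_iff_emod_eq_zero]
  have h4 : finrank K (chevE8.Idx → K) = 248 := by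
    rw [Module.finrank_fintype_fun_eq_card, Fintype.card_sum, Fintype.card_fin, Fintype.card_fin]
    rfl
  omega

theorem LK_eq (g : G8 K) : LK K g = Matrix.toLin' (mx g) := LinearMap.ext fun _ => rfl

theorem dfx_of_cj {ζ : K} {N : ℕ} (hζ : IsPrimitiveRoot ζ N) {g : G8 K} {y : Q8} (h : Cj g ζ y) :
    dfx (LK K g) + mv N y = 248 := by
  obtain ⟨c, hc⟩ := h
  have h1 : LK K g * LK K c = LK K c * Matrix.toLin' (dz ζ y) := by
    rw [LK_eq, LK_eq, Module.End.mul_eq_comp, Module.End.mul_eq_comp, ← Matrix.toLin'_mul, ← Matrix.toLin'_mul, hc]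
  have h2 : Matrix.toLin' (dz ζ y) * LK K c⁻¹ = LK K c⁻¹ * LK K g := by
    calc Matrix.toLin' (dz ζ y) * LK K c⁻¹ = LK K c⁻¹ * (LK K c * Matrix.toLin' (dz ζ y)) * LK K c⁻¹ := by
          rw [← mul_assoc, ← map_mul, inv_mul_cancel, map_one, one_mul]
      _ = LK K c⁻¹ * LK K g := by rw [← h1, mul_assoc, mul_assoc, ← map_mul, mul_inv_cancel, map_one, mul_one]
  have h3 := dfx_le_of_semi (act_injective c) h1
  have h4 := dfx_le_of_semi (act_injective c⁻¹) h2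
  have h5 := dfx_dz hζ y
  omega

theorem ev_eq_dfx {V : Type*} [AddCommGroup V] [Module K V] (u : Module.End K V) :
    Cfsg.Agent.H952.F4.ev u 1 = dfx u := by
  rw [Cfsg.Agent.H952.F4.ev, Module.End.eigenspace_def, one_smul]
  rfl

/-! ### the tables -/

/-- the points of the alcove and the codimensions of the fixed spaces, `N = 2, 3, 5` -/
def tb : ℕ → List (List ℕ × ℕ)
  | 2 => [([0, 0, 0, 0, 0, 0, 0, 0], 248), ([0, 0, 0, 0, 0, 0, 0, 1], 136), ([1, 0, 0, 0, 0, 0, 0, 0], 120)]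
  | 3 => [([0, 0, 0, 0, 0, 0, 0, 0], 248), ([0, 0, 0, 0, 0, 0, 0, 1], 134), ([0, 0, 0, 0, 0, 0, 1, 0], 86),
      ([0, 1, 0, 0, 0, 0, 0, 0], 80), ([1, 0, 0, 0, 0, 0, 0, 0], 92)]
  | _ => [([0, 0, 0, 0, 0, 0, 0, 0], 248), ([0, 0, 0, 0, 0, 0, 0, 1], 134), ([0, 0, 0, 0, 0, 0, 0, 2], 134),
      ([0, 0, 0, 0, 0, 0, 1, 0], 82), ([0, 0, 0, 0, 0, 0, 1, 1], 82), ([0, 0, 0, 0, 0, 1, 0, 0], 54),
      ([0, 0, 0, 0, 1, 0, 0, 0], 48), ([0, 0, 1, 0, 0, 0, 0, 0], 52), ([0, 1, 0, 0, 0, 0, 0, 0], 64),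
      ([0, 1, 0, 0, 0, 0, 0, 1], 52), ([1, 0, 0, 0, 0, 0, 0, 0], 92), ([1, 0, 0, 0, 0, 0, 0, 1], 68),
      ([1, 0, 0, 0, 0, 0, 1, 0], 54), ([1, 1, 0, 0, 0, 0, 0, 0], 64), ([2, 0, 0, 0, 0, 0, 0, 0], 92)]

theorem tb_mv : ∀ N ∈ [2, 3, 5], ∀ e ∈ tb N, e.2 + mv N (fun i => (e.1.getD i 0 : ℕ)) = 248 := by decide +kernel

theorem tb_all : ∀ N ∈ [2, 3, 5], ∀ a b c d e f g h : Fin 3,
    2 * a.val + 3 * b.val + 4 * c.val + 6 * d.val + 5 * e.val + 4 * f.val + 3 * g.val + 2 * h.val ≤ N →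
      ∃ x ∈ tb N, x.1 = [a.val, b.val, c.val, d.val, e.val, f.val, g.val, h.val] := by decide +kernel

/-- the classes of the elements of order 2, 3, 5 -/
theorem exists_tb {F : Type u} [Field F] [Finite F] (p : ℕ) [Fact p.Prime] [CharP F p] {N : ℕ} (hN : N ∈ [2, 3, 5])
    (hp : N.Coprime p) {ζ : Kb F} (hζ : IsPrimitiveRoot ζ N) {g : G8 (Kb F)} (hg : g ^ N = 1) :
    ∃ x ∈ tb N, Cj g ζ (fun i => (x.1.getD i 0 : ℕ)) ∧ dfx (LK (Kb F) g) = x.2 := by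
  have h5 : N ≠ 0 ∧ N ≤ 5 := by
    simp only [List.mem_cons, List.not_mem_nil, or_false] at hN
    omega
  obtain ⟨y, hy, hc⟩ := kac p h5.1 hp hζ hg
  obtain ⟨x, hx, e⟩ := tb_all N hN ⟨y 0, by omega⟩ ⟨y 1, by omega⟩ ⟨y 2, by omega⟩ ⟨y 3, by omega⟩ ⟨y 4, by omega⟩
    ⟨y 5, by omega⟩ ⟨y 6, by omega⟩ ⟨y 7, by omega⟩ hy
  have e1 : (fun i : Fin 8 => ((x.1.getD i 0 : ℕ) : ℤ)) = fun i => (y i : ℤ) := by
    rw [e]
    funext i
    fin_cases i <;> rfl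
  have h1 := tb_mv N hN x hx
  have h2 := dfx_of_cj hζ hc
  rw [e1] at h1
  exact ⟨x, hx, by rw [e1]; exact hc, by omega⟩

theorem eq_one_of_cj {ζ : K} {g : G8 K} (h : Cj g ζ 0) : g = 1 := by
  obtain ⟨c, hc⟩ := h
  have h1 : dz ζ 0 = 1 := by
    rw [dz, ← Matrix.diagonal_one]
    congr 1
    funext j
    simp [ex]
  rw [h1, Matrix.mul_one, ← mx_mul] at hc
  exact mul_eq_right.1 (mx_injective hc)

theorem exists_prim {F : Type u} [Field F] (p : ℕ) [Fact p.Prime] [CharP F p] {N : ℕ} (hp : N.Coprime p) :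
    ∃ ζ : Kb F, IsPrimitiveRoot ζ N := by
  have : CharP (Kb F) p := charP_of_injective_algebraMap (algebraMap F (Kb F)).injective p
  have : NeZero (N : Kb F) := ⟨fun h => by
    rw [CharP.cast_eq_zero_iff (Kb F) p] at h
    exact (Fact.out : p.Prime).ne_one (Nat.Coprime.eq_one_of_dvd hp.symm h)⟩
  exact HasEnoughRootsOfUnity.exists_primitiveRoot (Kb F) N

/-- the dimensions of the fixed spaces of the elements of order 2, 3, 5 -/
theorem dim_mem {F : Type u} [Field F] [Finite F] (p : ℕ) [Fact p.Prime] [CharP F p] {N : ℕ} (hN : N ∈ [2, 3, 5])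
    (hp : N.Coprime p) {g : G8 (Kb F)} (hg : g ^ N = 1) (h1 : g ≠ 1) :
    ∃ x ∈ tb N, x.2 ≠ 248 ∧ dfx (LK (Kb F) g) = x.2 := by
  obtain ⟨ζ, hζ⟩ := exists_prim (F := F) p hp
  obtain ⟨x, hx, hc, hd⟩ := exists_tb p hN hp hζ hg
  refine ⟨x, hx, fun h => h1 (eq_one_of_cj (ζ := ζ) ?_), hd⟩
  have h2 : ∀ N ∈ [2, 3, 5], ∀ x ∈ tb N, x.2 = 248 → (fun i : Fin 8 => ((x.1.getD i 0 : ℕ) : ℤ)) = 0 := by
    decide +kernel
  rwa [h2 N hN x hx h] at hc

theorem dim_two {F : Type u} [Field F] [Finite F] (p : ℕ) [Fact p.Prime] [CharP F p] (hp : Nat.Coprime 2 p)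
    {g : G8 (Kb F)} (hg : g ^ 2 = 1) (h1 : g ≠ 1) : dfx (LK (Kb F) g) ∈ [120, 136] := by
  obtain ⟨x, hx, h2, hd⟩ := dim_mem p (by decide) hp hg h1
  rw [hd]
  clear hd
  revert x
  decide

theorem dim_three {F : Type u} [Field F] [Finite F] (p : ℕ) [Fact p.Prime] [CharP F p] (hp : Nat.Coprime 3 p)
    {g : G8 (Kb F)} (hg : g ^ 3 = 1) (h1 : g ≠ 1) : dfx (LK (Kb F) g) ∈ [80, 86, 92, 134] := by
  obtain ⟨x, hx, h2, hd⟩ := dim_mem p (by decide) hp hg h1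
  rw [hd]
  clear hd
  revert x
  decide

theorem dim_five {F : Type u} [Field F] [Finite F] (p : ℕ) [Fact p.Prime] [CharP F p] (hp : Nat.Coprime 5 p)
    {g : G8 (Kb F)} (hg : g ^ 5 = 1) (h1 : g ≠ 1) : dfx (LK (Kb F) g) ∈ [48, 52, 54, 64, 68, 82, 92, 134] := by
  obtain ⟨x, hx, h2, hd⟩ := dim_mem p (by decide) hp hg h1
  rw [hd]
  clear hd
  revert x
  decide

end Cfsg.Agent.E8A.Reg5.Cls
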