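import Cfsg.Agent.E8A.Reg5.Lie

/-!
# Filtrations with three steps (helper42)
-/

set_option autoImplicit false
set_option linter.unusedSectionVars false

namespace Cfsg.Agent.E8A.Reg5

open Matrix

universe u v

variable {ι : Type} [Fintype ι] [DecidableEq ι] {A : ι → Matrix ι ι ℤ}
variable {k : Type u} [Field k] {K : Type v} [Field K] [Algebra k K]

theorem exists_proj (N : Submodule K (ι → K)) :
    ∃ p : Matrix ι ι K, (∀ x, p *ᵥ x ∈ N) ∧ ∀ x ∈ N, p *ᵥ x = x := by
  obtain ⟨M, hM⟩ := N.exists_isCompl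
  refine ⟨LinearMap.toMatrix' (N.subtype ∘ₗ N.projectionOnto M hM), fun x => ?_, fun x hx => ?_⟩
  · rw [LinearMap.toMatrix'_mulVec]
    exact Subtype.mem _
  · rw [LinearMap.toMatrix'_mulVec]
    exact congrArg Subtype.val (Submodule.projectionOnto_apply_left hM ⟨x, hx⟩)

theorem Good.orth (hG : Good A k) {N Q : Submodule K (ι → K)} (h : ∀ x ∈ N, ∀ y ∈ Q, kf A x y = 0) :
    Module.finrank K N + Module.finrank K Q ≤ Fintype.card ι ∧
      (Fintype.card ι ≤ Module.finrank K N + Module.finrank K Q → ∀ x, (∀ y ∈ N, kf A x y = 0) → x ∈ Q) := by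
  let B : LinearMap.BilinForm K (ι → K) := LinearMap.mk₂ K (kf A) kf_add_left kf_smul_left kf_add_right kf_smul_right
  have hB : B.Nondegenerate := ⟨fun x hx => hG.nondeg fun j => hx _, fun x hx => hG.nondeg fun j => by
    rw [kf_symm]; exact hx _⟩
  have h1 := LinearMap.BilinForm.finrank_orthogonal hB N
  have h2 : Q ≤ B.orthogonal N := fun y hy x hx => h x hx y hy
  have h3 := Submodule.finrank_mono h2
  have h4 := Submodule.finrank_le N
  rw [Module.finrank_fintype_fun_eq_card] at h1 h4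
  refine ⟨by omega, fun h5 x hx => ?_⟩
  rw [Submodule.eq_of_le_of_finrank_le h2 (by omega)]
  intro y hy
  show kf A y x = 0
  rw [kf_symm]
  exact hx y hy

theorem Good.eq_bot (hG : Good A k) (h3 : ∀ h : ι → K, ad A h * ad A h * ad A h = ad A h → h = 0)
    {N Q : Submodule K (ι → K)} (nn : ∀ x ∈ N, ∀ y ∈ N, ad A x *ᵥ y = 0) (nq : ∀ x ∈ N, ∀ y ∈ Q, ad A x *ᵥ y ∈ N)
    (nl : ∀ x ∈ N, ∀ y, ad A x *ᵥ y ∈ Q) (qq : ∀ x ∈ Q, ∀ y ∈ Q, ad A x *ᵥ y ∈ Q)
    (o1 : ∀ x, (∀ y ∈ N, kf A x y = 0) → x ∈ Q) (o2 : ∀ x, (∀ y ∈ Q, kf A x y = 0) → x ∈ N) : N = ⊥ := by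
  obtain ⟨p, p1, p2⟩ := exists_proj N
  obtain ⟨r, r1, r2⟩ := exists_proj Q
  have qn : ∀ x ∈ Q, ∀ y ∈ N, ad A x *ᵥ y ∈ N := fun x hx y hy => by
    rw [hG.anti]; exact N.neg_mem (nq y hy x hx)
  have ln : ∀ x, ∀ y ∈ N, ad A x *ᵥ y ∈ Q := fun x y hy => by
    rw [hG.anti]; exact Q.neg_mem (nl y hy x)
  let f : (ι → K) →ₗ[K] K :=
    { toFun := fun y => Matrix.trace ((p - (1 - r)) * ad A y)
      map_add' := fun y z => by rw [ad_add, Matrix.mul_add, Matrix.trace_add]
      map_smul' := fun c y => by rw [ad_smul, Matrix.mul_smul, Matrix.trace_smul]; rfl }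
  obtain ⟨h, hh⟩ := hG.exists_dual f
  have key : ∀ x y, kf A (ad A h *ᵥ x) y = Matrix.trace (((p - (1 - r)) * ad A x - ad A x * (p - (1 - r))) * ad A y) := by
    intro x y
    rw [hG.kf_inv, hh]
    show Matrix.trace ((p - (1 - r)) * ad A _) = _
    generalize p - (1 - r) = H
    rw [hG.jacR, Matrix.mul_sub, Matrix.sub_mul, Matrix.trace_sub, Matrix.trace_sub, ← Matrix.mul_assoc,
      ← Matrix.mul_assoc, Matrix.trace_mul_comm (_ * ad A y) (ad A x), ← Matrix.mul_assoc]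
  have a1 : ∀ x ∈ N, ad A h *ᵥ x = x := by
    intro x hx
    have e1 : ad A x * p = 0 := ext_mulVec fun j => by
      rw [← Matrix.mulVec_mulVec, nn x hx _ (p1 _), Matrix.zero_mulVec]
    have e2 : r * ad A x = ad A x := ext_mulVec fun j => by rw [← Matrix.mulVec_mulVec, r2 _ (nl x hx _)]
    have e3 : p * ad A x * r = ad A x * r := ext_mulVec fun j => by
      rw [Matrix.mul_assoc, ← Matrix.mulVec_mulVec, ← Matrix.mulVec_mulVec, p2 _ (nq x hx _ (r1 _))]
    refine sub_eq_zero.1 (hG.nondeg fun j => ?_)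
    have e4 : r * (ad A (Pi.single j 1) * p) = ad A (Pi.single j 1) * p := ext_mulVec fun c => by
      rw [← Matrix.mulVec_mulVec, ← Matrix.mulVec_mulVec, r2 _ (ln _ _ (p1 _))]
    have e5 : (p - (1 - r)) * ad A x - ad A x * (p - (1 - r)) = ad A x + p * ad A x * (1 - r) := by
      simp only [Matrix.sub_mul, Matrix.mul_sub, Matrix.one_mul, Matrix.mul_one, e1, e2, e3]
      abel
    rw [kf_sub_left, key, e5, Matrix.add_mul, Matrix.trace_add, Matrix.mul_assoc, Matrix.mul_assoc,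
      Matrix.trace_mul_comm p, Matrix.mul_assoc, Matrix.mul_assoc, Matrix.sub_mul, Matrix.one_mul, e4, sub_self,
      Matrix.mul_zero, Matrix.trace_zero, add_zero]
    exact sub_self _
  have a2 : ∀ x ∈ Q, ad A h *ᵥ x ∈ N := by
    intro x hx
    refine o2 _ fun y hy => ?_
    have e1 : ∀ z ∈ Q, p * (ad A z * p) = ad A z * p := fun z hz => ext_mulVec fun j => by
      rw [← Matrix.mulVec_mulVec, ← Matrix.mulVec_mulVec, p2 _ (qn z hz _ (p1 _))]
    have e2 : ∀ z ∈ Q, r * (ad A z * r) = ad A z * r := fun z hz => ext_mulVec fun j => by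
      rw [← Matrix.mulVec_mulVec, ← Matrix.mulVec_mulVec, r2 _ (qq z hz _ (r1 _))]
    have e5 : (p - (1 - r)) * ad A x - ad A x * (p - (1 - r)) = p * ad A x * (1 - p) + r * ad A x * (1 - r) := by
      simp only [Matrix.sub_mul, Matrix.mul_sub, Matrix.one_mul, Matrix.mul_one, Matrix.mul_assoc, e1 x hx, e2 x hx]
      abel
    rw [key, e5, Matrix.add_mul, Matrix.trace_add]
    simp only [Matrix.mul_assoc]
    rw [Matrix.trace_mul_comm p, Matrix.trace_mul_comm r]
    simp only [Matrix.mul_assoc, Matrix.sub_mul, Matrix.one_mul, e1 y hy, e2 y hy, sub_self, Matrix.mul_zero,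
      Matrix.trace_zero, add_zero]
  have a3 : ∀ x, ad A h *ᵥ x + x ∈ Q := fun x => o1 _ fun y hy => by
    rw [kf_add_left, hG.kf_inv', a1 y hy, neg_add_cancel]
  have h0 : h = 0 := h3 h (ext_mulVec fun j => by
    have := a1 _ (a2 _ (a3 (Pi.single j 1)))
    simp only [Matrix.mulVec_add] at this
    rw [← Matrix.mulVec_mulVec, ← Matrix.mulVec_mulVec]
    exact add_right_cancel (this.trans (add_comm _ _)))
  rw [eq_bot_iff]
  intro x hx
  rw [← a1 x hx, h0, ad_zero, Matrix.zero_mulVec]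
  exact Submodule.zero_mem _

end Cfsg.Agent.E8A.Reg5
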