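import Cfsg.Agent.E8A.Reg5.ClsKac
import Cfsg.Agent.E8A.Reg5.Iface
import Cfsg.Agent.Lib.VonDyck

/-!
# The box CLS (helper93)
-/

set_option autoImplicit false
set_option maxRecDepth 100000

namespace Cfsg.Agent.E8A.Reg5.Cls

open Cfsg Cfsg.Lie Matrix Module
open Cfsg.Agent.H288.E8L (Q8 wt)
open Cfsg.Agent.FP3 (dfx fixSp comSp mem_fixSp a1_scott sub_mem_comSp)
open Cfsg.Agent.Lib.VonDyck (a5 b5 closure_a5_b5 card_alternating5 a5_sq b5_pow ab5_pow)

universe u

/-- the three generators -/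
def gn : Fin 3 → A5 := ![a5, b5, a5 * b5]

/-- the least dimensions -/
def mn : Fin 3 → ℕ := ![120, 80, 48]

theorem gn_pow : ∀ i, gn i ^ mm i = 1 := by decide +kernel

theorem conj_gn : ∀ (i : Fin 3) (a : A5), a ^ mm i = 1 → a ≠ 1 →
    ∃ g : A5, a * g = g * gn i ∨ a ^ 2 * g = g * gn i := by decide +kernel

theorem tb_mn : ∀ i : Fin 3, ∀ x ∈ tb (mm i), mn i ≤ x.2 ∧
    (x.2 ≤ mn i → (fun k : Fin 8 => ((x.1.getD k 0 : ℕ) : ℤ)) = Pi.single (nd i) 1) := by decide +kernel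

theorem a5_perfect : commutator A5 = ⊤ := by
  refine (IsSimpleGroup.eq_bot_or_eq_top_of_normal (commutator A5) inferInstance).resolve_left fun h0 => ?_
  rw [commutator_eq_bot_iff_center_eq_top] at h0
  have h1 : a5 * b5 = b5 * a5 := Subgroup.mem_center_iff.1 (h0 ▸ Subgroup.mem_top b5) a5
  revert h1
  decide

theorem com_top_of {K V G : Type*} [Field K] [AddCommGroup V] [Module K V] [Group G] [Finite G]
    (hG : (Nat.card G : K) ≠ 0) (ρ : Representation K G V) (h : ∀ v, (∀ a, ρ a v = v) → v = 0) :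
    ⨆ a, comSp (ρ a) = ⊤ := by
  have := Fintype.ofFinite G
  rw [eq_top_iff]
  intro v _
  have h1 : ∑ a, ρ a v = 0 := by
    refine h _ fun b => ?_
    rw [map_sum]
    simp only [← FP3.rep_mul_apply]
    exact Equiv.sum_comp (Equiv.mulLeft b) fun a => ρ a v
  have h2 : ∑ a, (ρ a v - v) ∈ ⨆ a, comSp (ρ a) :=
    Submodule.sum_mem _ fun a _ => Submodule.mem_iSup_of_mem a (sub_mem_comSp _ _)
  rw [Finset.sum_sub_distrib, h1, zero_sub, Finset.sum_const, Finset.card_univ, ← Nat.card_eq_fintype_card,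
    ← Nat.cast_smul_eq_nsmul K] at h2
  have h3 := Submodule.smul_mem _ (-(Nat.card G : K)⁻¹) h2
  rwa [smul_neg, neg_smul, neg_neg, smul_smul, inv_mul_cancel₀ hG, one_smul] at h3

theorem dfx_le_sq {K V : Type*} [Field K] [AddCommGroup V] [Module K V] [FiniteDimensional K V] (u : Module.End K V) :
    dfx u ≤ dfx (u ^ 2) := by
  refine Submodule.finrank_mono fun w hw => ?_
  rw [mem_fixSp] at hw ⊢
  rw [pow_two, Module.End.mul_apply, hw, hw]

theorem cls : CLS.{u} := by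
  intro F _ _ p _ hp φ hφ i a ζ ha hζ
  have hpp : p.Prime := (CharP.char_is_prime_or_zero F p).resolve_right (by omega)
  have := Fact.mk hpp
  have hK : CharP (Kb F) p := charP_of_injective_algebraMap (algebraMap F (Kb F)).injective p
  have hcop : ∀ m : ℕ, 0 < m → m < 7 → m.Coprime p := fun m h0 h7 =>
    (hpp.coprime_iff_not_dvd.2 (Nat.not_dvd_of_pos_of_lt h0 (by omega))).symm
  have hmm : ∀ j, mm j ∈ [2, 3, 5] ∧ 0 < mm j ∧ mm j < 7 ∧ mm j ≠ 1 := by decide
  let ρ : Representation (Kb F) A5 (L8 (Kb F)) := (LK (Kb F)).comp φ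
  have h60 : ((Nat.card A5 : ℕ) : Kb F) ≠ 0 := by
    rw [card_alternating5, Ne, CharP.cast_eq_zero_iff (Kb F) p, ← hpp.coprime_iff_not_dvd]
    exact ((((hcop 3 (by norm_num) (by norm_num)).mul_left (hcop 4 (by norm_num) (by norm_num))).mul_left
      (hcop 5 (by norm_num) (by norm_num)))).symm
  have h1 := a1_scott a5_perfect closure_a5_b5 ρ hφ (com_top_of h60 ρ hφ) isUnit_one fun s => by
    rw [mul_one, one_mul]
  rw [mul_one, mul_one] at h1
  have h4 : finrank (Kb F) (L8 (Kb F)) = 248 := by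
    rw [Module.finrank_fintype_fun_eq_card, Fintype.card_sum, Fintype.card_fin, Fintype.card_fin]
    rfl
  have h2 : ∀ j, mn j ≤ dfx (ρ (gn j)) := by
    intro j
    obtain ⟨ξ, hξ⟩ := exists_prim (F := F) p (hcop _ (hmm j).2.1 (hmm j).2.2.1)
    obtain ⟨x, hx, -, hd⟩ := exists_tb p (hmm j).1 (hcop _ (hmm j).2.1 (hmm j).2.2.1) hξ (g := φ (gn j))
      (by rw [← map_pow, gn_pow, map_one])
    exact (tb_mn j x hx).1.trans hd.ge
  have h3 : dfx (ρ (gn i)) ≤ mn i := by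
    have e0 : 120 ≤ dfx (ρ a5) := h2 0
    have e1 : 80 ≤ dfx (ρ b5) := h2 1
    have e2 : 48 ≤ dfx (ρ (a5 * b5)) := h2 2
    fin_cases i
    · change dfx (ρ a5) ≤ 120
      omega
    · change dfx (ρ b5) ≤ 80
      omega
    · change dfx (ρ (a5 * b5)) ≤ 48
      omega
  have hpow : a ^ mm i = 1 := by rw [← ha, pow_orderOf_eq_one]
  have h5 : dfx (ρ a) ≤ dfx (ρ (gn i)) := by
    have h6 : ∀ b g : A5, b * g = g * gn i → dfx (ρ b) ≤ dfx (ρ (gn i)) := by
      intro b g h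
      refine dfx_le_of_semi (e := ρ g⁻¹) (act_injective (φ g⁻¹)) ?_
      rw [← map_mul, ← map_mul]
      congr 1
      rw [eq_inv_mul_iff_mul_eq, ← mul_assoc, ← h, mul_inv_cancel_right]
    obtain ⟨g, h | h⟩ := conj_gn i a hpow (fun h => (hmm i).2.2.2 (by rw [← ha, h, orderOf_one]))
    · exact h6 _ g h
    · exact (dfx_le_sq (ρ a)).trans (by rw [← map_pow]; exact h6 _ g h)
  obtain ⟨x, hx, ⟨c, hc⟩, hd⟩ := exists_tb p (hmm i).1 (hcop _ (hmm i).2.1 (hmm i).2.2.1) hζ (g := φ a)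
    (by rw [← map_pow, hpow, map_one])
  refine ⟨c, ?_⟩
  rw [hc, (tb_mn i x hx).2 (hd.ge.trans (h5.trans h3)), dz]
  congr 2
  funext j
  congr 1
  rw [ex, Finset.sum_eq_single (nd i) (fun k _ hk => by rw [Pi.single_eq_of_ne hk, mul_zero])
    (fun h => absurd (Finset.mem_univ _) h), Pi.single_eq_same, mul_one, lam]

end Cfsg.Agent.E8A.Reg5.Cls
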