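import Cfsg.Agent.E8A.Reg5.Iface2

/-!
# The box FIN, part 1: frames, data, rigidity (helper43)

* `xv`, `uu`, `vv` : the frames with parameters; `frm_uu`, `mov_uu`;
* `Dat`, `gam`, `Dat.glue` : the data and the gluing;
* `Dat.rigid` : a derivation which kills the three products kills all parameters.
-/

set_option autoImplicit false
set_option linter.unusedSectionVars false

namespace Cfsg.Agent.E8A.Reg5.Fin

open Matrix MvPolynomial Ico

universe u v w

variable {ι : Type} [Fintype ι] [DecidableEq ι] {A : ι → Matrix ι ι ℤ}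
variable {k : Type u} [Field k] {R : Type v} [CommRing R] [Algebra k R] {S : Type w} [CommRing S] [Algebra k S]
variable {Γ P : Type} [Group Γ] [Fintype Γ] [Fintype P] {π : Γ →* A5}
variable {I : Ico k Γ P π} {d : Fin 3 → ι → ℤ} {φ φ' : Γ →* Matrix ι ι k}

/-- the parameters -/
abbrev Par (d : Fin 3 → ι → ℤ) : Type := {t : Fin 3 × ι // d t.1 t.2 = -(mm t.1 : ℤ)}

/-- the vector of lowest degree with given parameters -/
def xv (b : Par d → R) (i : Fin 3) : ι → R := fun a => if h : d i a = -(mm i : ℤ) then b ⟨(i, a), h⟩ else 0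

omit [Algebra k R] in
theorem xv_sp (b : Par d → R) (i : Fin 3) : Sp (d i) (· = -(mm i : ℤ)) (xv b i) := by
  intro a ha
  by_contra h
  exact ha (dif_neg h)

theorem xv_map (f : R →ₐ[k] S) (b : Par d → R) (i : Fin 3) : (fun a => f (xv b i a)) = xv (fun t => f (b t)) i := by
  funext a
  unfold xv
  split_ifs
  · rfl
  · exact map_zero f

omit [Algebra k R] in
theorem xv_add (b e : Par d → R) (ε : R) (i : Fin 3) : xv (fun t => b t + ε * e t) i = xv b i + ε • xv e i := by
  funext a
  rw [Pi.add_apply, Pi.smul_apply, smul_eq_mul]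
  unfold xv
  split_ifs
  · rfl
  · rw [mul_zero, add_zero]

omit [Algebra k R] in
theorem xv_self (b : Par d → R) (t : Par d) : xv b t.1.1 t.1.2 = b t := dif_pos t.2

omit [Algebra k R] in
theorem sh3 {e : ι → ℤ} {m : ℕ} (h : GrB A e m) {L M N : Matrix ι ι R} (hL : Sh e (· = -(m : ℤ)) L)
    (hM : Sh e (· = -(m : ℤ)) M) (hN : Sh e (· = -(m : ℤ)) N) : L * M * N = 0 := by
  have h1 : Sh e (· = -(m : ℤ) + -(m : ℤ) + -(m : ℤ)) (L * M * N) :=
    (hL.mul hM (T := (· = -(m : ℤ) + -(m : ℤ))) fun s t hs ht => by rw [hs, ht]).mul hN fun s t hs ht => by rw [hs, ht]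
  refine h1.eq_zero fun a b hab => ?_
  have := h.lb a
  have := h.ub b
  have := h.pos
  omega

theorem ad_comm (hG : Good A k) {e : ι → ℤ} {m : ℕ} (h : GrB A e m) {x y : ι → R} (hx : Sp e (· = -(m : ℤ)) x)
    (hy : Sp e (· = -(m : ℤ)) y) : ad A x * ad A y = ad A y * ad A x := by
  have h1 : Sp e (· = -(m : ℤ) + -(m : ℤ)) (ad A x *ᵥ y) := (h.gr.sh hx).sp hy fun s t hs ht => by rw [hs, ht]
  have h2 : ad A x *ᵥ y = 0 := by
    funext a
    by_contra ha
    have h3 : e a = -(m : ℤ) + -(m : ℤ) := h1 a ha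
    have := h.lb a
    have := h.pos
    omega
  rw [← sub_eq_zero, ← hG.jacR, h2, ad_zero]

variable (A k) in
/-- the frames -/
noncomputable def uu (c' : Fin 3 → Matrix ι ι k) (b : Par d → R) (i : Fin 3) : Matrix ι ι R :=
  ex k (-ad A (xv b i)) * fk R (c' i)

variable (A k) in
/-- their inverses -/
noncomputable def vv (c : Fin 3 → Matrix ι ι k) (b : Par d → R) (i : Fin 3) : Matrix ι ι R :=
  fk R (c i) * ex k (ad A (xv b i))

theorem uu_map (f : R →ₐ[k] S) (c' : Fin 3 → Matrix ι ι k) (b : Par d → R) (i : Fin 3) :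
    (uu A k c' b i).map f = uu A k c' (fun t => f (b t)) i := by
  unfold uu
  rw [amap_mul, fk_map, ex_map, ← ad_neg, ← ad_neg, ← xv_map f]
  congr 2
  refine (ad_map (f : R →+* S) _).trans ?_
  congr 1
  funext a
  exact map_neg f _

theorem diag_comm {e : ι → ℤ} {m : ℕ} {ζ : k} (h0 : ζ ≠ 0) (hζ : ζ ^ m = 1) {M : Matrix ι ι R}
    (hM : Sh e (fun s => (m : ℤ) ∣ s) M) :
    M * fk R (diagonal fun a => ζ ^ e a) = fk R (diagonal fun a => ζ ^ e a) * M := by
  unfold fk
  rw [Matrix.diagonal_map (map_zero _)]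
  ext a b
  rw [Matrix.mul_diagonal, Matrix.diagonal_mul, mul_comm]
  by_cases h : M a b = 0
  · rw [h, mul_zero, mul_zero]
  · obtain ⟨c, hc⟩ := hM a b h
    have h1 : e a = e b + m * c := by omega
    rw [h1, zpow_add₀ h0, _root_.zpow_mul, zpow_natCast, hζ, _root_.one_zpow, mul_one]

theorem frm_uu (hG : Good A k) (hd : ∀ i, GrB A (d i) (mm i)) {c c' : Fin 3 → Matrix ι ι k} (hc : ∀ i, c i * c' i = 1)
    (ht : ∀ i, Tw A 1 (c i)) (he : ∀ i, φ (I.g i) * c i = c i * diagonal fun a => I.ζ i ^ d i a) (b : Par d → R) :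
    Frm A I d φ (uu A k c' b) (vv A k c b) := by
  have hs : ∀ i, Sh (d i) (· = -(mm i : ℤ)) (ad A (xv b i)) := fun i => (hd i).gr.sh (xv_sp b i)
  have hc' : ∀ i, c' i * c i = 1 := fun i => mul_eq_one_comm.1 (hc i)
  refine ⟨fun i => ?_, fun i => ?_, fun i => ?_⟩
  · unfold uu vv
    rw [Matrix.mul_assoc, ← Matrix.mul_assoc (fk R (c' i)), ← fk_mul, hc', fk_one, Matrix.one_mul]
    exact mul_eq_one_comm.1 (ex_mul_neg hG.two (sh3 (hd i) (hs i) (hs i) (hs i)))
  · refine Tw.mul1 ?_ ((ht i).inv (hc i)).fk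
    rw [← ad_neg]
    refine hG.tw_ex ?_
    rw [ad_neg]
    exact sh3 (hd i) (hs i).neg (hs i).neg (hs i).neg
  · unfold uu
    have h1 : c' i * φ (I.g i) = (diagonal fun a => I.ζ i ^ d i a) * c' i := by
      calc c' i * φ (I.g i) = c' i * (φ (I.g i) * c i) * c' i := by
            rw [Matrix.mul_assoc, Matrix.mul_assoc, hc, Matrix.mul_one]
        _ = _ := by rw [he, ← Matrix.mul_assoc, hc', Matrix.one_mul]
    rw [Matrix.mul_assoc, ← fk_mul, h1, fk_mul, ← Matrix.mul_assoc, ← Matrix.mul_assoc]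
    congr 1
    refine diag_comm (m := mm i) (I.ζ_ne i) (I.prim i).pow_eq_one ?_
    exact Sh.exp ((hs i).neg.mono fun s h => by rw [h]; exact (dvd_refl _).neg_right) (dvd_zero _)
      fun s t => dvd_add

theorem uu_add (hG : Good A k) (hd : ∀ i, GrB A (d i) (mm i)) (c' : Fin 3 → Matrix ι ι k) (b e : Par d → R) {ε : R}
    (hε : ε * ε = 0) (i : Fin 3) :
    uu A k c' (fun t => b t + ε * e t) i = (1 - ε • ad A (xv e i)) * uu A k c' b i := by
  have hb : Sh (d i) (· = -(mm i : ℤ)) (ad A (xv b i)) := (hd i).gr.sh (xv_sp b i)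
  have he : Sh (d i) (· = -(mm i : ℤ)) (ad A (xv e i)) := (hd i).gr.sh (xv_sp e i)
  have h1 : ex k (-(ε • ad A (xv e i))) = 1 - ε • ad A (xv e i) := by
    unfold ex
    rw [Matrix.neg_mul, Matrix.mul_neg, neg_neg, Matrix.smul_mul, Matrix.mul_smul, smul_smul ε, hε, zero_smul, smul_zero,
      add_zero, sub_eq_add_neg]
  unfold uu
  rw [xv_add, ad_add, ad_smul, ← Matrix.mul_assoc, ← h1, ex_mul hG.two, neg_add, add_comm]
  · rw [Matrix.neg_mul, Matrix.mul_neg, Matrix.neg_mul, Matrix.mul_neg, Matrix.smul_mul, Matrix.mul_smul,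
      ad_comm hG (hd i) (xv_sp e i) (xv_sp b i)]
  · exact sh3 (hd i) (he.smul ε).neg (he.smul ε).neg hb.neg
  · exact sh3 (hd i) (he.smul ε).neg hb.neg hb.neg

/-! ### dual numbers -/

section Dual

variable {K : Type u} [Field K] [Algebra k K]

theorem dual_eq (D : Derivation k K K) (a : K) :
    dual D a = inD k K a + (DualNumber.eps : DualNumber K) * inD k K (D a) := by
  show TrivSqZeroExt.inl a + TrivSqZeroExt.inr (D a) = TrivSqZeroExt.inl a + DualNumber.eps * TrivSqZeroExt.inl (D a)
  ext <;> simp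

theorem map_dual (D : Derivation k K K) (M : Matrix ι ι K) :
    M.map (dual D) = M.map (inD k K) + (DualNumber.eps : DualNumber K) • (M.map D).map (inD k K) := by
  ext1 a b
  exact dual_eq D _

theorem eps_cancel {M N : Matrix ι ι K}
    (h : (DualNumber.eps : DualNumber K) • M.map (inD k K) = (DualNumber.eps : DualNumber K) • N.map (inD k K)) : M = N := by
  ext a b
  have h1 := congrArg TrivSqZeroExt.snd (congrFun (congrFun h a) b)
  simpa using h1

theorem map_dual_iff (D : Derivation k K K) (M : Matrix ι ι K) :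
    M.map (dual D) = M.map (inD k K) ↔ ∀ a b, D (M a b) = 0 := by
  rw [map_dual, add_eq_left]
  constructor
  · intro h a b
    have h1 : M.map D = 0 := eps_cancel (k := k) (by rw [h, Matrix.map_zero _ (map_zero _), smul_zero])
    exact congrFun (congrFun h1 a) b
  · intro h
    have h1 : M.map D = 0 := by
      ext a b
      exact h a b
    rw [h1, Matrix.map_zero _ (map_zero _), smul_zero]

theorem uu_dual (hG : Good A k) (hd : ∀ i, GrB A (d i) (mm i)) (c' : Fin 3 → Matrix ι ι k) (b : Par d → K)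
    (D : Derivation k K K) (i : Fin 3) : (uu A k c' b i).map (dual D) =
      (1 - (DualNumber.eps : DualNumber K) • (ad A (xv (fun t => D (b t)) i)).map (inD k K)) *
        (uu A k c' b i).map (inD k K) := by
  have h1 : (ad A (xv (fun t => D (b t)) i)).map (inD k K) = ad A (xv (fun t => inD k K (D (b t))) i) := by
    rw [← xv_map (inD k K)]
    exact ad_map (inD k K : K →+* DualNumber K) _
  rw [uu_map, uu_map, h1, ← uu_add hG hd c' _ _ DualNumber.eps_mul_eps]
  congr 1
  funext t
  exact dual_eq D _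

theorem mov_uu (hG : Good A k) (hd : ∀ i, GrB A (d i) (mm i)) (c' : Fin 3 → Matrix ι ι k) {b : Par d → K}
    (hb : ∀ s, ∃ D : Derivation k K K, ∀ t, D (b t) = if t = s then 1 else 0) : Mov A d k (uu A k c' b) := by
  intro i β hβ
  obtain ⟨D, hD⟩ := hb ⟨(i, β), hβ⟩
  refine ⟨dual D, fun a => ?_, fun j hj => ?_, ?_⟩
  · show (TrivSqZeroExt.inl a + TrivSqZeroExt.inr (D a)).fst = a
    simp
  · have h1 : xv (fun t => D (b t)) j = 0 := by
      funext a
      unfold xv
      split_ifs with h
      · exact (hD _).trans (if_neg fun e => hj (congrArg (fun t : Par d => t.1.1) e))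
      · rfl
    rw [uu_dual hG hd, h1, ad_zero, Matrix.map_zero _ (map_zero _), smul_zero, sub_zero, Matrix.one_mul]
  · have h1 : xv (fun t => D (b t)) i = Pi.single β 1 := by
      funext a
      unfold xv
      by_cases e : a = β
      · subst e
        rw [dif_pos hβ, Pi.single_eq_same]
        exact (hD _).trans (if_pos rfl)
      · rw [Pi.single_eq_of_ne e]
        split_ifs with h
        · exact (hD _).trans (if_neg fun e' => e (congrArg (fun t : Par d => t.1.2) e'))
        · rfl
    have h2 : (ad A (Pi.single β (1 : K))).map (inD k K) = ad A (Pi.single β (1 : DualNumber K)) := by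
      refine (ad_map (inD k K : K →+* DualNumber K) _).trans ?_
      congr 1
      funext a
      by_cases e : a = β
      · rw [e, Pi.single_eq_same, Pi.single_eq_same, map_one]
      · rw [Pi.single_eq_of_ne e, Pi.single_eq_of_ne e, map_zero]
    rw [uu_dual hG hd, h1, h2, ← Matrix.mul_assoc, Matrix.add_mul, Matrix.one_mul, Matrix.mul_sub, Matrix.mul_one,
      Matrix.smul_mul, Matrix.mul_smul, smul_smul, DualNumber.eps_mul_eps, zero_smul, sub_zero, sub_add_cancel,
      Matrix.one_mul]

end Dual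

/-! ### the data -/

variable (A) in
/-- the data -/
structure Dat (I : Ico k Γ P π) (d : Fin 3 → ι → ℤ) (φ : Γ →* Matrix ι ι k) (U V : Fin 3 → Matrix ι ι R)
    (Φ : Matrix ι ι (Fm R)) (g g' : Option (Fin 3) → Matrix ι ι R) : Prop where
  frm : Frm A I d φ U V
  str : Str A I d φ U Φ
  inv : ∀ c, g c * g' c = 1
  tw : ∀ c, Tw A 1 (g c)
  sh : ∀ i, Sh (d i) (· ≤ 0) (g (some i))
  sh' : ∀ i, Sh (d i) (· ≤ 0) (g' (some i))

variable {U V U' V' : Fin 3 → Matrix ι ι R} {Φ Φ' : Matrix ι ι (Fm R)} {g g' h h' : Option (Fin 3) → Matrix ι ι R}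

theorem Dat.map (H : Dat A I d φ U V Φ g g') (f : R →ₐ[k] S) :
    Dat A I d φ (fun i => (U i).map f) (fun i => (V i).map f) (Φ.map (mf f)) (fun c => (g c).map f)
      (fun c => (g' c).map f) where
  frm := H.frm.map f
  str := H.str.map f
  inv c := by rw [← amap_mul, H.inv, amap_one]
  tw c := (H.tw c).map1 (f : R →+* S)
  sh i := (H.sh i).map f
  sh' i := (H.sh' i).map f

variable (A I d) in
/-- the three products -/
noncomputable def gam (U : Fin 3 → Matrix ι ι R) (Φ : Matrix ι ι (Fm R)) (g : Option (Fin 3) → Matrix ι ι R) (i : Fin 3) :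
    Matrix ι ι R := g none * st A k (am I d U Φ i) * g (some i)

theorem gam_map (f : R →ₐ[k] S) (U : Fin 3 → Matrix ι ι R) (Φ : Matrix ι ι (Fm R)) (g : Option (Fin 3) → Matrix ι ι R)
    (i : Fin 3) : (gam A I d U Φ g i).map f =
      gam A I d (fun i => (U i).map f) (Φ.map (mf f)) (fun c => (g c).map f) i := by
  unfold gam
  rw [amap_mul, amap_mul, st_map, am_map]

theorem Dat.gam_tw (hG : Good A k) (hd : ∀ i, GrB A (d i) (mm i)) (H : Dat A I d φ U V Φ g g') (i : Fin 3) :
    Tw A 1 (gam A I d U Φ g i) ∧ gam A I d U Φ g i * (g' (some i) * am I d U Φ i * g' none) = 1 := by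
  obtain ⟨h1, h2⟩ := H.str.am_tw hd H.frm i
  refine ⟨((H.tw none).mul1 (hG.tw_st isRegular_one h2 h1)).mul1 (H.tw _), ?_⟩
  unfold gam
  have h3 := mul_eq_one_comm.1 (H.str.am_st hG hd H.frm i)
  calc _ = g none * (st A k (am I d U Φ i) * (g (some i) * g' (some i)) * am I d U Φ i) * g' none := by
        simp only [Matrix.mul_assoc]
    _ = 1 := by rw [H.inv, Matrix.mul_one, h3, Matrix.mul_one, H.inv]

theorem Dat.glue (hG : Good A k) (hd : ∀ i, GrB A (d i) (mm i)) (hφ : Rep A I φ) (H : Dat A I d φ U V Φ g g')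
    (H' : Dat A I d φ' U' V' Φ' h h') (he : ∀ i, gam A I d U Φ g i = gam A I d U' Φ' h i) :
    (h' none * g none) * (g' none * h none) = 1 ∧ Tw A 1 (h' none * g none) ∧
      Φ' * cs (h' none * g none) = cs (h' none * g none) * Φ ∧
      ∀ γ, fk R (φ' γ) * (h' none * g none) = (h' none * g none) * fk R (φ γ) := by
  have h1 : (h' none * g none) * (g' none * h none) = 1 := by
    rw [Matrix.mul_assoc, ← Matrix.mul_assoc (g none), H.inv, Matrix.one_mul, mul_eq_one_comm.1 (H'.inv none)]
  have h2 : Tw A 1 (h' none * g none) := ((H'.tw none).inv (H'.inv none)).mul1 (H.tw none)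
  refine ⟨h1, h2, Str.glue hG hd hφ H.frm H'.frm H.str H'.str h2 h1 fun i => ?_⟩
  have h3 : am I d U' Φ' i * (h' none * g none) * st A k (am I d U Φ i) = h (some i) * g' (some i) := by
    calc _ = am I d U' Φ' i * h' none * (gam A I d U Φ g i * g' (some i)) := by
          unfold gam
          rw [Matrix.mul_assoc _ (g (some i)), H.inv, Matrix.mul_one]
          simp only [Matrix.mul_assoc]
      _ = am I d U' Φ' i * ((h' none * h none) * st A k (am I d U' Φ' i)) * (h (some i) * g' (some i)) := by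
          rw [he]
          unfold gam
          simp only [Matrix.mul_assoc]
      _ = _ := by
          rw [mul_eq_one_comm.1 (H'.inv none), Matrix.one_mul, H'.str.am_st hG hd H'.frm, Matrix.one_mul]
  rw [h3]
  exact (H'.sh i).mul (H.sh' i) fun s t hs ht => add_nonpos hs ht

theorem nofix_ext (I : Ico k Γ P π) (hf : ∀ v : ι → k, (∀ γ, φ γ *ᵥ v = v) → v = 0) {K : Type v} [Field K] [Algebra k K]
    {w : ι → K} (hw : ∀ γ, fk K (φ γ) *ᵥ w = w) : w = 0 := by
  have h1 : ∑ γ, φ γ = 0 := by
    refine ext_mulVec fun j => ?_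
    rw [Matrix.zero_mulVec]
    refine hf _ fun γ => ?_
    rw [Matrix.mulVec_mulVec, Finset.mul_sum]
    congr 1
    exact Fintype.sum_equiv (Equiv.mulLeft γ) _ _ fun x => (map_mul φ γ x).symm
  have h2 : ∑ γ, fk K (φ γ) = 0 := by
    have h3 := map_sum (algebraMap k K).mapMatrix (fun γ => φ γ) Finset.univ
    rw [h1, map_zero] at h3
    exact h3.symm
  have h4 : (Fintype.card Γ : K) • w = 0 := by
    have h5 := congrArg (fun M => M *ᵥ w) h2
    simp only [Matrix.sum_mulVec, hw, Matrix.zero_mulVec, Finset.sum_const, Finset.card_univ] at h5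
    rwa [Nat.cast_smul_eq_nsmul]
  refine (smul_eq_zero.1 h4).resolve_left ?_
  rw [← map_natCast (algebraMap k K)]
  exact (map_ne_zero _).2 I.card

/-- **Rigidity.** -/
theorem Dat.rigid {K : Type u} [Field K] [Algebra k K] (hG : Good A k) (hd : ∀ i, GrB A (d i) (mm i)) (hφ : Rep A I φ)
    (hf : ∀ v : ι → k, (∀ γ, φ γ *ᵥ v = v) → v = 0) {c' : Fin 3 → Matrix ι ι k} {b : Par d → K}
    {V : Fin 3 → Matrix ι ι K} {Φ : Matrix ι ι (Fm K)} {g g' : Option (Fin 3) → Matrix ι ι K}
    (H : Dat A I d φ (uu A k c' b) V Φ g g') (D : Derivation k K K)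
    (hD : ∀ i a e, D (gam A I d (uu A k c' b) Φ g i a e) = 0) : (∀ t, D (b t) = 0) ∧ ∀ c a e, D (g c a e) = 0 := by
  have Hf := H.map (dual D)
  have Hz := H.map (inD k K)
  have he : ∀ i, gam A I d (fun i => (uu A k c' b i).map (dual D)) (Φ.map (mf (dual D))) (fun c => (g c).map (dual D)) i =
      gam A I d (fun i => (uu A k c' b i).map (inD k K)) (Φ.map (mf (inD k K))) (fun c => (g c).map (inD k K)) i := by
    intro i
    rw [← gam_map, ← gam_map]
    exact (map_dual_iff D _).2 (hD i)
  obtain ⟨-, h2, h3, h4⟩ := Dat.glue hG hd hφ Hf Hz he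
  obtain ⟨N, hN⟩ : ∃ N, N = g' none * (g none).map D := ⟨_, rfl⟩
  have hx : (g' none).map (inD k K) * (g none).map (dual D) =
      1 + (DualNumber.eps : DualNumber K) • N.map (inD k K) := by
    rw [map_dual, Matrix.mul_add, ← amap_mul, mul_eq_one_comm.1 (H.inv none), amap_one, Matrix.mul_smul, ← amap_mul, hN]
  rw [hx] at h2 h3 h4
  have h5 : ∀ y, ad A (N *ᵥ y) = N * ad A y - ad A y * N := by
    intro y
    have h6 := h2 fun j => inD k K (y j)
    have e1 : N.map (inD k K) *ᵥ (fun j => inD k K (y j)) = fun j => inD k K ((N *ᵥ y) j) :=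
      (mulVec_map (inD k K : K →+* DualNumber K) N y).symm
    have e2 : ∀ z : ι → K, ad A (fun j => inD k K (z j)) = (ad A z).map (inD k K) := fun z =>
      (ad_map (inD k K : K →+* DualNumber K) z).symm
    rw [one_smul, Matrix.add_mulVec, Matrix.one_mulVec, Matrix.smul_mulVec, e1, ad_add, ad_smul, e2, e2, Matrix.add_mul,
      Matrix.mul_add, Matrix.mul_add, Matrix.add_mul, Matrix.mul_one, Matrix.mul_one, Matrix.one_mul, Matrix.mul_smul,
      Matrix.smul_mul, Matrix.smul_mul, Matrix.mul_smul, smul_smul, DualNumber.eps_mul_eps, zero_smul, add_zero,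
      add_assoc, add_right_inj, ← amap_mul, ← amap_mul, ← smul_add,
      ← Matrix.map_add _ (map_add (inD k K))] at h6
    rw [← eps_cancel h6, add_sub_cancel_left]
  obtain ⟨w, hw⟩ := hG.exists_eq_ad h5
  have h6 : w = 0 := by
    refine nofix_ext I hf fun γ => hG.ad_inj ?_
    have h7 := h4 γ
    rw [Matrix.mul_add, Matrix.add_mul, Matrix.mul_one, Matrix.one_mul, add_right_inj, Matrix.mul_smul, Matrix.smul_mul,
      ← fk_map (inD k K), ← amap_mul, ← amap_mul] at h7
    rw [(hφ.tw γ).fk.conj (fk_inv φ γ), ← hw, eps_cancel h7, Matrix.mul_assoc, fk_inv, Matrix.mul_one]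
  rw [h6, ad_zero] at hw
  have h7 : (g none).map D = 0 := by
    rw [← Matrix.one_mul ((g none).map D), ← H.inv none, Matrix.mul_assoc, ← hN, hw, Matrix.mul_zero]
  rw [hw, Matrix.map_zero _ (map_zero _), smul_zero, add_zero, C_one', Matrix.mul_one, Matrix.one_mul] at h3
  have h8 : ∀ t, D (b t) = 0 := by
    intro t
    obtain ⟨E, hE⟩ : ∃ E, E = (DualNumber.eps : DualNumber K) • (ad A (xv (fun t => D (b t)) t.1.1)).map (inD k K) :=
      ⟨_, rfl⟩
    have h9 : E = 0 := by
      refine loc_rigid hG (hd t.1.1) (I.δ_unit t.1.1) (Hz.str.loc Hz.frm t.1.1) ?_ fun a e => ?_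
      · rw [hE]
        exact (((hd t.1.1).gr.sh (xv_sp _ _)).map _).smul _
      · have h10 := Hf.str.dvd t.1.1 a e
        have h11 := Hz.str.dvd t.1.1 a e
        rw [← h3, uu_dual hG hd, ← hE, Matrix.sub_mul, Matrix.one_mul] at h10
        have h12 := dvd_sub h11 h10
        have e3 : cs ((uu A k c' b t.1.1).map (inD k K) - E * (uu A k c' b t.1.1).map (inD k K)) =
            cs ((uu A k c' b t.1.1).map (inD k K)) - cs E * cs ((uu A k c' b t.1.1).map (inD k K)) := by
          rw [← C_mul']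
          exact Matrix.map_sub _ (map_sub _) _ _
        rw [e3, Matrix.sub_mul, Matrix.sub_apply, sub_sub_cancel, Matrix.mul_assoc,
          I.dvd_iff _ ((Hz.str.hom.C_mul _).C_mul E a e)] at h12
        have e4 := congrFun (congrFun (amap_mul (I.c (DualNumber K) t.1.1) (cs E)
          (cs ((uu A k c' b t.1.1).map (inD k K)) * Φ.map (mf (inD k K)))) a) e
        rw [Matrix.map_apply, amap_C] at e4
        rw [e4] at h12
        exact h12
    have h10 : ad A (xv (fun t => D (b t)) t.1.1) = 0 :=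
      eps_cancel (k := k) (by rw [← hE, h9, Matrix.map_zero _ (map_zero _), smul_zero])
    have h11 := congrFun (hG.ad_eq_zero h10) t.1.2
    rwa [xv_self] at h11
  refine ⟨h8, ?_⟩
  rintro (_ | i)
  · exact fun a e => congrFun (congrFun h7 a) e
  · have h9 : (fun i => (uu A k c' b i).map (dual D)) = fun i => (uu A k c' b i).map (inD k K) := by
      funext j
      have h10 : xv (fun t => D (b t)) j = 0 := by
        funext a
        unfold xv
        split_ifs
        · exact h8 _
        · rfl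
      rw [uu_dual hG hd, h10, ad_zero, Matrix.map_zero _ (map_zero _), smul_zero, sub_zero, Matrix.one_mul]
    have h10 := he i
    unfold gam at h10
    beta_reduce at h10
    rw [h9, ← h3, (map_dual_iff D (g none)).2 fun a e => congrFun (congrFun h7 a) e] at h10
    rw [← map_dual_iff]
    have h11 := congrArg (fun M => am I d (fun i => (uu A k c' b i).map (inD k K)) (Φ.map (mf (inD k K))) i *
      (g' none).map (inD k K) * M) h10
    have h12 : ∀ M, am I d (fun i => (uu A k c' b i).map (inD k K)) (Φ.map (mf (inD k K))) i * (g' none).map (inD k K) *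
        ((g none).map (inD k K) * st A k (am I d (fun i => (uu A k c' b i).map (inD k K)) (Φ.map (mf (inD k K))) i) * M) =
        M := by
      intro M
      calc _ = am I d (fun i => (uu A k c' b i).map (inD k K)) (Φ.map (mf (inD k K))) i *
            (((g' none).map (inD k K) * (g none).map (inD k K)) *
              st A k (am I d (fun i => (uu A k c' b i).map (inD k K)) (Φ.map (mf (inD k K))) i)) * M := by
            simp only [Matrix.mul_assoc]
        _ = M := by
            rw [mul_eq_one_comm.1 (Hz.inv none), Matrix.one_mul, Hz.str.am_st hG hd Hz.frm, Matrix.one_mul]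
    simp only [h12] at h11
    exact h11

end Cfsg.Agent.E8A.Reg5.Fin
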