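import Cfsg.Agent.E8A.Reg5.Ico

/-!
# Binary forms over a commutative algebra (helper42)

* `sb M` : linear substitution; `lf v` : the linear form vanishing at `v`; `ev v` : evaluation; `ch v w` : the chart
  `τ ↦ v + τ w`; `mf f` : change of the coefficients;
* `expand_ch`, `lf_pow_dvd_iff` : divisibility by a power of `lf v` is seen in the chart;
* `exists_quot`, `prod_dvd` : quotients of forms, products of powers of independent linear forms.
-/

set_option autoImplicit false
set_option linter.unusedSectionVars false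

namespace Cfsg.Agent.E8A.Reg5

open Matrix MvPolynomial

universe u v w

/-- binary forms -/
abbrev Fm (R : Type v) [CommRing R] : Type v := MvPolynomial (Fin 2) R

variable {k : Type u} [Field k] {R : Type v} [CommRing R] [Algebra k R] {S : Type w} [CommRing S] [Algebra k S]

variable (R) in
/-- linear substitution -/
noncomputable def sb (M : Matrix (Fin 2) (Fin 2) k) : Fm R →ₐ[R] Fm R :=
  aeval fun i => C (algebraMap k R (M i 0)) * X 0 + C (algebraMap k R (M i 1)) * X 1

variable (R) in
/-- the linear form which vanishes at `v` -/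
noncomputable def lf (v : Fin 2 → k) : Fm R := C (algebraMap k R (v 0)) * X 1 - C (algebraMap k R (v 1)) * X 0

variable (R) in
/-- evaluation -/
noncomputable def ev (v : Fin 2 → k) : Fm R →ₐ[R] R := aeval fun i => algebraMap k R (v i)

variable (R) in
/-- the chart -/
noncomputable def ch (v w : Fin 2 → k) : Fm R →ₐ[R] Polynomial R :=
  aeval fun i => Polynomial.C (algebraMap k R (v i)) + Polynomial.C (algebraMap k R (w i)) * Polynomial.X

/-- change of the coefficients -/
noncomputable def mf (f : R →ₐ[k] S) : Fm R →ₐ[k] Fm S := mapAlgHom f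

theorem mf_apply (f : R →ₐ[k] S) (P : Fm R) : mf f P = MvPolynomial.map (f : R →+* S) P := rfl

theorem mf_C (f : R →ₐ[k] S) (a : R) : mf f (C a) = C (f a) := by rw [mf_apply, map_C]; rfl

theorem mf_X (f : R →ₐ[k] S) (i : Fin 2) : mf f (X i) = X i := by rw [mf_apply, map_X]

theorem sb_X (M : Matrix (Fin 2) (Fin 2) k) (i : Fin 2) :
    sb R M (X i) = C (algebraMap k R (M i 0)) * X 0 + C (algebraMap k R (M i 1)) * X 1 := aeval_X _ _

theorem sb_C (M : Matrix (Fin 2) (Fin 2) k) (a : R) : sb R M (C a) = C a := (sb R M).commutes a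

theorem ev_X (v : Fin 2 → k) (i : Fin 2) : ev R v (X i) = algebraMap k R (v i) := aeval_X _ _

theorem ev_C (v : Fin 2 → k) (a : R) : ev R v (C a) = a := (ev R v).commutes a

theorem ch_X (v w : Fin 2 → k) (i : Fin 2) : ch R v w (X i) =
    Polynomial.C (algebraMap k R (v i)) + Polynomial.C (algebraMap k R (w i)) * Polynomial.X := aeval_X _ _

theorem ch_C (v w : Fin 2 → k) (a : R) : ch R v w (C a) = Polynomial.C a := (ch R v w).commutes a

theorem sb_sb (M N : Matrix (Fin 2) (Fin 2) k) (P : Fm R) : sb R M (sb R N P) = sb R (N * M) P := by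
  have : (sb R M).comp (sb R N) = sb R (N * M) := by
    apply MvPolynomial.algHom_ext
    intro i
    simp only [AlgHom.comp_apply, sb_X, map_add, map_mul, sb_C, Matrix.mul_apply, Fin.sum_univ_two]
    ring
  exact DFunLike.congr_fun this P

theorem sb_one (P : Fm R) : sb R (1 : Matrix (Fin 2) (Fin 2) k) P = P := by
  have : sb R (1 : Matrix (Fin 2) (Fin 2) k) = AlgHom.id R _ := by
    apply MvPolynomial.algHom_ext
    intro i
    fin_cases i <;> simp [sb_X]
  rw [this]; rfl

theorem ev_sb (v : Fin 2 → k) (M : Matrix (Fin 2) (Fin 2) k) (P : Fm R) : ev R v (sb R M P) = ev R (M *ᵥ v) P := by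
  have : (ev R v).comp (sb R M) = ev R (M *ᵥ v) := by
    apply MvPolynomial.algHom_ext
    intro i
    simp only [AlgHom.comp_apply, sb_X, map_add, map_mul, ev_C, ev_X, Matrix.mulVec, dotProduct, Fin.sum_univ_two]
  exact DFunLike.congr_fun this P

theorem ch_sb (v w : Fin 2 → k) (M : Matrix (Fin 2) (Fin 2) k) (P : Fm R) :
    ch R v w (sb R M P) = ch R (M *ᵥ v) (M *ᵥ w) P := by
  have : (ch R v w).comp (sb R M) = ch R (M *ᵥ v) (M *ᵥ w) := by
    apply MvPolynomial.algHom_ext
    intro i
    simp only [AlgHom.comp_apply, sb_X, map_add, map_mul, ch_C, ch_X, Matrix.mulVec, dotProduct, Fin.sum_univ_two]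
    ring
  exact DFunLike.congr_fun this P

theorem coeff_zero_ch (v w : Fin 2 → k) (P : Fm R) : (ch R v w P).coeff 0 = ev R v P := by
  have : (Polynomial.aeval (0 : R)).comp (ch R v w) = ev R v := by
    apply MvPolynomial.algHom_ext
    intro i
    simp [ch_X, ev_X]
  rw [← this, Polynomial.coeff_zero_eq_eval_zero, AlgHom.comp_apply, Polynomial.coe_aeval_eq_eval]

theorem mf_sb (f : R →ₐ[k] S) (M : Matrix (Fin 2) (Fin 2) k) (P : Fm R) : mf f (sb R M P) = sb S M (mf f P) := by
  induction P using MvPolynomial.induction_on with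
  | C a => rw [sb_C, mf_C, sb_C]
  | add p q hp hq => rw [map_add, map_add, hp, hq, map_add, map_add]
  | mul_X p i hp =>
    rw [map_mul, map_mul, hp, map_mul, map_mul, mf_X, sb_X, sb_X, map_add, map_mul, map_mul, mf_C, mf_C, mf_X, mf_X,
      f.commutes, f.commutes]

theorem ev_mf (f : R →ₐ[k] S) (v : Fin 2 → k) (P : Fm R) : ev S v (mf f P) = f (ev R v P) := by
  induction P using MvPolynomial.induction_on with
  | C a => rw [mf_C, ev_C, ev_C]
  | add p q hp hq => rw [map_add, map_add, hp, hq, map_add, map_add]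
  | mul_X p i hp => rw [map_mul, map_mul, hp, map_mul, map_mul, mf_X, ev_X, ev_X, f.commutes]

theorem ch_mf (f : R →ₐ[k] S) (v w : Fin 2 → k) (P : Fm R) :
    ch S v w (mf f P) = (ch R v w P).map (f : R →+* S) := by
  induction P using MvPolynomial.induction_on with
  | C a => rw [mf_C, ch_C, ch_C, Polynomial.map_C]; rfl
  | add p q hp hq => rw [map_add, map_add, hp, hq, map_add, Polynomial.map_add]
  | mul_X p i hp =>
    rw [map_mul, map_mul, hp, map_mul, Polynomial.map_mul, mf_X, ch_X, ch_X]
    simp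

theorem mf_lf (f : R →ₐ[k] S) (v : Fin 2 → k) : mf f (lf R v) = lf S v := by
  unfold lf
  rw [map_sub, map_mul, map_mul, mf_C, mf_C, mf_X, mf_X, f.commutes, f.commutes]

theorem mf_hom (f : R →ₐ[k] S) {P : Fm R} {n : ℕ} (h : P.IsHomogeneous n) : (mf f P).IsHomogeneous n := h.map _

theorem lf_hom (v : Fin 2 → k) : (lf R v).IsHomogeneous 1 :=
  (isHomogeneous_C_mul_X _ _).sub (isHomogeneous_C_mul_X _ _)

theorem sb_hom (M : Matrix (Fin 2) (Fin 2) k) {P : Fm R} {n : ℕ} (h : P.IsHomogeneous n) :
    (sb R M P).IsHomogeneous n := by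
  have := h.aeval (fun i => (C (algebraMap k R (M i 0)) * X 0 + C (algebraMap k R (M i 1)) * X 1 : Fm R))
    (fun i => (isHomogeneous_C_mul_X _ _).add (isHomogeneous_C_mul_X _ _))
  rwa [one_mul] at this

theorem ev_lf (v w : Fin 2 → k) : ev R w (lf R v) = algebraMap k R (dt v w) := by
  unfold lf dt
  simp only [map_sub, map_mul, ev_C, ev_X]

theorem ch_lf (u v w : Fin 2 → k) : ch R v w (lf R u) =
    Polynomial.C (algebraMap k R (dt u v)) + Polynomial.C (algebraMap k R (dt u w)) * Polynomial.X := by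
  unfold lf dt
  simp only [map_sub, map_mul, ch_C, ch_X]
  ring

theorem lf_smul (c : k) (v : Fin 2 → k) : lf R (c • v) = C (algebraMap k R c) * lf R v := by
  unfold lf
  simp only [Pi.smul_apply, smul_eq_mul, map_mul]
  ring

theorem sb_lf {M : Matrix (Fin 2) (Fin 2) k} (hM : M.det = 1) (v : Fin 2 → k) : sb R M (lf R (M *ᵥ v)) = lf R v := by
  rw [Matrix.det_fin_two] at hM
  have h1 : (C (algebraMap k R (M 0 0)) * C (algebraMap k R (M 1 1)) - C (algebraMap k R (M 0 1)) *
      C (algebraMap k R (M 1 0)) : Fm R) = 1 := by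
    rw [← C_mul, ← C_mul, ← C_sub, ← map_mul, ← map_mul, ← map_sub, hM, map_one, map_one]
  unfold lf
  simp only [map_sub, map_mul, sb_C, sb_X, Matrix.mulVec, dotProduct, Fin.sum_univ_two, map_add]
  linear_combination (C (algebraMap k R (v 0)) * X 1 - C (algebraMap k R (v 1)) * X 0 : Fm R) * h1

theorem dt_self (v : Fin 2 → k) : dt v v = 0 := by unfold dt; ring

theorem dt_swap (v w : Fin 2 → k) : dt w v = -dt v w := by unfold dt; ring

theorem dt_smul_right (c : k) (v w : Fin 2 → k) : dt v (c • w) = c * dt v w := by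
  unfold dt; simp only [Pi.smul_apply, smul_eq_mul]; ring

theorem exists_dt {v u : Fin 2 → k} (h : dt v u ≠ 0) : ∃ w, dt v w = 1 :=
  ⟨(dt v u)⁻¹ • u, by rw [dt_smul_right, inv_mul_cancel₀ h]⟩

/-- A form is determined by its chart. -/
theorem expand_ch {v w : Fin 2 → k} (h : dt v w = 1) {P : Fm R} {n : ℕ} (hP : P.IsHomogeneous n) :
    P = ∑ p ∈ Finset.HasAntidiagonal.antidiagonal n, C ((ch R v w P).coeff p.1) * lf R v ^ p.1 * (-lf R w) ^ p.2 := by
  let B : Matrix (Fin 2) (Fin 2) k := !![w 0, v 0; w 1, v 1]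
  let B' : Matrix (Fin 2) (Fin 2) k := !![-v 1, v 0; w 1, -w 0]
  have hB : B * B' = 1 := by
    unfold dt at h
    ext i j
    fin_cases i <;> fin_cases j <;> simp [B, B', Matrix.mul_apply, Fin.sum_univ_two]
    · linear_combination h
    · ring
    · ring
    · linear_combination h
  have h1 : MvPolynomial.aeval ![Polynomial.X, 1] (sb R B P) = ch R v w P := by
    have : (MvPolynomial.aeval ![Polynomial.X, 1] : Fm R →ₐ[R] Polynomial R).comp (sb R B) = ch R v w := by
      apply MvPolynomial.algHom_ext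
      intro i
      rw [AlgHom.comp_apply, sb_X, ch_X]
      fin_cases i <;> simp [B] <;> ring
    exact DFunLike.congr_fun this P
  have h2 := Polynomial.homogenize_eq_of_isHomogeneous (sb_hom B hP) h1
  have h3 : P = sb R B' (sb R B P) := by rw [sb_sb, hB, sb_one]
  have h4 : sb R B' (X 0) = lf R v := by
    rw [sb_X]; unfold lf; simp [B']; ring
  have h5 : sb R B' (X 1) = -lf R w := by
    rw [sb_X]; unfold lf; simp [B']; ring
  conv_lhs => rw [h3, ← h2]
  unfold Polynomial.homogenize
  rw [map_sum]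
  refine Finset.sum_congr rfl fun p _ => ?_
  rw [monomial_eq, Finsupp.prod_fintype _ _ (fun _ => pow_zero _), Fin.prod_univ_two, map_mul, map_mul, map_pow, map_pow,
    sb_C, h4, h5, mul_assoc]
  simp

theorem ch_lf_self {v w : Fin 2 → k} (h : dt v w = 1) : ch R v w (lf R v) = Polynomial.X := by
  rw [ch_lf, dt_self, h]; simp

theorem lf_pow_dvd_iff {v w : Fin 2 → k} (h : dt v w = 1) {P : Fm R} {n : ℕ} (hP : P.IsHomogeneous n) (a : ℕ) :
    lf R v ^ a ∣ P ↔ Polynomial.X ^ a ∣ ch R v w P := by
  constructor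
  · intro h1
    have := map_dvd (ch R v w) h1
    rwa [map_pow, ch_lf_self h] at this
  · intro h1
    rw [expand_ch h hP]
    refine Finset.dvd_sum fun p _ => ?_
    by_cases hp : p.1 < a
    · rw [Polynomial.X_pow_dvd_iff.1 h1 _ hp, map_zero, zero_mul, zero_mul]
      exact dvd_zero _
    · exact Dvd.dvd.mul_right (Dvd.dvd.mul_left (pow_dvd_pow _ (not_lt.1 hp)) _) _

theorem ch_inj {v w : Fin 2 → k} (h : dt v w = 1) {P : Fm R} {n : ℕ} (hP : P.IsHomogeneous n) (h0 : ch R v w P = 0) :
    P = 0 := by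
  rw [expand_ch h hP, h0]
  simp

/-- the chart along scaled vectors -/
theorem coeff_ch_smul {v w : Fin 2 → k} (h : dt v w = 1) {P : Fm R} {n : ℕ} (hP : P.IsHomogeneous n) {η : k}
    (hη : η ≠ 0) (hn : η ^ n = 1) (j : ℕ) :
    (ch R (η • v) (η⁻¹ • w) P).coeff j = algebraMap k R ((η ^ 2)⁻¹ ^ j) * (ch R v w P).coeff j := by
  have key : ∀ a b : k, (ch R (a • v) (b • w) P).coeff j =
      if j ≤ n then (ch R v w P).coeff j * algebraMap k R (b ^ j * a ^ (n - j)) else 0 := by
    intro a b
    have h1 : ch R (a • v) (b • w) (lf R v) = Polynomial.C (algebraMap k R b) * Polynomial.X := by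
      rw [ch_lf, dt_smul_right, dt_smul_right, dt_self, h]; simp
    have h2 : ch R (a • v) (b • w) (-lf R w) = Polynomial.C (algebraMap k R a) := by
      rw [map_neg, ch_lf, dt_smul_right, dt_smul_right, dt_self, dt_swap, h]; simp
    conv_lhs => rw [expand_ch h hP]
    rw [map_sum, Polynomial.finsetSum_coeff]
    have h3 : ∀ p : ℕ × ℕ, (ch R (a • v) (b • w) (C ((ch R v w P).coeff p.1) * lf R v ^ p.1 * (-lf R w) ^ p.2)).coeff j =
        if p.1 = j then (ch R v w P).coeff p.1 * algebraMap k R (b ^ p.1 * a ^ p.2) else 0 := by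
      intro p
      rw [map_mul, map_mul, map_pow, map_pow, ch_C, h1, h2]
      have : Polynomial.C ((ch R v w P).coeff p.1) * (Polynomial.C (algebraMap k R b) * Polynomial.X) ^ p.1 *
          Polynomial.C (algebraMap k R a) ^ p.2 =
          Polynomial.C ((ch R v w P).coeff p.1 * algebraMap k R (b ^ p.1 * a ^ p.2)) * Polynomial.X ^ p.1 := by
        simp only [map_mul, map_pow]; ring
      rw [this, Polynomial.coeff_C_mul_X_pow]
      simp only [eq_comm]
    simp only [h3]
    split_ifs with hj
    · rw [Finset.sum_eq_single (j, n - j)]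
      · simp
      · intro p hp hne
        rw [if_neg]
        intro h4
        apply hne
        have := Finset.HasAntidiagonal.mem_antidiagonal.1 hp
        ext
        · exact h4
        · show p.2 = n - j
          omega
      · intro h4
        exact absurd (Finset.HasAntidiagonal.mem_antidiagonal.2 (by show j + (n - j) = n; omega)) h4
    · refine Finset.sum_eq_zero fun p hp => if_neg fun h4 => hj ?_
      have := Finset.HasAntidiagonal.mem_antidiagonal.1 hp
      omega
  rw [key]
  split_ifs with hj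
  · rw [mul_comm]
    congr 2
    have h5 : η ^ (n - j) * η ^ j = 1 := by rw [← pow_add, Nat.sub_add_cancel hj, hn]
    have h6 : η ^ (n - j) = η⁻¹ ^ j := by
      rw [inv_pow]; exact eq_inv_of_mul_eq_one_left h5
    rw [h6, ← mul_pow, pow_two, mul_inv]
  · have := key 1 1
    rw [one_smul, one_smul, if_neg hj] at this
    rw [this, mul_zero]

theorem ev_smul {P : Fm R} {n : ℕ} (hP : P.IsHomogeneous n) (c : k) (v : Fin 2 → k) :
    ev R (c • v) P = algebraMap k R (c ^ n) * ev R v P := by
  rw [P.as_sum, map_sum, map_sum, Finset.mul_sum]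
  refine Finset.sum_congr rfl fun d hd => ?_
  have h1 : d 0 + d 1 = n := by
    have := hP.degree_eq_sum_deg_support hd
    rw [this, Finset.sum_subset (Finset.subset_univ d.support) (fun i _ hi => Finsupp.notMem_support_iff.1 hi),
      Fin.sum_univ_two]
  rw [monomial_eq, Finsupp.prod_fintype _ _ (fun _ => pow_zero _), Fin.prod_univ_two]
  simp only [map_mul, map_pow, ev_C, ev_X, Pi.smul_apply, smul_eq_mul, ← h1]
  ring

omit [Algebra k R] in
/-- quotients of forms -/
theorem exists_quot {P D : Fm R} {n a : ℕ} (hP : P.IsHomogeneous n) (hD : D.IsHomogeneous a) (h : D ∣ P) :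
    ∃ Q : Fm R, P = D * Q ∧ Q.IsHomogeneous (n - a) ∧ (n < a → Q = 0) := by
  obtain ⟨Z, hZ⟩ := h
  have key : P = ∑ j ∈ Finset.range (Z.totalDegree + 1), if n = a + j then D * homogeneousComponent j Z else 0 := by
    conv_lhs => rw [← homogeneousComponent_eq_self hP, hZ, ← sum_homogeneousComponent Z, Finset.mul_sum, map_sum]
    exact Finset.sum_congr rfl fun j _ =>
      homogeneousComponent_of_mem (hD.mul (homogeneousComponent_isHomogeneous j Z))
  by_cases hn : n < a
  · refine ⟨0, ?_, isHomogeneous_zero _ _ _, fun _ => rfl⟩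
    rw [key, mul_zero]
    exact Finset.sum_eq_zero fun j _ => if_neg (by omega)
  · refine ⟨homogeneousComponent (n - a) Z, ?_, homogeneousComponent_isHomogeneous _ _, fun h => absurd h hn⟩
    rw [key, Finset.sum_eq_single (n - a)]
    · rw [if_pos (by omega)]
    · intro j _ hj
      exact if_neg (by omega)
    · intro hj
      rw [if_pos (by omega), homogeneousComponent_eq_zero _ _ (by rw [Finset.mem_range] at hj; omega), mul_zero]

theorem lf_regular {v w : Fin 2 → k} (h : dt v w = 1) : IsRegular (lf R v) := by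
  let B : Matrix (Fin 2) (Fin 2) k := !![w 0, v 0; w 1, v 1]
  let B' : Matrix (Fin 2) (Fin 2) k := !![-v 1, v 0; w 1, -w 0]
  have hB : B * B' = 1 := by
    unfold dt at h
    ext i j
    fin_cases i <;> fin_cases j <;> simp [B, B', Matrix.mul_apply, Fin.sum_univ_two]
    · linear_combination h
    · ring
    · ring
    · linear_combination h
  have h4 : sb R B' (X 0) = lf R v := by
    rw [sb_X]; unfold lf; simp [B']; ring
  have h5 : sb R B (lf R v) = X 0 := by rw [← h4, sb_sb, mul_eq_one_comm.1 hB, sb_one]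
  rw [← isLeftRegular_iff_isRegular]
  intro P Q hPQ
  have h6 : sb R B (lf R v * P) = sb R B (lf R v * Q) := congrArg _ hPQ
  rw [map_mul, map_mul, h5] at h6
  have h7 := congrArg (sb R B') ((isRegular_X (R := R) (n := (0 : Fin 2))).left h6)
  rwa [sb_sb, sb_sb, hB, sb_one, sb_one] at h7

theorem isUnit_algebraMap {c : k} (hc : c ≠ 0) : IsUnit (algebraMap k R c) := (Ne.isUnit hc).map _

theorem dvd_of_mul {v u : Fin 2 → k} (h : dt v u ≠ 0) {P : Fm R} {n : ℕ} (hP : P.IsHomogeneous n) {a b : ℕ}
    (h1 : lf R v ^ a ∣ lf R u ^ b * P) : lf R v ^ a ∣ P := by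
  obtain ⟨w, hw⟩ := exists_dt h
  rw [lf_pow_dvd_iff hw hP]
  have h2 := map_dvd (ch R v w) h1
  rw [map_pow, ch_lf_self hw, map_mul, map_pow, ch_lf] at h2
  refine IsCoprime.dvd_of_dvd_mul_left (IsCoprime.pow ?_) h2
  have hu : dt u v ≠ 0 := by rw [dt_swap]; exact neg_ne_zero.2 h
  refine ⟨-(Polynomial.C (algebraMap k R ((dt u v)⁻¹ * dt u w))), Polynomial.C (algebraMap k R (dt u v)⁻¹), ?_⟩
  have : Polynomial.C (algebraMap k R (dt u v)⁻¹) * Polynomial.C (algebraMap k R (dt u v)) = 1 := by
    rw [← map_mul, ← map_mul, inv_mul_cancel₀ hu, map_one, map_one]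
  simp only [map_mul]
  linear_combination this

/-- powers of independent linear forms -/
theorem prod_dvd {T : Type*} (v : T → Fin 2 → k) (hv : ∀ x y, x ≠ y → dt (v x) (v y) ≠ 0) (e : T → ℕ) (s : Finset T)
    {P : Fm R} {n : ℕ} (hP : P.IsHomogeneous n) (h : ∀ x ∈ s, lf R (v x) ^ e x ∣ P) :
    ∏ x ∈ s, lf R (v x) ^ e x ∣ P := by
  classical
  induction s using Finset.induction_on generalizing P n with
  | empty => simp
  | insert a s ha ih =>
    obtain ⟨Q, hQ, hQ1, -⟩ := exists_quot hP ((lf_hom (v a)).pow (e a)) (h a (Finset.mem_insert_self _ _))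
    rw [Finset.prod_insert ha, hQ]
    refine mul_dvd_mul_left _ (ih hQ1 fun x hx => ?_)
    have h1 := h x (Finset.mem_insert_of_mem hx)
    rw [hQ] at h1
    exact dvd_of_mul (hv x a fun h2 => ha (h2 ▸ hx)) hQ1 h1

theorem prod_hom {T : Type*} (v : T → Fin 2 → k) (e : T → ℕ) (s : Finset T) :
    (∏ x ∈ s, lf R (v x) ^ e x).IsHomogeneous (∑ x ∈ s, e x) :=
  IsHomogeneous.prod s _ _ fun x _ => by
    have := (lf_hom (R := R) (v x)).pow (e x)
    rwa [one_mul] at this

end Cfsg.Agent.E8A.Reg5
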