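import Cfsg.Agent.E8A.Reg5.Iface
import Cfsg.Agent.BpExc.Emb

/-!
# `GEN` : points of `G³` of rank 744 have the same vanishing ideal (helper41)

Two points are specializations of one generic triple of words, and every point has rank at most `3 * (120 + 8 + 120)`.
-/

set_option autoImplicit false
set_option maxRecDepth 100000

namespace Cfsg.Agent.E8A.Reg5.Gen

open Cfsg Cfsg.Lie Matrix MvPolynomial
open Cfsg.Agent.ChevalleyStructure Cfsg.Agent.ChevalleyStructure.Elts Cfsg.Agent.ChevalleyStructure.Ring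
open Cfsg.Agent.LangThm (van rk mem_van rk_le_of_van_le rk_le_card rk_le_of_algebraic van_eq_of_rk_le)
open Cfsg.Agent.H942.E8Tab (e8T)

universe u

section Words

variable {D : ChevalleyDatum}

theorem exists_word (hD : InList D) {K : Type u} [Field K] {g : GL D.Idx K} (hg : g ∈ D.group K) :
    ∃ w : List (ℕ × K), (g : Matrix D.Idx D.Idx K) = wordR D K w := by
  have h : ∃ w : List (ℕ × K), g = wordG hD w := by
    induction hg using Subgroup.closure_induction'' with
    | mem x hx =>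
      obtain ⟨r, t, h⟩ := hx
      refine ⟨[(r.val, t)], ?_⟩
      rw [wordG_cons, wordG_nil, mul_one, eq_xG_iff, h, x_of_lt r.2]
    | inv_mem x hx =>
      obtain ⟨r, t, h⟩ := hx
      have e : x = xG hD r.val t := by rw [eq_xG_iff, h, x_of_lt r.2]
      refine ⟨[(r.val, -t)], ?_⟩
      rw [wordG_cons, wordG_nil, mul_one, e, xG_inv]
    | one => exact ⟨[], rfl⟩
    | mul x y _ _ hx hy =>
      obtain ⟨w, rfl⟩ := hx
      obtain ⟨w', rfl⟩ := hy
      exact ⟨w ++ w', by rw [wordG_append]⟩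
  obtain ⟨w, hw⟩ := h
  exact ⟨w, (eq_wordG_iff hD g w).1 hw⟩

theorem wordR_zero {R : Type*} [CommRing R] (w : List (ℕ × R)) (hw : ∀ p ∈ w, p.2 = 0) : wordR D R w = 1 := by
  induction w with
  | nil => rfl
  | cons p w ih =>
    rw [wordR_cons, hw p List.mem_cons_self, xR_zero, ih fun q hq => hw q (List.mem_cons_of_mem _ hq), one_mul]

/-- the entries lie in a subring -/
def Ent {ι R : Type*} [CommRing R] (B : Subring R) (M : Matrix ι ι R) : Prop := ∀ i j, M i j ∈ B

theorem Ent.mul {ι R : Type*} [Fintype ι] [CommRing R] {B : Subring R} {M N : Matrix ι ι R} (hM : Ent B M)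
    (hN : Ent B N) : Ent B (M * N) := fun i j => by
  rw [Matrix.mul_apply]
  exact sum_mem fun l _ => mul_mem (hM i l) (hN l j)

theorem ent_word {R : Type*} [CommRing R] {B : Subring R} (w : List (ℕ × R)) (hw : ∀ p ∈ w, p.2 ∈ B) :
    Ent B (wordR D R w) := by
  induction w with
  | nil =>
    intro i j
    rw [wordR_nil, Matrix.one_apply]
    split_ifs
    · exact one_mem _
    · exact zero_mem _
  | cons p w ih =>
    rw [wordR_cons]
    refine Ent.mul (fun i j => ?_) (ih fun q hq => hw q (List.mem_cons_of_mem _ hq))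
    have h := xR_map D B.subtype p.1 ⟨p.2, hw p List.mem_cons_self⟩
    have h' : xR D R p.1 p.2 i j = B.subtype (xR D ↥B p.1 ⟨p.2, hw p List.mem_cons_self⟩ i j) :=
      (congrFun (congrFun h i) j).symm
    rw [h']
    exact SetLike.coe_mem _

end Words

variable {k : Type u} [Field k]

theorem van_le_map {σ A A' : Type*} [CommRing A] [CommRing A'] [Algebra k A] [Algebra k A'] (φ : A →ₐ[k] A') (v : σ → A) :
    van k v ≤ van k fun i => φ (v i) := by
  intro P hP
  rw [mem_van] at hP ⊢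
  rw [← comp_aeval_apply, hP, map_zero]

theorem van_map_le {σ A A' : Type*} [CommRing A] [CommRing A'] [Algebra k A] [Algebra k A'] (φ : A →ₐ[k] A')
    (hφ : Function.Injective φ) (v : σ → A) : (van k fun i => φ (v i)) ≤ van k v := by
  intro P hP
  rw [mem_van] at hP ⊢
  rw [← comp_aeval_apply] at hP
  exact hφ (hP.trans (map_zero φ).symm)

/-- the 248 parameters of an element -/
theorem exists_params {Ω : Type u} [Field Ω] [Algebra k Ω] (g : G8 Ω) :
    ∃ c : Fin 120 ⊕ Fin 8 ⊕ Fin 120 → Ω, ∀ B : Subfield Ω, (∀ a : k, algebraMap k Ω a ∈ B) → (∀ j, c j ∈ B) →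
      Ent B.toSubring (mx g) := by
  have hG := RootComb.good_of_mem e8T.inList
  obtain ⟨u, hu, m, hm, v, hv, e, -⟩ := BpExc.FixNorm.exists_form e8T.inList g.2
  obtain ⟨m₀, -, t, ht, rfl⟩ := BpExc.Emb.mono_decomp e8T.inList (algebraMap k Ω) hm
  obtain ⟨a, ⟨-, ha⟩, -⟩ := (S1026.result chevE8 e8T.inList).1 u hu
  obtain ⟨b, ⟨-, hb⟩, -⟩ := (S1026.result chevE8 e8T.inList).1 v hv
  obtain ⟨c, -, hc⟩ := S1034.result chevE8 e8T.inList t ht
  refine ⟨Sum.elim (fun j => a (120 + j.val)) (Sum.elim (fun j => c j.val) fun j => b (120 + j.val)), fun B hk hB => ?_⟩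
  have hpos : ∀ f : ℕ → Ω, (∀ j : Fin 120, f (120 + j.val) ∈ B) →
      Ent B.toSubring (chevE8.wordMat Ω (chevE8.posRoots.map fun r => (r, f r))) := by
    intro f hf
    refine ent_word _ fun p hp => ?_
    obtain ⟨r, hr, rfl⟩ := List.mem_map.1 hp
    have h1 : chevE8.IsPosRoot r := of_decide_eq_true (List.mem_filter.1 hr).2
    obtain ⟨h2, h3⟩ := hG.isPosRoot_iff.1 h1
    rw [nroots8] at h2 h3
    have h4 := hf ⟨r - 120, by omega⟩
    rwa [show 120 + (r - 120) = r by omega] at h4
  have h1 : mx g = (u : Matrix chevE8.Idx chevE8.Idx Ω) *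
      ((m₀ : Matrix chevE8.Idx chevE8.Idx k).map (algebraMap k Ω) * (t : Matrix chevE8.Idx chevE8.Idx Ω)) *
      (v : Matrix chevE8.Idx chevE8.Idx Ω) := by
    show ((g : GL chevE8.Idx Ω) : Matrix chevE8.Idx chevE8.Idx Ω) = _
    rw [e, Units.val_mul, Units.val_mul, Units.val_mul, GpExc.Field.coe_glMap]
  rw [h1, ha, hb, hc]
  refine Ent.mul (Ent.mul (hpos a fun j => hB (Sum.inl j)) (Ent.mul (fun i j => hk _) ?_))
    (hpos b fun j => hB (Sum.inr (Sum.inr j)))
  refine ent_word _ fun p hp => ?_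
  obtain ⟨i, hi, hp⟩ := List.mem_flatMap.1 hp
  have hci : c i ∈ B := hB (Sum.inr (Sum.inl ⟨i, List.mem_range.1 hi⟩))
  have h1B : (-1 : Ω) ∈ B := neg_mem (one_mem _)
  simp only [ChevalleyDatum.hWord, ChevalleyDatum.nWord, List.mem_append, List.mem_cons, List.not_mem_nil,
    or_false] at hp
  rcases hp with (rfl | rfl | rfl) | (rfl | rfl | rfl)
  · exact hci
  · exact B.neg_mem (B.inv_mem hci)
  · exact hci
  · exact h1B
  · exact B.neg_mem (B.inv_mem h1B)
  · exact h1B

theorem rk_le {Ω : Type u} [Field Ω] [Algebra k Ω] (γ : Fin 3 → G8 Ω) : rk k (co3 fun i => mx (γ i)) ≤ 744 := by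
  choose c hc using fun i => exists_params (k := k) (γ i)
  let w : Fin 3 × (Fin 120 ⊕ Fin 8 ⊕ Fin 120) → Ω := fun t => c t.1 t.2
  have h1 : rk k (co3 fun i => mx (γ i)) ≤ rk k w := by
    refine rk_le_of_algebraic fun t => ?_
    have h2 := hc t.1 (IntermediateField.adjoin k (Set.range w)).toSubfield
      (fun a => (IntermediateField.adjoin k (Set.range w)).algebraMap_mem a)
      (fun j => IntermediateField.subset_adjoin k _ ⟨(t.1, j), rfl⟩) t.2.1 t.2.2
    open scoped IntermediateField.algebraAdjoinAdjoin in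
    have h3 : IsAlgebraic (Algebra.adjoin k (Set.range w))
        (⟨_, h2⟩ : IntermediateField.adjoin k (Set.range w)) := Algebra.IsAlgebraic.isAlgebraic _
    open scoped IntermediateField.algebraAdjoinAdjoin in
    exact h3.algebraMap (A := Ω)
  refine h1.trans ((rk_le_card w).trans ?_)
  simp

/-- **GEN** -/
theorem gen : GEN.{u} := by
  intro k _ _ Ω Ω' _ _ _ _ γ γ' h h'
  choose w hw using fun i => exists_word e8T.inList (γ i).2
  choose w' hw' using fun i => exists_word e8T.inList (γ' i).2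
  let τ : Type := (Σ i : Fin 3, Fin (w i).length) ⊕ (Σ i : Fin 3, Fin (w' i).length)
  let W₁ : Fin 3 → List (ℕ × MvPolynomial τ k) := fun i =>
    List.ofFn fun j : Fin (w i).length => (((w i).get j).1, X (Sum.inl ⟨i, j⟩))
  let W₂ : Fin 3 → List (ℕ × MvPolynomial τ k) := fun i =>
    List.ofFn fun j : Fin (w' i).length => (((w' i).get j).1, X (Sum.inr ⟨i, j⟩))
  let δ : Fin 3 → Matrix chevE8.Idx chevE8.Idx (MvPolynomial τ k) := fun i => wordR chevE8 _ (W₁ i ++ W₂ i)
  let φ : MvPolynomial τ k →ₐ[k] Ω := aeval (Sum.elim (fun t => ((w t.1).get t.2).2) fun _ => 0)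
  let φ' : MvPolynomial τ k →ₐ[k] Ω' := aeval (Sum.elim (fun _ => 0) fun t => ((w' t.1).get t.2).2)
  have e : ∀ i, (δ i).map (φ : MvPolynomial τ k →+* Ω) = mx (γ i) := fun i => by
    have h1 : ((W₁ i).map fun p => (p.1, (φ : MvPolynomial τ k →+* Ω) p.2)) = w i := by
      rw [List.map_ofFn]
      conv_rhs => rw [← List.ofFn_get (w i)]
      congr 1
      funext j
      show (((w i).get j).1, φ (X (Sum.inl ⟨i, j⟩))) = (w i).get j
      rw [aeval_X]
      rfl
    rw [wordR_map, List.map_append, wordR_append, h1, wordR_zero ((W₂ i).map _), mul_one]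
    · exact (hw i).symm
    · intro p hp
      obtain ⟨q, hq, rfl⟩ := List.mem_map.1 hp
      obtain ⟨j, rfl⟩ := List.mem_ofFn.1 hq
      show φ (X (Sum.inr ⟨i, j⟩)) = 0
      rw [aeval_X]
      rfl
  have e' : ∀ i, (δ i).map (φ' : MvPolynomial τ k →+* Ω') = mx (γ' i) := fun i => by
    have h1 : ((W₂ i).map fun p => (p.1, (φ' : MvPolynomial τ k →+* Ω') p.2)) = w' i := by
      rw [List.map_ofFn]
      conv_rhs => rw [← List.ofFn_get (w' i)]
      congr 1
      funext j
      show (((w' i).get j).1, φ' (X (Sum.inr ⟨i, j⟩))) = (w' i).get j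
      rw [aeval_X]
      rfl
    rw [wordR_map, List.map_append, wordR_append, h1, wordR_zero ((W₁ i).map _), one_mul]
    · exact (hw' i).symm
    · intro p hp
      obtain ⟨q, hq, rfl⟩ := List.mem_map.1 hp
      obtain ⟨j, rfl⟩ := List.mem_ofFn.1 hq
      show φ' (X (Sum.inl ⟨i, j⟩)) = 0
      rw [aeval_X]
      rfl
  have v₁ : van k (co3 δ) ≤ van k (co3 fun i => mx (γ i)) := by
    have := van_le_map φ (co3 δ)
    convert this using 2
    funext t
    show mx (γ t.1) t.2.1 t.2.2 = _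
    rw [← e]
    rfl
  have v₂ : van k (co3 δ) ≤ van k (co3 fun i => mx (γ' i)) := by
    have := van_le_map φ' (co3 δ)
    convert this using 2
    funext t
    show mx (γ' t.1) t.2.1 t.2.2 = _
    rw [← e']
    rfl
  have hr : rk k (co3 δ) ≤ 744 := by
    let Ω'' := FractionRing (MvPolynomial τ k)
    let α : MvPolynomial τ k →ₐ[k] Ω'' := IsScalarTower.toAlgHom k _ _
    let γ'' : Fin 3 → G8 Ω'' := fun i =>
      ⟨wordG e8T.inList ((W₁ i ++ W₂ i).map fun p => (p.1, α p.2)), wordG_mem_group _ _⟩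
    have h1 : (fun t => α (co3 δ t)) = co3 fun i => mx (γ'' i) := by
      funext t
      have h2 : mx (γ'' t.1) = (δ t.1).map (α : MvPolynomial τ k →+* Ω'') := by
        rw [wordR_map]
        exact (eq_wordG_iff e8T.inList _ _).1 rfl
      show _ = mx (γ'' t.1) t.2.1 t.2.2
      rw [h2]
      rfl
    have h3 := rk_le_of_van_le (van_map_le α (IsFractionRing.injective (MvPolynomial τ k) Ω'') (co3 δ))
    rw [h1] at h3
    exact h3.trans (rk_le γ'')
  rw [← van_eq_of_rk_le v₁ (hr.trans h), ← van_eq_of_rk_le v₂ (hr.trans h')]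

end Cfsg.Agent.E8A.Reg5.Gen
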