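import Cfsg.Agent.E8A.Reg5.Iface2
import Cfsg.Agent.E8A.Reg5.Kil

/-!
# The box INST (helper44)
-/

set_option autoImplicit false
set_option maxRecDepth 100000

namespace Cfsg.Agent.E8A.Reg5.Aut

open Cfsg Cfsg.Lie Matrix
open Cfsg.Agent.ChevalleyStructure
open Cfsg.Agent.H942.E8Tab (e8T)
open Cfsg.Agent.H288.E8L (wt adA_wt)

universe u

theorem lam_bd : ∀ (i : Fin 3) (a : chevE8.Idx), -(mm i : ℤ) ≤ lam i a ∧ lam i a ≤ mm i := by
  intro i a
  rcases a with a | a
  · show -(mm i : ℤ) ≤ 0 ∧ (0 : ℤ) ≤ mm i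
    omega
  · revert i a
    decide +kernel

theorem cnt_lam : Cnt lam := by
  unfold Cnt
  decide +kernel

theorem card_low : Fintype.card {t : Fin 3 × chevE8.Idx // lam t.1 t.2 = -(mm t.1 : ℤ)} = 26 := by
  rw [Fintype.card_subtype]
  decide +kernel

/-- **INST** -/
theorem inst : INST.{u} := by
  refine ⟨fun k _ p _ hp => ?_, fun i => ⟨fun j a b h => ?_, ?_, fun a => (lam_bd i a).1, fun a => (lam_bd i a).2⟩,
    cnt_lam, card_low⟩
  · have h1 : ∀ n : ℕ, 0 < n → n < 7 → (n : k) ≠ 0 := fun n h0 hn h => by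
      have := Nat.le_of_dvd h0 ((CharP.cast_eq_zero_iff k p n).1 h)
      omega
    exact ⟨JacAll.jac_all chevE8 e8T.inList, kil k p hp, by exact_mod_cast h1 2 (by norm_num) (by norm_num),
      by exact_mod_cast h1 3 (by norm_num) (by norm_num)⟩
  · exact congrFun (adA_wt j a b h) (nd i)
  · revert i
    decide

end Cfsg.Agent.E8A.Reg5.Aut
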