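import Mathlib
import Cfsg.Agent.ChevalleyStructure.LieAbs

/-!
# Algebras given by integral structure constants, over commutative rings (helper42)

* `ad A R x`, `kil A R`, `kf` : the adjoint matrices, the trace form; `Good A k` : Jacobi identity, the form is nondegenerate;
* `Tw δ a` : `[a x, a y] = δ a [x, y]`; `Iso δ a` : `κ (a x, a y) = δ ^ 2 κ (x, y)`; `st a` : the adjoint matrix;
* `exists_eq_ad` : derivations are inner;
* `Gr A d` : gradings; `Sh d P M` : the shifts of the degree by `M` satisfy `P`;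
* `ex N` : the exponential of `N` with `N ^ 3 = 0`.
-/

set_option autoImplicit false
set_option linter.unusedSectionVars false

namespace Cfsg.Agent.E8A.Reg5

open Matrix
open Cfsg.Agent.ChevalleyStructure.LieAbs

universe u v w

variable {ι : Type} [Fintype ι] [DecidableEq ι] (A : ι → Matrix ι ι ℤ)

section Defs

/-- the adjoint matrix -/
noncomputable def ad {R : Type v} [CommRing R] (x : ι → R) : Matrix ι ι R :=
  adv (fun j => (A j).map (Int.castRingHom R)) x

/-- the matrix of the trace form -/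
noncomputable def kil (R : Type v) [CommRing R] : Matrix ι ι R :=
  Matrix.of fun i j => Matrix.trace ((A i).map (Int.castRingHom R) * (A j).map (Int.castRingHom R))

/-- the trace form -/
noncomputable def kf {R : Type v} [CommRing R] (x y : ι → R) : R := Matrix.trace (ad A x * ad A y)

/-- the hypotheses -/
structure Good (k : Type u) [Field k] : Prop where
  jac : ∀ x, Jac A x
  det : (kil A k).det ≠ 0
  two : (2 : k) ≠ 0
  three : (3 : k) ≠ 0

variable {A} {R : Type v} [CommRing R] {S : Type w} [CommRing S]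

theorem ad_add (x y : ι → R) : ad A (x + y) = ad A x + ad A y := adv_add _ _ _
theorem ad_smul (c : R) (x : ι → R) : ad A (c • x) = c • ad A x := adv_smul _ _ _
theorem ad_zero : ad A (0 : ι → R) = 0 := adv_zero _
theorem ad_neg (x : ι → R) : ad A (-x) = -ad A x := adv_neg _ _
theorem ad_sub (x y : ι → R) : ad A (x - y) = ad A x - ad A y := adv_sub _ _ _
theorem ad_single (j : ι) : ad A (Pi.single j (1 : R)) = (A j).map (Int.castRingHom R) := adv_single_one _ _

theorem ad_apply (x : ι → R) (a b : ι) : ad A x a b = ∑ j, x j * (A j a b : R) := by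
  simp [ad, adv, Matrix.sum_apply]

theorem ad_map (f : R →+* S) (x : ι → R) : (ad A x).map f = ad A (fun j => f (x j)) := by
  ext a b
  rw [Matrix.map_apply, ad_apply, ad_apply, map_sum]
  simp

theorem eq_sum_single (x : ι → R) : x = ∑ j, x j • (Pi.single j (1 : R) : ι → R) := by
  ext k
  simp [Finset.sum_apply, Pi.single_apply]

theorem ad_sum {κ : Type*} (s : Finset κ) (f : κ → ι → R) : ad A (∑ c ∈ s, f c) = ∑ c ∈ s, ad A (f c) :=
  map_sum (advLin (fun j => (A j).map (Int.castRingHom R))) f s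

theorem kil_map (f : R →+* S) : (kil A R).map f = kil A S := by
  ext i j
  simp [kil, Matrix.trace, Matrix.mul_apply]

theorem kil_symm : (kil A R)ᵀ = kil A R := by
  ext i j
  exact Matrix.trace_mul_comm _ _

theorem kf_symm (x y : ι → R) : kf A x y = kf A y x := Matrix.trace_mul_comm _ _

theorem kf_add_left (x y z : ι → R) : kf A (x + y) z = kf A x z + kf A y z := by
  unfold kf; rw [ad_add, Matrix.add_mul, Matrix.trace_add]

theorem kf_add_right (x y z : ι → R) : kf A x (y + z) = kf A x y + kf A x z := by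
  unfold kf; rw [ad_add, Matrix.mul_add, Matrix.trace_add]

theorem kf_sub_left (x y z : ι → R) : kf A (x - y) z = kf A x z - kf A y z := by
  unfold kf; rw [ad_sub, Matrix.sub_mul, Matrix.trace_sub]

theorem kf_sub_right (x y z : ι → R) : kf A x (y - z) = kf A x y - kf A x z := by
  unfold kf; rw [ad_sub, Matrix.mul_sub, Matrix.trace_sub]

theorem kf_neg_left (x z : ι → R) : kf A (-x) z = -kf A x z := by
  unfold kf; rw [ad_neg, Matrix.neg_mul, Matrix.trace_neg]

theorem kf_neg_right (x z : ι → R) : kf A x (-z) = -kf A x z := by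
  unfold kf; rw [ad_neg, Matrix.mul_neg, Matrix.trace_neg]

theorem kf_smul_left (c : R) (x z : ι → R) : kf A (c • x) z = c * kf A x z := by
  unfold kf; rw [ad_smul, Matrix.smul_mul, Matrix.trace_smul, smul_eq_mul]

theorem kf_smul_right (c : R) (x z : ι → R) : kf A x (c • z) = c * kf A x z := by
  unfold kf; rw [ad_smul, Matrix.mul_smul, Matrix.trace_smul, smul_eq_mul]

theorem kf_zero_left (z : ι → R) : kf A 0 z = 0 := by
  unfold kf; rw [ad_zero, Matrix.zero_mul, Matrix.trace_zero]

theorem kf_zero_right (z : ι → R) : kf A z 0 = 0 := by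
  unfold kf; rw [ad_zero, Matrix.mul_zero, Matrix.trace_zero]

theorem kf_eq (x y : ι → R) : kf A x y = x ⬝ᵥ (kil A R *ᵥ y) := by
  unfold kf ad adv
  rw [Finset.sum_mul, Matrix.trace_sum]
  unfold dotProduct
  refine Finset.sum_congr rfl fun i _ => ?_
  rw [Matrix.smul_mul, Matrix.trace_smul, smul_eq_mul, Finset.mul_sum, Matrix.trace_sum]
  congr 1
  unfold Matrix.mulVec dotProduct
  refine Finset.sum_congr rfl fun j _ => ?_
  rw [Matrix.mul_smul, Matrix.trace_smul, smul_eq_mul, mul_comm]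
  rfl

theorem kf_eq_sum (x y : ι → R) : kf A x y = ∑ a, ∑ b, kil A R a b * (x a * y b) := by
  rw [kf_eq]
  unfold dotProduct Matrix.mulVec dotProduct
  refine Finset.sum_congr rfl fun a _ => ?_
  rw [Finset.mul_sum]
  exact Finset.sum_congr rfl fun b _ => by ring

theorem kf_map (f : R →+* S) (x y : ι → R) : f (kf A x y) = kf A (fun j => f (x j)) (fun j => f (y j)) := by
  rw [kf_eq_sum, kf_eq_sum, map_sum]
  refine Finset.sum_congr rfl fun a _ => ?_
  rw [map_sum]
  refine Finset.sum_congr rfl fun b _ => ?_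
  rw [map_mul, map_mul, ← kil_map f]
  rfl

theorem mulVec_map (f : R →+* S) (M : Matrix ι ι R) (x : ι → R) :
    (fun j => f ((M *ᵥ x) j)) = M.map f *ᵥ fun j => f (x j) := by
  funext j
  exact RingHom.map_mulVec f M x j

/-- two matrices which agree on the basis vectors -/
theorem ext_mulVec {M N : Matrix ι ι R} (h : ∀ j, M *ᵥ Pi.single j 1 = N *ᵥ Pi.single j 1) : M = N := by
  ext a b
  have := congrFun (h b) a
  simpa using this

theorem kf_mulVec (M : Matrix ι ι R) (x y : ι → R) : kf A (M *ᵥ x) (M *ᵥ y) = x ⬝ᵥ ((Mᵀ * kil A R * M) *ᵥ y) := by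
  rw [kf_eq, Matrix.mulVec_mulVec, ← Matrix.vecMul_transpose, ← Matrix.dotProduct_mulVec, Matrix.mulVec_mulVec,
    Matrix.mul_assoc]

end Defs

section Main

variable {A} {k : Type u} [Field k] {R : Type v} [CommRing R] [Algebra k R] {S : Type w} [CommRing S] [Algebra k S]

theorem Good.jacR (h : Good A k) (x y : ι → R) : ad A (ad A x *ᵥ y) = ad A x * ad A y - ad A y * ad A x :=
  Jac.map (Int.castRingHom R) h.jac x y

variable (A k) in
/-- the inverse of the matrix of the trace form -/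
noncomputable def kin (R : Type v) [CommRing R] [Algebra k R] : Matrix ι ι R := ((kil A k)⁻¹).map (algebraMap k R)

theorem Good.kin_mul (h : Good A k) : kin A k R * kil A R = 1 := by
  unfold kin
  rw [← kil_map (algebraMap k R), ← Matrix.map_mul, Matrix.nonsing_inv_mul _ (Ne.isUnit h.det),
    Matrix.map_one _ (map_zero _) (map_one _)]

theorem Good.mul_kin (h : Good A k) : kil A R * kin A k R = 1 := mul_eq_one_comm.1 h.kin_mul

theorem kin_map (f : R →ₐ[k] S) : (kin A k R).map f = kin A k S := by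
  ext a b
  exact f.commutes _

theorem Good.kin_symm (h : Good A k) : (kin A k R)ᵀ = kin A k R := by
  have h1 : (kin A k R)ᵀ * kil A R = 1 := by
    rw [← kil_symm, ← Matrix.transpose_mul, h.mul_kin, Matrix.transpose_one]
  calc (kin A k R)ᵀ = (kin A k R)ᵀ * (kil A R * kin A k R) := by rw [h.mul_kin, Matrix.mul_one]
    _ = kin A k R := by rw [← Matrix.mul_assoc, h1, Matrix.one_mul]

theorem Good.kf_inv (h : Good A k) (x y z : ι → R) : kf A (ad A x *ᵥ y) z = kf A x (ad A y *ᵥ z) := by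
  unfold kf
  rw [h.jacR, h.jacR, Matrix.sub_mul, Matrix.mul_sub, Matrix.trace_sub, Matrix.trace_sub, Matrix.mul_assoc,
    Matrix.mul_assoc, Matrix.trace_mul_comm (ad A y) (ad A x * ad A z), Matrix.mul_assoc]

theorem Good.nondeg (h : Good A k) {x : ι → R} (hx : ∀ j, kf A x (Pi.single j 1) = 0) : x = 0 := by
  have h1 : kil A R *ᵥ x = 0 := by
    funext j
    have := hx j
    rw [kf_symm, kf_eq, single_one_dotProduct] at this
    exact this
  calc x = (kin A k R * kil A R) *ᵥ x := by rw [h.kin_mul, Matrix.one_mulVec]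
    _ = 0 := by rw [← Matrix.mulVec_mulVec, h1, Matrix.mulVec_zero]

theorem Good.exists_dual (h : Good A k) (f : (ι → R) →ₗ[R] R) : ∃ x, ∀ y, kf A x y = f y := by
  refine ⟨kin A k R *ᵥ fun j => f (Pi.single j 1), fun y => ?_⟩
  rw [kf_symm, kf_eq, Matrix.mulVec_mulVec, h.mul_kin, Matrix.one_mulVec]
  conv_rhs => rw [eq_sum_single y, map_sum]
  unfold dotProduct
  exact Finset.sum_congr rfl fun j _ => by rw [map_smul, smul_eq_mul]

theorem Good.ad_eq_zero (h : Good A k) {x : ι → R} (hx : ad A x = 0) : x = 0 :=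
  h.nondeg fun j => by unfold kf; rw [hx, Matrix.zero_mul, Matrix.trace_zero]

theorem Good.ad_inj (h : Good A k) {x y : ι → R} (hx : ad A x = ad A y) : x = y :=
  sub_eq_zero.1 (h.ad_eq_zero (by rw [ad_sub, hx, sub_self]))

theorem Good.anti (h : Good A k) (x y : ι → R) : ad A x *ᵥ y = -(ad A y *ᵥ x) :=
  h.ad_inj (by rw [ad_neg, h.jacR, h.jacR, neg_sub])

theorem Good.kf_inv' (h : Good A k) (x y z : ι → R) : kf A (ad A x *ᵥ y) z = -kf A y (ad A x *ᵥ z) := by
  rw [h.anti x y, kf_neg_left, h.kf_inv]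

/-- **Derivations are inner.** -/
theorem Good.exists_eq_ad (h : Good A k) {E : Matrix ι ι R}
    (hE : ∀ x, ad A (E *ᵥ x) = E * ad A x - ad A x * E) : ∃ w, E = ad A w := by
  let f : (ι → R) →ₗ[R] R :=
    { toFun := fun y => Matrix.trace (E * ad A y)
      map_add' := fun x y => by rw [ad_add, Matrix.mul_add, Matrix.trace_add]
      map_smul' := fun c x => by rw [ad_smul, Matrix.mul_smul, Matrix.trace_smul]; rfl }
  obtain ⟨w, hw⟩ := h.exists_dual f
  refine ⟨w, ext_mulVec fun j => sub_eq_zero.1 (h.nondeg fun l => ?_)⟩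
  rw [kf_sub_left, h.kf_inv, hw]
  show kf A _ _ - Matrix.trace (E * ad A _) = 0
  unfold kf
  rw [hE, h.jacR, Matrix.sub_mul, Matrix.mul_sub, Matrix.trace_sub, Matrix.trace_sub, Matrix.mul_assoc, Matrix.mul_assoc,
    Matrix.trace_mul_comm (ad A (Pi.single j 1)) (E * _), Matrix.mul_assoc, sub_self]

/-- An element with `(ad s) ^ 2 = 0` is zero. -/
theorem Good.sandwich (h : Good A k) {K : Type v} [Field K] [Algebra k K] {s : ι → K} (hs : ad A s * ad A s = 0) :
    s = 0 := by
  have h2 : (2 : K) ≠ 0 := by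
    rw [← map_ofNat (algebraMap k K) 2]
    exact (map_ne_zero _).2 h.two
  refine h.nondeg fun j => ?_
  set y : ι → K := Pi.single j 1
  have h1 : ad A (ad A s *ᵥ (ad A s *ᵥ y)) = 0 := by rw [Matrix.mulVec_mulVec, hs, Matrix.zero_mulVec, ad_zero]
  rw [h.jacR, h.jacR] at h1
  have h3 : (2 : K) • (ad A s * ad A y * ad A s) = 0 := by
    have e : (2 : K) • (ad A s * ad A y * ad A s) = (ad A s * ad A s) * ad A y + ad A y * (ad A s * ad A s) -
        (ad A s * (ad A s * ad A y - ad A y * ad A s) - (ad A s * ad A y - ad A y * ad A s) * ad A s) := by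
      rw [two_smul]; noncomm_ring
    rw [e, h1, hs]; simp
  have h4 : ad A s * ad A y * ad A s = 0 := (smul_eq_zero.1 h3).resolve_left h2
  have h5 : IsNilpotent (ad A s * ad A y) := ⟨2, by rw [pow_two, ← Matrix.mul_assoc, h4, Matrix.zero_mul]⟩
  exact (Matrix.isNilpotent_trace_of_isNilpotent h5).eq_zero

/-! ### twisted homomorphisms -/

variable (A) in
/-- `[a x, a y] = δ a [x, y]` -/
def Tw (δ : R) (a : Matrix ι ι R) : Prop := ∀ x, ad A (a *ᵥ x) * a = δ • (a * ad A x)

variable (A) in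
/-- `κ (a x, a y) = δ ^ 2 κ (x, y)` -/
def Iso (δ : R) (a : Matrix ι ι R) : Prop := aᵀ * kil A R * a = (δ * δ) • kil A R

omit [Algebra k R] in
theorem tw_of_basis {δ : R} {a : Matrix ι ι R}
    (h : ∀ j, ad A (a *ᵥ Pi.single j 1) * a = δ • (a * ad A (Pi.single j 1))) : Tw A δ a := by
  intro x
  rw [eq_sum_single x, Matrix.mulVec_sum, ad_sum, ad_sum, Finset.sum_mul, Finset.mul_sum, Finset.smul_sum]
  refine Finset.sum_congr rfl fun j _ => ?_
  rw [Matrix.mulVec_smul, ad_smul, ad_smul, Matrix.smul_mul, h, Matrix.mul_smul, smul_comm]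

omit [Algebra k R] in
theorem Tw.br {δ : R} {a : Matrix ι ι R} (h : Tw A δ a) (x y : ι → R) :
    ad A (a *ᵥ x) *ᵥ (a *ᵥ y) = δ • (a *ᵥ (ad A x *ᵥ y)) := by
  rw [Matrix.mulVec_mulVec, h, Matrix.smul_mulVec, Matrix.mulVec_mulVec]

omit [Algebra k R] in
theorem tw_one : Tw A (1 : R) 1 := fun x => by simp

omit [Algebra k R] in
theorem Tw.mul {δ δ' : R} {a a' : Matrix ι ι R} (h : Tw A δ a) (h' : Tw A δ' a') : Tw A (δ * δ') (a * a') := by
  intro x
  rw [← Matrix.mulVec_mulVec, ← Matrix.mul_assoc, h, Matrix.smul_mul, Matrix.mul_assoc, h', Matrix.mul_smul, smul_smul,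
    Matrix.mul_assoc]

omit [Algebra k R] in
theorem Tw.mul1 {a a' : Matrix ι ι R} (h : Tw A 1 a) (h' : Tw A 1 a') : Tw A 1 (a * a') := by
  have := h.mul h'
  rwa [one_mul] at this

omit [Algebra k R] in
theorem Tw.smul {δ : R} {a : Matrix ι ι R} (h : Tw A δ a) (c : R) : Tw A (c * δ) (c • a) := by
  intro x
  rw [Matrix.smul_mulVec, ad_smul, Matrix.smul_mul, Matrix.mul_smul, h, Matrix.smul_mul, smul_smul, smul_smul, smul_smul]
  congr 1
  ring

omit [Algebra k R] [Algebra k S] in
theorem Tw.map {δ : R} {a : Matrix ι ι R} (h : Tw A δ a) (f : R →+* S) : Tw A (f δ) (a.map f) := by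
  refine tw_of_basis fun j => ?_
  have h1 : (ad A (a *ᵥ Pi.single j 1) * a).map f = (δ • (a * ad A (Pi.single j 1))).map f := by rw [h]
  have e : (fun l => f ((Pi.single j 1 : ι → R) l)) = Pi.single j 1 := by
    funext l
    by_cases hl : l = j
    · subst hl; simp
    · simp [Pi.single_eq_of_ne hl]
  rw [Matrix.map_mul, ad_map, mulVec_map, e] at h1
  rw [h1]
  ext x y
  rw [Matrix.map_apply, Matrix.smul_apply, Matrix.smul_apply, smul_eq_mul, smul_eq_mul, map_mul, ← e, ← ad_map,
    ← Matrix.map_mul, Matrix.map_apply]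

omit [Algebra k R] in
theorem Tw.inv {a a' : Matrix ι ι R} (h : Tw A 1 a) (ha : a * a' = 1) : Tw A 1 a' := by
  intro x
  have ha' : a' * a = 1 := mul_eq_one_comm.1 ha
  have h1 := h (a' *ᵥ x)
  rw [Matrix.mulVec_mulVec, ha, Matrix.one_mulVec, one_smul] at h1
  rw [one_smul]
  calc ad A (a' *ᵥ x) * a' = a' * (a * ad A (a' *ᵥ x)) * a' := by rw [← Matrix.mul_assoc, ha', Matrix.one_mul]
    _ = a' * ad A x := by rw [← h1, Matrix.mul_assoc, Matrix.mul_assoc, ha, Matrix.mul_one]

omit [Algebra k R] in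
theorem Tw.conj {a a' : Matrix ι ι R} (h : Tw A 1 a) (ha : a * a' = 1) (x : ι → R) :
    ad A (a *ᵥ x) = a * ad A x * a' := by
  have h1 := h x
  rw [one_smul] at h1
  rw [← h1, Matrix.mul_assoc, ha, Matrix.mul_one]

omit [Algebra k R] in
theorem Tw.kf_same {a a' : Matrix ι ι R} (h : Tw A 1 a) (ha : a * a' = 1) (x y : ι → R) :
    kf A (a *ᵥ x) (a *ᵥ y) = kf A x y := by
  have ha' : a' * a = 1 := mul_eq_one_comm.1 ha
  unfold kf
  rw [h.conj ha, h.conj ha]
  calc Matrix.trace (a * ad A x * a' * (a * ad A y * a')) = Matrix.trace (a * (ad A x * (a' * a) * ad A y * a')) := by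
        simp only [Matrix.mul_assoc]
    _ = Matrix.trace (ad A x * ad A y) := by
        rw [Matrix.trace_mul_comm, ha', Matrix.mul_one, Matrix.mul_assoc, ha', Matrix.mul_one]

omit [Algebra k R] in
theorem iso_of_kf {δ : R} {a : Matrix ι ι R}
    (h : ∀ i j, kf A (a *ᵥ Pi.single i 1) (a *ᵥ Pi.single j 1) = δ * δ * kil A R i j) : Iso A δ a := by
  ext i j
  have := h i j
  rw [kf_mulVec, single_one_dotProduct] at this
  simpa using this

omit [Algebra k R] in
theorem kf_single (i j : ι) : kf A (Pi.single i (1 : R)) (Pi.single j 1) = kil A R i j := by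
  rw [kf_eq, single_one_dotProduct]
  simp

omit [Algebra k R] in
theorem Tw.iso {a a' : Matrix ι ι R} (h : Tw A 1 a) (ha : a * a' = 1) : Iso A 1 a :=
  iso_of_kf fun i j => by rw [h.kf_same ha, kf_single, one_mul, one_mul]

omit [Algebra k R] in
theorem Iso.mul {δ δ' : R} {a a' : Matrix ι ι R} (h : Iso A δ a) (h' : Iso A δ' a') : Iso A (δ * δ') (a * a') := by
  unfold Iso at *
  calc (a * a')ᵀ * kil A R * (a * a') = a'ᵀ * (aᵀ * kil A R * a) * a' := by
        rw [Matrix.transpose_mul]; simp only [Matrix.mul_assoc]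
    _ = _ := by
        rw [h, Matrix.mul_smul, Matrix.smul_mul, h', smul_smul]
        congr 1
        ring

omit [Algebra k R] in
theorem Iso.smul {δ : R} {a : Matrix ι ι R} (h : Iso A δ a) (c : R) : Iso A (c * δ) (c • a) := by
  unfold Iso at *
  rw [Matrix.transpose_smul, Matrix.smul_mul, Matrix.smul_mul, Matrix.mul_smul, h, smul_smul, smul_smul]
  congr 1
  ring

omit [Algebra k R] [Algebra k S] in
theorem Iso.map {δ : R} {a : Matrix ι ι R} (h : Iso A δ a) (f : R →+* S) : Iso A (f δ) (a.map f) := by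
  unfold Iso at *
  rw [← kil_map f, ← Matrix.transpose_map, ← Matrix.map_mul, ← Matrix.map_mul, h]
  ext x y
  simp

variable (A k) in
/-- the adjoint matrix for the trace form -/
noncomputable def st (a : Matrix ι ι R) : Matrix ι ι R := kin A k R * aᵀ * kil A R

theorem st_map (f : R →ₐ[k] S) (a : Matrix ι ι R) : (st A k a).map f = st A k (a.map f) := by
  unfold st
  have h1 : ∀ M N : Matrix ι ι R, (M * N).map f = M.map f * N.map f := fun M N => Matrix.map_mul (f := (f : R →+* S))
  rw [h1, h1, kin_map, Matrix.transpose_map]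
  congr 1
  exact kil_map (f : R →+* S)

theorem Good.st_mul (h : Good A k) (a b : Matrix ι ι R) : st A k (a * b) = st A k b * st A k a := by
  unfold st
  rw [Matrix.transpose_mul]
  calc kin A k R * (bᵀ * aᵀ) * kil A R = kin A k R * bᵀ * (kil A R * kin A k R) * aᵀ * kil A R := by
        rw [h.mul_kin, Matrix.mul_one, Matrix.mul_assoc (kin A k R) bᵀ]
    _ = _ := by simp only [Matrix.mul_assoc]

theorem Good.st_mul_self (h : Good A k) {δ : R} {a : Matrix ι ι R} (ha : Iso A δ a) :
    st A k a * a = (δ * δ) • (1 : Matrix ι ι R) := by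
  unfold st
  rw [Matrix.mul_assoc, Matrix.mul_assoc, ← Matrix.mul_assoc aᵀ, ha, Matrix.mul_smul, h.kin_mul]

omit [Algebra k R] in
theorem smul_cancel {δ : R} (hδ : IsRegular δ) {M N : Matrix ι ι R} (h : δ • M = δ • N) : M = N := by
  ext a b
  exact hδ.left (congrFun (congrFun h a) b)

omit [Algebra k R] in
theorem mul_comm_of_regular {δ : R} (hδ : IsRegular δ) {a b : Matrix ι ι R} (h : b * a = δ • (1 : Matrix ι ι R)) :
    a * b = δ • (1 : Matrix ι ι R) := by
  have h1 : (a * b - δ • (1 : Matrix ι ι R)) * a = 0 := by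
    rw [Matrix.sub_mul, Matrix.mul_assoc, h, Matrix.mul_smul, Matrix.smul_mul, Matrix.mul_one, Matrix.one_mul, sub_self]
  have h2 : a.det • (a * b - δ • (1 : Matrix ι ι R)) = 0 := by
    have := congrArg (· * a.adjugate) h1
    simp only [Matrix.zero_mul] at this
    rwa [Matrix.mul_assoc, Matrix.mul_adjugate, Matrix.mul_smul, Matrix.mul_one] at this
  have h3 : b.det * a.det = δ ^ Fintype.card ι := by
    rw [← Matrix.det_mul, h, Matrix.det_smul, Matrix.det_one, mul_one]
  refine sub_eq_zero.1 (smul_cancel (hδ.pow (Fintype.card ι)) ?_)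
  rw [← h3, mul_smul, h2, smul_zero, smul_zero]

theorem Good.self_mul_st (h : Good A k) {δ : R} (hδ : IsRegular δ) {a : Matrix ι ι R} (ha : Iso A δ a) :
    a * st A k a = (δ * δ) • (1 : Matrix ι ι R) := mul_comm_of_regular (hδ.mul hδ) (h.st_mul_self ha)

theorem Good.st_eq_inv (h : Good A k) {a a' : Matrix ι ι R} (ha : Tw A 1 a) (haa : a * a' = 1) : st A k a = a' := by
  have h1 := h.st_mul_self (ha.iso haa)
  rw [one_mul, one_smul] at h1
  calc st A k a = st A k a * (a * a') := by rw [haa, Matrix.mul_one]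
    _ = a' := by rw [← Matrix.mul_assoc, h1, Matrix.one_mul]

theorem Good.tw_st (h : Good A k) {δ : R} (hδ : IsRegular δ) {a : Matrix ι ι R} (ha : Iso A δ a) (ht : Tw A δ a) :
    Tw A δ (st A k a) := by
  intro x
  have h1 := h.st_mul_self ha
  have h2 := h.self_mul_st hδ ha
  have h3 := ht (st A k a *ᵥ x)
  rw [Matrix.mulVec_mulVec, h2, Matrix.smul_mulVec, Matrix.one_mulVec, ad_smul, Matrix.smul_mul] at h3
  have h4 := congrArg (fun M => st A k a * M * st A k a) h3
  simp only [Matrix.mul_smul, Matrix.smul_mul] at h4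
  rw [Matrix.mul_assoc, Matrix.mul_assoc, h2, ← Matrix.mul_assoc (st A k a) a, h1] at h4
  simp only [Matrix.mul_smul, Matrix.smul_mul, Matrix.mul_one, Matrix.one_mul, smul_smul] at h4
  refine smul_cancel (hδ.mul (hδ.mul hδ)) ?_
  rw [← h4, smul_smul]
  congr 1
  ring

/-! ### gradings -/

variable (A) in
/-- a grading -/
def Gr (d : ι → ℤ) : Prop := ∀ j a b, A j a b ≠ 0 → d a = d j + d b

/-- the shifts of the degree -/
def Sh (d : ι → ℤ) (P : ℤ → Prop) (M : Matrix ι ι R) : Prop := ∀ a b, M a b ≠ 0 → P (d a - d b)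

/-- the degrees in the support -/
def Sp (d : ι → ℤ) (P : ℤ → Prop) (x : ι → R) : Prop := ∀ a, x a ≠ 0 → P (d a)

section Grad

variable {d : ι → ℤ} {P Q T : ℤ → Prop}

omit [Algebra k R]

theorem Sh.mono {M : Matrix ι ι R} (h : Sh d P M) (hP : ∀ s, P s → Q s) : Sh d Q M := fun a b hab => hP _ (h a b hab)

theorem Sh.mul {M N : Matrix ι ι R} (h : Sh d P M) (h' : Sh d Q N) (hT : ∀ s t, P s → Q t → T (s + t)) :
    Sh d T (M * N) := by
  intro a b hab
  rw [Matrix.mul_apply] at hab
  obtain ⟨c, -, hc⟩ := Finset.exists_ne_zero_of_sum_ne_zero hab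
  have := hT _ _ (h a c (left_ne_zero_of_mul hc)) (h' c b (right_ne_zero_of_mul hc))
  rwa [sub_add_sub_cancel] at this

theorem Sh.add {M N : Matrix ι ι R} (h : Sh d P M) (h' : Sh d P N) : Sh d P (M + N) := by
  intro a b hab
  by_cases h1 : M a b = 0
  · refine h' a b fun h2 => hab ?_
    rw [Matrix.add_apply, h1, h2, add_zero]
  · exact h a b h1

theorem Sh.neg {M : Matrix ι ι R} (h : Sh d P M) : Sh d P (-M) := fun a b hab => h a b fun h1 => hab (by
  rw [Matrix.neg_apply, h1, neg_zero])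

theorem Sh.sub {M N : Matrix ι ι R} (h : Sh d P M) (h' : Sh d P N) : Sh d P (M - N) := by
  rw [sub_eq_add_neg]; exact h.add h'.neg

theorem Sh.smul {M : Matrix ι ι R} (h : Sh d P M) {T : Type*} [SMulZeroClass T R] (c : T) : Sh d P (c • M) :=
  fun a b hab => h a b fun h1 => hab (by rw [Matrix.smul_apply, h1, smul_zero])

theorem sh_diagonal (hP : P 0) (f : ι → R) : Sh d P (Matrix.diagonal f) := by
  intro a b hab
  by_cases h : a = b
  · rw [h, sub_self]; exact hP
  · exact absurd (Matrix.diagonal_apply_ne _ h) hab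

theorem sh_one (hP : P 0) : Sh d P (1 : Matrix ι ι R) := sh_diagonal hP _

theorem Sh.map {M : Matrix ι ι R} (h : Sh d P M) {F : Type*} [FunLike F R S] [ZeroHomClass F R S] (f : F) :
    Sh d P (M.map f) := fun a b hab => h a b fun h1 => hab (by rw [Matrix.map_apply, h1, map_zero])

theorem Sh.eq_zero {M : Matrix ι ι R} (h : Sh d P M) (hP : ∀ a b, ¬ P (d a - d b)) : M = 0 := by
  ext a b
  by_contra hab
  exact hP a b (h a b hab)

theorem Gr.sh (h : Gr A d) {x : ι → R} (hx : Sp d P x) : Sh d P (ad A x) := by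
  intro a b hab
  rw [ad_apply] at hab
  obtain ⟨c, -, hc⟩ := Finset.exists_ne_zero_of_sum_ne_zero hab
  have h1 : A c a b ≠ 0 := fun h0 => right_ne_zero_of_mul hc (by rw [h0, Int.cast_zero])
  have h2 := hx c (left_ne_zero_of_mul hc)
  rw [h c a b h1, add_sub_cancel_right]
  exact h2

theorem Sh.sp {M : Matrix ι ι R} (h : Sh d P M) {x : ι → R} (hx : Sp d Q x) (hT : ∀ s t, P s → Q t → T (s + t)) :
    Sp d T (M *ᵥ x) := by
  intro a ha
  obtain ⟨c, -, hc⟩ := Finset.exists_ne_zero_of_sum_ne_zero (show ∑ c, M a c * x c ≠ 0 from ha)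
  have := hT _ _ (h a c (left_ne_zero_of_mul hc)) (hx c (right_ne_zero_of_mul hc))
  rwa [sub_add_cancel] at this

theorem Gr.neg (h : Gr A d) : Gr A (fun a => -d a) := fun j a b hab => by
  show -d a = -d j + -d b
  rw [h j a b hab]; ring

theorem Gr.kil_ne (h : Gr A d) {a b : ι} (hab : kil A R a b ≠ 0) : d a + d b = 0 := by
  obtain ⟨c, -, hc⟩ := Finset.exists_ne_zero_of_sum_ne_zero
    (show ∑ c, ((A a).map (Int.castRingHom R) * (A b).map (Int.castRingHom R)) c c ≠ 0 from hab)
  rw [Matrix.mul_apply] at hc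
  obtain ⟨e, -, he⟩ := Finset.exists_ne_zero_of_sum_ne_zero hc
  have h1 : A a c e ≠ 0 := fun h0 => left_ne_zero_of_mul he (by rw [Matrix.map_apply, h0, map_zero])
  have h2 : A b e c ≠ 0 := fun h0 => right_ne_zero_of_mul he (by rw [Matrix.map_apply, h0, map_zero])
  have h3 := h _ _ _ h1
  have h4 := h _ _ _ h2
  omega

/-- diagonal matrices given by a multiplicative function of the degree -/
theorem Gr.tw_diagonal (h : Gr A d) {δ : R} {f : ι → R}
    (hf : ∀ a j b, d a = d j + d b → f j * f b = δ * f a) : Tw A δ (Matrix.diagonal f) := by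
  intro x
  ext a b
  rw [Matrix.mul_diagonal, Matrix.smul_apply, Matrix.diagonal_mul, ad_apply, ad_apply, Finset.sum_mul, Finset.mul_sum,
    smul_eq_mul, Finset.mul_sum]
  refine Finset.sum_congr rfl fun j _ => ?_
  rw [Matrix.mulVec_diagonal]
  by_cases h0 : A j a b = 0
  · rw [h0]; simp
  · linear_combination (x j * (A j a b : R)) * hf a j b (h j a b h0)

theorem Gr.diagonal_kil (h : Gr A d) {f g : ι → R} (hf : ∀ a b, d a + d b = 0 → f a = g b) :
    Matrix.diagonal f * kil A R = kil A R * Matrix.diagonal g := by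
  ext a b
  rw [Matrix.diagonal_mul, Matrix.mul_diagonal]
  by_cases h0 : kil A R a b = 0
  · rw [h0, mul_zero, zero_mul]
  · rw [hf a b (h.kil_ne h0), mul_comm]

end Grad

theorem Good.st_diagonal (hG : Good A k) {d : ι → ℤ} (h : Gr A d) {f g : ι → R} (hf : ∀ a b, d a + d b = 0 → f a = g b) :
    st A k (Matrix.diagonal f) = Matrix.diagonal g := by
  unfold st
  rw [Matrix.diagonal_transpose, Matrix.mul_assoc, h.diagonal_kil hf, ← Matrix.mul_assoc, hG.kin_mul, Matrix.one_mul]

/-- the components of `w` are seen in `ad w` -/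
theorem Good.sp_of_sh (hG : Good A k) {d : ι → ℤ} (h : Gr A d) {P : ℤ → Prop} {w : ι → R} (hw : Sh d P (ad A w)) :
    Sp d P w := by
  classical
  let w' : ι → R := fun a => if P (d a) then 0 else w a
  have h1 : ad A w' = 0 := by
    ext a b
    by_cases hP : P (d a - d b)
    · rw [ad_apply]
      refine Finset.sum_eq_zero fun j _ => ?_
      by_cases h0 : A j a b = 0
      · rw [h0, Int.cast_zero, mul_zero]
      · have : d j = d a - d b := by rw [h j a b h0]; ring
        simp only [w', this, if_pos hP, zero_mul]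
    · have h2 : ad A w a b = 0 := by
        by_contra h3
        exact hP (hw a b h3)
      rw [Matrix.zero_apply, ← h2, ad_apply, ad_apply]
      refine Finset.sum_congr rfl fun j _ => ?_
      by_cases h0 : A j a b = 0
      · rw [h0, Int.cast_zero, mul_zero, mul_zero]
      · have : d j = d a - d b := by rw [h j a b h0]; ring
        simp only [w', this, if_neg hP]
  intro a ha
  by_contra hP
  have := congrFun (hG.ad_eq_zero h1) a
  simp only [w', if_neg hP] at this
  exact ha this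

/-! ### exponentials -/

variable (k) in
/-- the exponential of a matrix with cube zero -/
noncomputable def ex (N : Matrix ι ι R) : Matrix ι ι R := 1 + N + (2⁻¹ : k) • (N * N)

theorem ex_zero : ex k (0 : Matrix ι ι R) = 1 := by simp [ex]

theorem ex_map (f : R →ₐ[k] S) (N : Matrix ι ι R) : (ex k N).map f = ex k (N.map f) := by
  have h1 : (N * N).map f = N.map f * N.map f := Matrix.map_mul (f := (f : R →+* S))
  unfold ex
  rw [← h1]
  ext a b
  rw [Matrix.map_apply, Matrix.add_apply, Matrix.add_apply, Matrix.add_apply, Matrix.add_apply, Matrix.smul_apply,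
    Matrix.smul_apply, map_add, map_add, map_smul, Matrix.map_apply, Matrix.map_apply, Matrix.one_apply, Matrix.one_apply,
    apply_ite f, map_one, map_zero]

theorem ex_mul (h2 : (2 : k) ≠ 0) {N M : Matrix ι ι R} (hc : N * M = M * N) (h1 : N * N * M = 0) (h3 : N * M * M = 0) :
    ex k N * ex k M = ex k (N + M) := by
  have e : (2⁻¹ : k) • (N * M) + (2⁻¹ : k) • (N * M) = N * M := by
    rw [← add_smul, ← two_mul, mul_inv_cancel₀ h2, one_smul]
  have h4 : N * N * (M * M) = 0 := by rw [← Matrix.mul_assoc, h1, Matrix.zero_mul]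
  unfold ex
  simp only [Matrix.add_mul, Matrix.mul_add, Matrix.smul_mul, Matrix.mul_smul, Matrix.one_mul, Matrix.mul_one, smul_add,
    h1, h4, ← hc, smul_zero]
  rw [← Matrix.mul_assoc N M M, h3, smul_zero]
  calc _ = 1 + N + (2⁻¹ : k) • (N * N) + M + (N * M) + (2⁻¹ : k) • (M * M) := by abel
    _ = 1 + N + (2⁻¹ : k) • (N * N) + M + ((2⁻¹ : k) • (N * M) + (2⁻¹ : k) • (N * M)) + (2⁻¹ : k) • (M * M) := by rw [e]
    _ = _ := by abel

theorem ex_mul_neg (h2 : (2 : k) ≠ 0) {N : Matrix ι ι R} (h1 : N * N * N = 0) : ex k N * ex k (-N) = 1 := by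
  rw [ex_mul h2 (by simp) (by rw [Matrix.mul_neg, h1, neg_zero]) (by simp [h1]), add_neg_cancel, ex_zero]

theorem smul_cancel_k {c : k} (hc : c ≠ 0) {M : Matrix ι ι R} (h : c • M = 0) : M = 0 := by
  have := congrArg (fun X => c⁻¹ • X) h
  simpa [smul_smul, inv_mul_cancel₀ hc] using this

theorem Good.tw_ex (h : Good A k) {x : ι → R} (h3 : ad A x * ad A x * ad A x = 0) : Tw A 1 (ex k (ad A x)) := by
  intro y
  set N := ad A x with hN
  set Y := ad A y with hY
  have e1 : ad A (N *ᵥ y) = N * Y - Y * N := h.jacR x y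
  have e2 : ad A (N *ᵥ (N *ᵥ y)) = N * (N * Y - Y * N) - (N * Y - Y * N) * N := by rw [← e1]; exact h.jacR x _
  have e3 : ad A (N *ᵥ (N *ᵥ (N *ᵥ y))) = N * (N * (N * Y - Y * N) - (N * Y - Y * N) * N) -
      (N * (N * Y - Y * N) - (N * Y - Y * N) * N) * N := by rw [← e2]; exact h.jacR x _
  rw [Matrix.mulVec_mulVec, Matrix.mulVec_mulVec, h3, Matrix.zero_mulVec, ad_zero] at e3
  have r1 : N * N * Y * N = N * Y * N * N := by
    refine sub_eq_zero.1 (smul_cancel_k h.three ?_)
    have e : (3 : k) • (N * N * Y * N - N * Y * N * N) = (N * N * N) * Y - Y * (N * N * N) -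
        (N * (N * (N * Y - Y * N) - (N * Y - Y * N) * N) - (N * (N * Y - Y * N) - (N * Y - Y * N) * N) * N) := by
      rw [show (3 : k) = 1 + 1 + 1 by norm_num, add_smul, add_smul, one_smul]; noncomm_ring
    rw [e, ← e3, h3]; simp
  have r2 : N * N * Y * N * N = 0 := by
    rw [r1, Matrix.mul_assoc (N * Y), Matrix.mul_assoc (N * Y), h3, Matrix.mul_zero]
  have r3 : Y * N * N * N = 0 := by rw [Matrix.mul_assoc Y, Matrix.mul_assoc Y, h3, Matrix.mul_zero]
  have r4 : N * Y * N * N * N = 0 := by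
    rw [Matrix.mul_assoc (N * Y), Matrix.mul_assoc (N * Y), h3, Matrix.mul_zero]
  have e4 : ad A (ex k N *ᵥ y) = Y + (N * Y - Y * N) + (2⁻¹ : k) • (N * (N * Y - Y * N) - (N * Y - Y * N) * N) := by
    unfold ex
    rw [Matrix.add_mulVec, Matrix.add_mulVec, Matrix.one_mulVec, Matrix.smul_mulVec, ad_add, ad_add, e1, ← e2,
      ← Matrix.mulVec_mulVec, ← algebraMap_smul R (2⁻¹ : k), ad_smul, algebraMap_smul]
  rw [e4, one_smul]
  refine sub_eq_zero.1 (smul_cancel_k (mul_ne_zero h.two h.two) ?_)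
  have t : ∀ M : Matrix ι ι R, (2⁻¹ : k) • M + (2⁻¹ : k) • M = M := fun M => by
    rw [← add_smul, ← two_mul, mul_inv_cancel₀ h.two, one_smul]
  have f1 : (2 : k) • ex k N = 1 + 1 + N + N + N * N := by
    unfold ex
    rw [two_smul]
    calc _ = 1 + 1 + N + N + ((2⁻¹ : k) • (N * N) + (2⁻¹ : k) • (N * N)) := by abel
      _ = _ := by rw [t]
  have f2 : (2 : k) • (Y + (N * Y - Y * N) + (2⁻¹ : k) • (N * (N * Y - Y * N) - (N * Y - Y * N) * N)) =
      Y + Y + (N * Y - Y * N) + (N * Y - Y * N) + (N * (N * Y - Y * N) - (N * Y - Y * N) * N) := by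
    rw [two_smul]
    calc _ = Y + Y + (N * Y - Y * N) + (N * Y - Y * N) + ((2⁻¹ : k) • (N * (N * Y - Y * N) - (N * Y - Y * N) * N) +
          (2⁻¹ : k) • (N * (N * Y - Y * N) - (N * Y - Y * N) * N)) := by abel
      _ = _ := by rw [t]
  rw [smul_sub, ← smul_mul_smul_comm, f1, f2, mul_smul, ← Matrix.smul_mul, f1, two_smul]
  have e : (Y + Y + (N * Y - Y * N) + (N * Y - Y * N) + (N * (N * Y - Y * N) - (N * Y - Y * N) * N)) *
      (1 + 1 + N + N + N * N) - ((1 + 1 + N + N + N * N) * Y + (1 + 1 + N + N + N * N) * Y) =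
      (N * N * Y * N - N * Y * N * N) + (N * N * Y * N - N * Y * N * N) + N * N * Y * N * N -
        (N * Y * N * N * N + N * Y * N * N * N) + Y * N * N * N * N := by noncomm_ring
  rw [e, r2, r3, r4, r1]
  simp

theorem Sh.exp {d : ι → ℤ} {P : ℤ → Prop} {N : Matrix ι ι R} (h : Sh d P N) (h0 : P 0) (hP : ∀ s t, P s → P t → P (s + t)) :
    Sh d P (ex k N) := ((sh_one h0).add h).add ((h.mul h hP).smul _)

end Main

end Cfsg.Agent.E8A.Reg5
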