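import Cfsg.Agent.E8A.Reg5.Lie

/-!
# Local analysis at a special point (helper42)

* `Cg m e f` : the exponents `n` of `f` satisfy `m ∣ n + e`;
* `Loc A d m δ M` : the local data; `lo d m M` : the matrix of the lowest terms;
* `Loc.glue` : if the lowest terms define the same filtration, then `M' x M^*` is divisible by `X ^ (2 m)`;
* `loc_rigid`.
-/

set_option autoImplicit false
set_option linter.unusedSectionVars false

namespace Cfsg.Agent.E8A.Reg5

open Matrix Polynomial

universe u v w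

variable {ι : Type} [Fintype ι] [DecidableEq ι] {A : ι → Matrix ι ι ℤ}
variable {k : Type u} [Field k] {R : Type v} [CommRing R] [Algebra k R]

/-! ### congruences for the exponents -/

/-- the exponents satisfy a congruence -/
def Cg (m : ℕ) (e : ℤ) (f : R[X]) : Prop := ∀ n, f.coeff n ≠ 0 → (m : ℤ) ∣ (n : ℤ) + e

section Cg

omit [Algebra k R]

variable {m : ℕ}

theorem cg_zero (e : ℤ) : Cg m e (0 : R[X]) := fun n h => absurd (coeff_zero n) h

theorem Cg.add {e : ℤ} {f g : R[X]} (hf : Cg m e f) (hg : Cg m e g) : Cg m e (f + g) := by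
  intro n h
  by_cases h1 : f.coeff n = 0
  · refine hg n fun h2 => h ?_
    rw [coeff_add, h1, h2, add_zero]
  · exact hf n h1

theorem Cg.sum {T : Type*} {e : ℤ} (s : Finset T) {f : T → R[X]} (hf : ∀ x ∈ s, Cg m e (f x)) : Cg m e (∑ x ∈ s, f x) := by
  intro n h
  rw [finsetSum_coeff] at h
  obtain ⟨c, hc, h1⟩ := Finset.exists_ne_zero_of_sum_ne_zero h
  exact hf c hc n h1

theorem Cg.mul {e e' : ℤ} {f g : R[X]} (hf : Cg m e f) (hg : Cg m e' g) : Cg m (e + e') (f * g) := by
  intro n h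
  rw [coeff_mul] at h
  obtain ⟨c, hc, h1⟩ := Finset.exists_ne_zero_of_sum_ne_zero h
  have h2 := Finset.HasAntidiagonal.mem_antidiagonal.1 hc
  have h3 := dvd_add (hf _ (left_ne_zero_of_mul h1)) (hg _ (right_ne_zero_of_mul h1))
  rw [← h2, Nat.cast_add, show (c.1 : ℤ) + c.2 + (e + e') = c.1 + e + (c.2 + e') by ring]
  exact h3

theorem Cg.mul0 {f g : R[X]} (hf : Cg m 0 f) (hg : Cg m 0 g) : Cg m 0 (f * g) := by
  have := hf.mul hg
  rwa [add_zero] at this

theorem cg_C (a : R) : Cg m 0 (C a) := by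
  intro n h
  rw [coeff_C] at h
  by_cases hn : n = 0
  · rw [hn]; simp
  · exact absurd (if_neg hn) h

theorem coeff_mul_m (hm : 0 < m) {f : R[X]} (hf : Cg m 0 f) (g : R[X]) :
    (f * g).coeff m = f.coeff 0 * g.coeff m + f.coeff m * g.coeff 0 := by
  rw [coeff_mul]
  refine Finset.sum_eq_add_of_mem (0, m) (m, 0) (by simp) (by simp) (fun h => by simp at h; omega) ?_
  intro c hc hne
  have h2 := Finset.HasAntidiagonal.mem_antidiagonal.1 hc
  by_contra h1
  have h3 := hf _ (left_ne_zero_of_mul h1)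
  rw [add_zero, Int.natCast_dvd_natCast] at h3
  rcases Nat.eq_zero_or_pos c.1 with h4 | h4
  · exact hne.1 (Prod.ext h4 (by show c.2 = m; omega))
  · have := Nat.le_of_dvd h4 h3
    exact hne.2 (Prod.ext (by show c.1 = m; omega) (by show c.2 = 0; omega))

/-- matrices with entries in `R[X ^ m]` -/
def CgM (m : ℕ) (M : Matrix ι ι R[X]) : Prop := ∀ a b, Cg m 0 (M a b)

theorem CgM.mul {M N : Matrix ι ι R[X]} (hM : CgM m M) (hN : CgM m N) : CgM m (M * N) := fun a b => by
  rw [Matrix.mul_apply]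
  exact Cg.sum _ fun c _ => (hM a c).mul0 (hN c b)

theorem cgM_map (M : Matrix ι ι R) : CgM m (M.map C) := fun _ _ => cg_C _

theorem CgM.transpose {M : Matrix ι ι R[X]} (hM : CgM m M) : CgM m Mᵀ := fun a b => hM b a

/-- the matrix of the coefficients of `X ^ n` -/
def cf (n : ℕ) (M : Matrix ι ι R[X]) : Matrix ι ι R := Matrix.of fun a b => (M a b).coeff n

theorem cf_apply (n : ℕ) (M : Matrix ι ι R[X]) (a b : ι) : cf n M a b = (M a b).coeff n := rfl

theorem cf_zero (M : Matrix ι ι R[X]) : cf 0 M = M.map (constantCoeff : R[X] →+* R) := rfl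

theorem cf_zero_mul (M N : Matrix ι ι R[X]) : cf 0 (M * N) = cf 0 M * cf 0 N := by
  rw [cf_zero, cf_zero, cf_zero, Matrix.map_mul]

theorem cf_zero_C (M : Matrix ι ι R) : cf 0 (M.map C) = M := by
  ext a b
  rw [cf_apply, Matrix.map_apply, coeff_C_zero]

theorem cf_mul_m (hm : 0 < m) {M : Matrix ι ι R[X]} (hM : CgM m M) (N : Matrix ι ι R[X]) :
    cf m (M * N) = cf 0 M * cf m N + cf m M * cf 0 N := by
  ext a b
  rw [cf_apply, Matrix.mul_apply, finsetSum_coeff, Matrix.add_apply, Matrix.mul_apply, Matrix.mul_apply,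
    ← Finset.sum_add_distrib]
  exact Finset.sum_congr rfl fun c _ => coeff_mul_m hm (hM a c) (N c b)

theorem cf_mul_C (n : ℕ) (M : Matrix ι ι R[X]) (N : Matrix ι ι R) : cf n (M * N.map C) = cf n M * N := by
  ext a b
  rw [cf_apply, Matrix.mul_apply, finsetSum_coeff, Matrix.mul_apply]
  exact Finset.sum_congr rfl fun c _ => coeff_mul_C _ _ _

theorem cf_smul_m (hm : 0 < m) {f : R[X]} (hf : Cg m 0 f) (M : Matrix ι ι R[X]) :
    cf m (f • M) = f.coeff 0 • cf m M + f.coeff m • cf 0 M := by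
  ext a b
  exact coeff_mul_m hm hf (M a b)

theorem cf_ad (n : ℕ) (M : Matrix ι ι R[X]) (y : ι → R) :
    cf n (ad A (M *ᵥ fun j => C (y j))) = ad A (cf n M *ᵥ y) := by
  ext a b
  rw [cf_apply, ad_apply, ad_apply, finsetSum_coeff]
  refine Finset.sum_congr rfl fun j _ => ?_
  rw [← eq_intCast (C.comp (Int.castRingHom R)), RingHom.comp_apply, coeff_mul_C]
  congr 1
  show (∑ c, M j c * C (y c)).coeff n = ∑ c, cf n M j c * y c
  rw [finsetSum_coeff]
  exact Finset.sum_congr rfl fun c _ => coeff_mul_C _ _ _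

theorem CgM.ad {M : Matrix ι ι R[X]} (hM : CgM m M) (y : ι → R) : CgM m (ad A (M *ᵥ fun j => C (y j))) := by
  intro a b
  rw [ad_apply]
  refine Cg.sum _ fun j _ => Cg.mul0 ?_ ?_
  · exact Cg.sum _ fun c _ => (hM j c).mul0 (cg_C _)
  · rw [← eq_intCast (C.comp (Int.castRingHom R)), RingHom.comp_apply]
    exact cg_C _

end Cg

theorem kin_C : kin A k R[X] = (kin A k R).map C := by
  ext a b
  rfl

theorem CgM.st {m : ℕ} {M : Matrix ι ι R[X]} (hM : CgM m M) : CgM m (st A k M) := by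
  unfold Reg5.st
  rw [kin_C, ← kil_map (C : R →+* R[X])]
  exact ((cgM_map _).mul hM.transpose).mul (cgM_map _)

theorem cf_zero_st (M : Matrix ι ι R[X]) : cf 0 (st A k M) = st A k (cf 0 M) := by
  unfold st
  rw [cf_zero_mul, cf_zero_mul, kin_C, ← kil_map (C : R →+* R[X]), cf_zero_C, cf_zero_C]
  rfl

theorem st_smul (c : R) (M : Matrix ι ι R) : st A k (c • M) = c • st A k M := by
  unfold st
  rw [Matrix.transpose_smul, Matrix.mul_smul, Matrix.smul_mul]

/-! ### local data -/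

/-- a grading with degrees between `-m` and `m` -/
structure GrB (A : ι → Matrix ι ι ℤ) (d : ι → ℤ) (m : ℕ) : Prop where
  gr : Gr A d
  pos : 0 < m
  lb : ∀ a, -(m : ℤ) ≤ d a
  ub : ∀ a, d a ≤ m

/-- the exponent of the lattice -/
def xp (d : ι → ℤ) (m : ℕ) (a : ι) : ℕ := ((m : ℤ) - d a).toNat

/-- the dual exponent -/
def xq (d : ι → ℤ) (m : ℕ) (a : ι) : ℕ := ((m : ℤ) + d a).toNat

variable {d : ι → ℤ} {m : ℕ}

theorem GrB.xp_cast (h : GrB A d m) (a : ι) : (xp d m a : ℤ) = m - d a := Int.toNat_of_nonneg (sub_nonneg.2 (h.ub a))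

theorem GrB.xq_cast (h : GrB A d m) (a : ι) : (xq d m a : ℤ) = m + d a :=
  Int.toNat_of_nonneg (by have := h.lb a; omega)

omit [Algebra k R] in
theorem GrB.tw_pow (h : GrB A d m) (t : R) : Tw A (t ^ m) (Matrix.diagonal fun a => t ^ xp d m a) :=
  h.gr.tw_diagonal fun a j b hab => by
    rw [← pow_add, ← pow_add]
    congr 1
    have h1 := h.xp_cast a
    have h2 := h.xp_cast j
    have h3 := h.xp_cast b
    omega

omit [Algebra k R] in
theorem GrB.xp_eq (h : GrB A d m) {a b : ι} (hab : d a + d b = 0) : xp d m a = xq d m b := by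
  have h1 := h.xp_cast a
  have h2 := h.xq_cast b
  omega

omit [Algebra k R] in
theorem GrB.xq_add (h : GrB A d m) (a : ι) : xq d m a + xp d m a = m + m := by
  have h1 := h.xp_cast a
  have h2 := h.xq_cast a
  omega

omit [Algebra k R] in
theorem GrB.diag_mul (h : GrB A d m) (t : R) : (Matrix.diagonal fun a => t ^ xq d m a) *
    (Matrix.diagonal fun a => t ^ xp d m a) = (t ^ m * t ^ m) • (1 : Matrix ι ι R) := by
  rw [Matrix.diagonal_mul_diagonal, Matrix.smul_one_eq_diagonal]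
  congr 1
  funext a
  rw [← pow_add, ← pow_add, h.xq_add]

omit [Algebra k R] in
theorem GrB.iso_pow (h : GrB A d m) (t : R) : Iso A (t ^ m) (Matrix.diagonal fun a => t ^ xp d m a) := by
  unfold Iso
  rw [Matrix.diagonal_transpose, h.gr.diagonal_kil (g := fun a => t ^ xq d m a) (fun a b hab => by rw [h.xp_eq hab]),
    Matrix.mul_assoc, h.diag_mul, Matrix.mul_smul, Matrix.mul_one]

/-- the local data -/
structure Loc (A : ι → Matrix ι ι ℤ) (d : ι → ℤ) (m : ℕ) (δ : R[X]) (M : Matrix ι ι R[X]) : Prop where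
  cg : ∀ a b, Cg m (d a) (M a b)
  dvd : ∀ a b, X ^ xp d m a ∣ M a b
  tw : Tw A (X ^ m * δ) M
  iso : Iso A (X ^ m * δ) M

/-- the lowest terms -/
def lo (d : ι → ℤ) (m : ℕ) (M : Matrix ι ι R[X]) : Matrix ι ι R := Matrix.of fun a b => (M a b).coeff (xp d m a)

omit [Algebra k R] in
theorem Loc.quot (h : GrB A d m) {δ : R[X]} {M : Matrix ι ι R[X]} (hM : Loc A d m δ M) :
    ∃ B : Matrix ι ι R[X], M = (Matrix.diagonal fun a => X ^ xp d m a) * B ∧ CgM m B ∧ Tw A δ B ∧ Iso A δ B ∧
      cf 0 B = lo d m M := by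
  choose B hB using hM.dvd
  have hX : IsRegular ((X : R[X]) ^ m) := isRegular_X_pow m
  have e : M = (Matrix.diagonal fun a => X ^ xp d m a) * Matrix.of B := by
    ext1 a b
    rw [Matrix.diagonal_mul, hB]
    rfl
  have hc : ∀ a b n, (B a b).coeff n = (M a b).coeff (n + xp d m a) := fun a b n => by rw [hB, coeff_X_pow_mul]
  refine ⟨Matrix.of B, e, ?_, ?_, ?_, ?_⟩
  · intro a b n hn
    have h1 := hM.cg a b (n + xp d m a) (by rw [← hc]; exact hn)
    rw [Nat.cast_add, h.xp_cast] at h1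
    have h2 : (n : ℤ) + 0 = ((n : ℤ) + (m - d a) + d a) - m := by ring
    rw [h2]
    exact dvd_sub h1 (dvd_refl _)
  · intro x
    have h1 := hM.tw x
    rw [e, ← Matrix.mulVec_mulVec, ← Matrix.mul_assoc, h.tw_pow, Matrix.smul_mul] at h1
    have h2 := congrArg (fun N => (Matrix.diagonal fun a => (X : R[X]) ^ xq d m a) * N) h1
    simp only [Matrix.mul_smul, ← Matrix.mul_assoc, h.diag_mul, Matrix.smul_mul, Matrix.one_mul, smul_smul] at h2
    refine smul_cancel (hX.mul (hX.mul hX)) ?_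
    rw [h2, smul_smul]
    congr 1
    ring
  · have h1 := hM.iso
    have h2 := h.iso_pow (X : R[X])
    unfold Iso at h1 h2 ⊢
    rw [e, Matrix.transpose_mul] at h1
    refine smul_cancel (hX.mul hX) ?_
    calc (X ^ m * X ^ m : R[X]) • ((Matrix.of B)ᵀ * kil A R[X] * Matrix.of B)
        = (Matrix.of B)ᵀ * ((X ^ m * X ^ m : R[X]) • kil A R[X]) * Matrix.of B := by
          rw [Matrix.mul_smul, Matrix.smul_mul]
      _ = _ := by
          rw [← h2, smul_smul, show (X ^ m * X ^ m * (δ * δ) : R[X]) = X ^ m * δ * (X ^ m * δ) by ring, ← h1]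
          simp only [Matrix.mul_assoc]
  · ext a b
    rw [cf_apply, Matrix.of_apply, hc, zero_add]
    rfl

omit [Algebra k R] in
theorem Loc.tw_lo (h : GrB A d m) {δ : R[X]} {M : Matrix ι ι R[X]} (hM : Loc A d m δ M) :
    Tw A (δ.coeff 0) (lo d m M) ∧ Iso A (δ.coeff 0) (lo d m M) := by
  obtain ⟨B, -, -, h1, h2, h3⟩ := hM.quot h
  rw [← h3, cf_zero]
  exact ⟨h1.map (constantCoeff : R[X] →+* R), h2.map (constantCoeff : R[X] →+* R)⟩

omit [Algebra k R] in
theorem regular_of_coeff {δ : R[X]} (h : IsUnit (δ.coeff 0)) : IsRegular δ :=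
  isRegular_iff_mem_nonZeroDivisors.2 (mem_nonzeroDivisors_of_coeff_mem 0 h.mem_nonZeroDivisors)

/-- **Gluing, local part.** -/
theorem Loc.glue (hG : Good A k) (h : GrB A d m) {δ : R[X]} (hδ : Cg m 0 δ) (hu : IsUnit (δ.coeff 0))
    {M M' : Matrix ι ι R[X]} (hM : Loc A d m δ M) (hM' : Loc A d m δ M') {x x' : Matrix ι ι R} (hx : Tw A 1 x)
    (hxx : x * x' = 1) (hq : Sh d (· ≤ 0) (lo d m M' * x * st A k (lo d m M))) (a b : ι) :
    X ^ (m + m) ∣ (M' * x.map C * st A k M) a b := by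
  obtain ⟨B, e, c1, t1, i1, l1⟩ := hM.quot h
  obtain ⟨B', e', c2, t2, i2, l2⟩ := hM'.quot h
  obtain ⟨-, j1⟩ := hM.tw_lo h
  obtain ⟨-, j2⟩ := hM'.tw_lo h
  have hreg := regular_of_coeff hu
  set E := B' * x.map C * st A k B with hE
  have hEc : CgM m E := (c2.mul (cgM_map x)).mul c1.st
  have hx1 : Tw A 1 (x.map (C : R →+* R[X])) := by
    have := hx.map (C : R →+* R[X])
    rwa [map_one] at this
  have hEt : Tw A (δ * δ) E := by
    have := (t2.mul hx1).mul (hG.tw_st hreg i1 t1)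
    rwa [mul_one] at this
  have hE0 : cf 0 E = lo d m M' * x * st A k (lo d m M) := by
    rw [hE, cf_zero_mul, cf_zero_mul, cf_zero_C, cf_zero_st, l1, l2]
  have hEt0 : Tw A (δ.coeff 0 * δ.coeff 0) (cf 0 E) := by
    have := hEt.map (constantCoeff : R[X] →+* R)
    rwa [map_mul] at this
  obtain ⟨c, hc⟩ := hu.exists_left_inv
  set ε := δ.coeff 0 * δ.coeff 0 with hε
  have hcε : c * c * ε = 1 := by
    rw [hε]; linear_combination (c * δ.coeff 0 + 1) * hc
  set q' : Matrix ι ι R := (c * c) • (lo d m M * x' * st A k (lo d m M')) with hq'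
  have hq1 : cf 0 E * q' = ε • (1 : Matrix ι ι R) := by
    rw [hE0, hq', Matrix.mul_smul]
    calc (c * c) • (lo d m M' * x * st A k (lo d m M) * (lo d m M * x' * st A k (lo d m M')))
        = (c * c) • (lo d m M' * (x * (st A k (lo d m M) * lo d m M) * x') * st A k (lo d m M')) := by
          simp only [Matrix.mul_assoc]
      _ = _ := by
          rw [hG.st_mul_self j1, Matrix.mul_smul, Matrix.smul_mul, Matrix.mul_one, hxx, Matrix.mul_smul, Matrix.smul_mul,
            Matrix.mul_one, hG.self_mul_st hu.isRegular j2, smul_smul, smul_smul, ← hε, hcε, one_mul]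
  clear_value q'
  have hεr : IsRegular ε := hu.isRegular.mul hu.isRegular
  have hq2 : q' * cf 0 E = ε • (1 : Matrix ι ι R) := mul_comm_of_regular hεr hq1
  -- the relation in degree `m`
  have hrel : ∀ y : ι → R, ad A (cf 0 E *ᵥ y) * cf m E + ad A (cf m E *ᵥ y) * cf 0 E =
      ε • (cf m E * ad A y) + (δ * δ).coeff m • (cf 0 E * ad A y) := by
    intro y
    have h1 := congrArg (cf m) (hEt fun j => C (y j))
    rw [cf_mul_m h.pos (hEc.ad y), cf_ad, cf_ad, ← ad_map (C : R →+* R[X]),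
      cf_smul_m h.pos (hδ.mul0 hδ), cf_mul_C, cf_mul_C, mul_coeff_zero] at h1
    exact h1
  set μ := (δ * δ).coeff m with hμ
  have hder : ∀ y : ι → R, ad A ((cf m E * q' - (ε * μ * (c * c)) • (1 : Matrix ι ι R)) *ᵥ y) =
      (cf m E * q' - (ε * μ * (c * c)) • (1 : Matrix ι ι R)) * ad A y -
        ad A y * (cf m E * q' - (ε * μ * (c * c)) • (1 : Matrix ι ι R)) := by
    intro y
    have h1 := congrArg (· * q') (hrel (q' *ᵥ y))
    have h2 := hEt0 (q' *ᵥ y)
    rw [Matrix.mulVec_mulVec, hq1, Matrix.smul_mulVec, Matrix.one_mulVec, ad_smul, Matrix.smul_mul] at h2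
    have h3 : cf 0 E * ad A (q' *ᵥ y) = ad A y * cf 0 E := (smul_cancel hεr h2).symm
    have h4 : ad A (q' *ᵥ y) * q' = q' * ad A y := by
      refine smul_cancel hεr ?_
      calc ε • (ad A (q' *ᵥ y) * q') = q' * cf 0 E * ad A (q' *ᵥ y) * q' := by
            rw [hq2, Matrix.smul_mul, Matrix.smul_mul, Matrix.one_mul]
        _ = q' * ad A y * (cf 0 E * q') := by rw [Matrix.mul_assoc q', h3]; simp only [Matrix.mul_assoc]
        _ = _ := by rw [hq1, Matrix.mul_smul, Matrix.mul_one]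
    simp only [Matrix.add_mul, Matrix.smul_mul, Matrix.mul_assoc] at h1
    rw [Matrix.mulVec_mulVec, Matrix.mulVec_mulVec, hq1, h4, Matrix.smul_mulVec, Matrix.one_mulVec, ad_smul,
      Matrix.smul_mul, Matrix.mul_smul, Matrix.mul_one, ← Matrix.mul_assoc (cf 0 E), hq1, Matrix.smul_mul,
      Matrix.one_mul] at h1
    rw [Matrix.sub_mulVec, Matrix.smul_mulVec, Matrix.one_mulVec, ad_sub, ad_smul, Matrix.sub_mul, Matrix.mul_sub,
      Matrix.smul_mul, Matrix.mul_smul, Matrix.one_mul, Matrix.mul_one]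
    have h5 : ε * μ * (c * c) = μ := by linear_combination μ * hcε
    rw [h5]
    refine smul_cancel hεr ?_
    rw [smul_sub, smul_sub, smul_sub, smul_sub, Matrix.mul_assoc, smul_comm ε μ, eq_sub_of_add_eq' h1]
    abel
  obtain ⟨w, hw⟩ := hG.exists_eq_ad hder
  have hE1 : Sh d (· ≤ (m : ℤ)) (cf m E) := by
    have h1 : cf m E = (c * c) • ((ad A w + (ε * μ * (c * c)) • (1 : Matrix ι ι R)) * cf 0 E) := by
      rw [← hw, sub_add_cancel, Matrix.mul_assoc, hq2, Matrix.mul_smul, Matrix.mul_one, smul_smul, hcε, one_smul]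
    rw [h1]
    refine Sh.smul (Sh.mul (P := (· ≤ (m : ℤ))) (Q := (· ≤ 0)) (Sh.add ?_ ?_) (by rw [hE0]; exact hq) ?_) _
    · exact h.gr.sh fun a _ => h.ub a
    · exact (sh_one (P := (· ≤ (m : ℤ))) (Int.natCast_nonneg m)).smul _
    · intro s t hs ht
      show s + t ≤ m
      omega
  have hfin : M' * x.map C * st A k M =
      (Matrix.diagonal fun a => X ^ xp d m a) * E * (Matrix.diagonal fun a => X ^ xq d m a) := by
    rw [e', e, hG.st_mul, hG.st_diagonal h.gr (g := fun a => (X : R[X]) ^ xq d m a) (fun a b hab => by rw [h.xp_eq hab]),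
      hE]
    simp only [Matrix.mul_assoc]
  rw [hfin, Matrix.mul_diagonal, Matrix.diagonal_mul, mul_right_comm, ← pow_add, X_pow_dvd_iff]
  intro n hn
  rw [coeff_X_pow_mul']
  split_ifs with hs
  · by_contra h0
    have h1 := hEc a b _ h0
    rw [add_zero, Int.natCast_dvd_natCast] at h1
    have h2 := h.xp_cast a
    have h3 := h.xq_cast b
    have h4 := h.ub a
    have h5 := h.lb b
    obtain ⟨t, ht⟩ := h1
    rcases t with _ | _ | t
    · rw [ht, mul_zero] at h0
      have h6 : d a - d b ≤ 0 := hq a b (by rw [← hE0]; exact h0)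
      omega
    · rw [ht, zero_add, mul_one] at h0
      have h6 : d a - d b ≤ m := hE1 a b h0
      rw [zero_add, mul_one] at ht
      omega
    · have h6 : m * (t + 1 + 1) = m * t + m + m := by ring
      omega
  · rfl

/-- **Rigidity, local part.** -/
theorem loc_rigid (hG : Good A k) (h : GrB A d m) {δ : R[X]} (hu : IsUnit (δ.coeff 0)) {M : Matrix ι ι R[X]}
    (hM : Loc A d m δ M) {N : Matrix ι ι R} (hN : Sh d (· = -(m : ℤ)) N)
    (hd : ∀ a b, X ^ xp d m a ∣ (N.map C * M) a b) : N = 0 := by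
  have h1 : N * lo d m M = 0 := by
    ext a b
    by_cases ha : d a ≤ 0
    · have h2 := h.xp_cast a
      have h3 := X_pow_dvd_iff.1 (hd a b) (-d a).toNat (by have := h.pos; omega)
      rw [Matrix.mul_apply, finsetSum_coeff] at h3
      rw [Matrix.mul_apply, Matrix.zero_apply, ← h3]
      refine Finset.sum_congr rfl fun c _ => ?_
      rw [Matrix.map_apply, coeff_C_mul]
      by_cases h0 : N a c = 0
      · rw [h0, zero_mul, zero_mul]
      · have h4 : d a - d c = -m := hN a c h0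
        have h5 := h.xp_cast c
        have h6 : (-d a).toNat = xp d m c := by omega
        rw [h6]
        rfl
    · rw [Matrix.mul_apply, Matrix.zero_apply]
      refine Finset.sum_eq_zero fun c _ => ?_
      by_cases h0 : N a c = 0
      · rw [h0, zero_mul]
      · have h4 : d a - d c = -m := hN a c h0
        have h5 := h.ub c
        omega
  have h2 := hG.self_mul_st hu.isRegular (hM.tw_lo h).2
  refine smul_cancel (hu.isRegular.mul hu.isRegular) ?_
  rw [smul_zero, ← Matrix.mul_one N, ← Matrix.mul_smul, ← h2, ← Matrix.mul_assoc, h1, Matrix.zero_mul]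

end Cfsg.Agent.E8A.Reg5
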