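import Cfsg.Agent.E8A.Reg5.Iface
import Cfsg.Agent.E8A.Reg5.AutLat
import Cfsg.Agent.E8A.Fix.Jor
import Cfsg.Agent.E8A.Fix.Bor

/-!
# The box N3: the algebra of type `E₈` has no grading with three terms (helper44)
-/

set_option autoImplicit false
set_option linter.unusedSectionVars false
set_option maxRecDepth 100000

namespace Cfsg.Agent.E8A.Reg5.Aut

open Cfsg Cfsg.Lie CoxeterSystem Matrix
open Cfsg.Agent.ChevalleyStructure Cfsg.Agent.ChevalleyStructure.JacMain
open Cfsg.Agent.ChevalleyStructure.CoxeterGeom Cfsg.Agent.ChevalleyStructure.CoxeterGeomTypes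
open Cfsg.Agent.Tits.Roots Cfsg.Agent.Nodes.Reps Cfsg.Agent.Nodes.BNOf Cfsg.Agent.Nodes.RGDChev
open Cfsg.Agent.H942.E8Tab (e8T)
open Cfsg.Agent.E8A.Frm (B0 fm8 finW8 hom_ext)
open Cfsg.Agent.H288.E8L (wt wt_inl wt_inr rt_vec vec_ne_zero exists_idx wt_inj)

universe u

/-- induction over the roots, second form -/
theorem root_ind2 {P : Q8 → Prop} (h0 : ∀ i, P (sr i)) (hn : ∀ a, Rt a → P a → P (-a))
    (hadd : ∀ i a, Rt a → Rt (a + sr i) → P a → P (a + sr i))
    (hsub : ∀ i a, Rt a → Rt (a - sr i) → P a → P (a - sr i)) {a : Q8} (ha : Rt a) : P a := by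
  refine root_ind h0 (fun i a ha ih => ?_) ha
  have h7 := ha.act (cs8.simple i)
  rw [rep_simple_eq] at h7 ⊢
  rcases pairing_cases ha i with e | e | e | e | e
  · have e2 : pairing (cartanOf chevE8 8) i a = 2 := by rw [← B0_sr, ← e, fm8.self ha]
    have e3 : a - (2 : ℤ) • sr i = -a := by rw [← e, two_smul]; abel
    rw [e2, e3]
    exact hn a ha ih
  · have e1 : sr i = -a := by rw [e, neg_neg]
    have e2 : pairing (cartanOf chevE8 8) i a = -2 := by
      rw [← B0_sr, e1, map_neg, LinearMap.neg_apply, fm8.self ha]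
    have e3 : a - (-2 : ℤ) • sr i = -a := by rw [e1, neg_smul, two_smul]; abel
    rw [e2, e3]
    exact hn a ha ih
  · rw [e, zero_smul, sub_zero]
    exact ih
  · rw [e, one_smul] at h7 ⊢
    exact hsub i a ha h7 ih
  · rw [e, neg_smul, one_smul, sub_neg_eq_add] at h7 ⊢
    exact hadd i a ha h7 ih

/-- half the sum of the positive roots -/
def rho8 : Q8 := ![46, 68, 91, 135, 110, 84, 57, 29]

theorem pairing_rho8 : ∀ i, pairing (cartanOf chevE8 8) i rho8 = 1 := by decide +kernel

theorem high8 : ∀ i, 2 ≤ vec chevE8 8 239 i := by decide +kernel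

/-- there is no minuscule weight -/
theorem no_minuscule (f : Q8 →+ ℤ) (h : ∀ a, Rt a → f a ≤ 1) (x : Q8) : f x = 0 := by
  have := finW8
  obtain ⟨w, hw⟩ := Finite.exists_max fun w : W8 => f (rp8 w rho8)
  have h1 : ∀ i, 0 ≤ f (rp8 w (sr i)) := by
    intro i
    have h2 : f (rp8 (w * cs8.simple i) rho8) ≤ f (rp8 w rho8) := hw (w * cs8.simple i)
    have h3 : rp8 (w * cs8.simple i) rho8 = rp8 w rho8 - rp8 w (sr i) := by
      have h4 : rp8 (cs8.simple i) rho8 = rho8 - sr i := by rw [rep_simple_eq, pairing_rho8, one_smul]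
      rw [← map_sub, ← h4]
      exact act8_mul w (cs8.simple i) rho8
    rw [h3, map_sub] at h2
    omega
  have h2 := h _ ((rt_vec ⟨239, by decide⟩).act w)
  have h3 : ∀ y : Q8, f (rp8 w y) = ∑ i, y i * f (rp8 w (sr i)) := by
    intro y
    conv_lhs => rw [H129.TorusChar.IsMC.eq_sum_sr y]
    rw [map_sum, map_sum]
    exact Finset.sum_congr rfl fun i _ => by rw [map_smul, map_zsmul, smul_eq_mul]
  have h4 : ∀ i, f (rp8 w (sr i)) = 0 := by
    intro i
    have h5 : vec chevE8 8 239 i * f (rp8 w (sr i)) ≤ ∑ i, vec chevE8 8 239 i * f (rp8 w (sr i)) :=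
      Finset.single_le_sum (f := fun i => vec chevE8 8 239 i * f (rp8 w (sr i)))
        (fun j _ => mul_nonneg (by have := high8 j; omega) (h1 j)) (Finset.mem_univ i)
    rw [← h3] at h5
    have h6 := h5.trans h2
    have h7 := high8 i
    have h8 := h1 i
    by_contra hc
    nlinarith [mul_le_mul h7 (show (1 : ℤ) ≤ f (rp8 w (sr i)) by omega) (by norm_num) (by omega)]
  rw [← rep_apply_inv cs8 e8T.isCartan w x, h3]
  exact Finset.sum_eq_zero fun i _ => by rw [h4, mul_zero]

theorem add_eq_zero_of_cube {K : Type u} [Field K] (p : ℕ) [CharP K p] (hp : 7 ≤ p) (d : Q8 →+ K)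
    (h : ∀ a, Rt a → d a * d a * d a = d a) (x : Q8) : d x = 0 := by
  have h1 : ∀ i, ∃ z : ℤ, |z| ≤ 1 ∧ (z : K) = d (sr i) := by
    intro i
    have h2 : d (sr i) * ((d (sr i) - 1) * (d (sr i) + 1)) = 0 := by
      linear_combination h _ (rt_sr i)
    rcases mul_eq_zero.1 h2 with h3 | h3
    · exact ⟨0, by norm_num, by rw [h3, Int.cast_zero]⟩
    · rcases mul_eq_zero.1 h3 with h4 | h4
      · exact ⟨1, by norm_num, by rw [sub_eq_zero.1 h4, Int.cast_one]⟩
      · exact ⟨-1, by norm_num, by rw [eq_neg_of_add_eq_zero_left h4, Int.cast_neg, Int.cast_one]⟩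
  choose z hz1 hz using h1
  let f : Q8 →+ ℤ := AddMonoidHom.mk' (fun x : Q8 => ∑ i, x i * z i) fun y z => by
    rw [← Finset.sum_add_distrib]
    exact Finset.sum_congr rfl fun i _ => by rw [Pi.add_apply, add_mul]
  have hf : ∀ j, f (sr j) = z j := by
    intro j
    show ∑ i, (sr j : Q8) i * z i = _
    rw [Finset.sum_eq_single j]
    · rw [sr_self, one_mul]
    · intro i _ hi
      rw [sr_ne hi, zero_mul]
    · intro hj
      exact absurd (Finset.mem_univ j) hj
  have h2 : ∀ a, ((f a : ℤ) : K) = d a := fun a =>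
    DFunLike.congr_fun (additive_ext (f := (Int.castAddHom K).comp f) (g := d) fun i => by
      show ((f (sr i) : ℤ) : K) = _
      rw [hf, hz]) a
  have h6 : (6 : K) ≠ 0 := by
    intro h6
    have h7 := Nat.le_of_dvd (by norm_num) ((CharP.cast_eq_zero_iff K p 6).1 (by exact_mod_cast h6))
    omega
  have h3 : ∀ a, Rt a → |f a| ≤ 2 → |f a| ≤ 1 := by
    intro a ha h4
    have h5 := h a ha
    rw [← h2] at h5
    rw [abs_le] at h4 ⊢
    by_contra hc
    have h7 : f a = 2 ∨ f a = -2 := by omega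
    rcases h7 with h7 | h7
    · rw [h7] at h5
      push_cast at h5
      exact h6 (by linear_combination h5)
    · rw [h7] at h5
      push_cast at h5
      exact h6 (by linear_combination -h5)
  have h4 : ∀ a, Rt a → |f a| ≤ 1 := fun a ha => root_ind2 (P := fun a => |f a| ≤ 1)
    (fun i => by
      show |f (sr i)| ≤ 1
      rw [hf]
      exact hz1 i)
    (fun a _ ih => by
      show |f (-a)| ≤ 1
      rwa [map_neg, abs_neg])
    (fun i a _ ha ih => h3 _ ha (by
      have h5 := hz1 i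
      rw [map_add, hf]
      rw [abs_le] at h5 ih ⊢
      omega))
    (fun i a _ ha ih => h3 _ ha (by
      have h5 := hz1 i
      rw [map_sub, hf]
      rw [abs_le] at h5 ih ⊢
      omega)) ha
  rw [← h2, no_minuscule f (fun a ha => (abs_le.1 (h4 a ha)).2), Int.cast_zero]

theorem cube_diag {K : Type u} [Field K] {I : Type} [Fintype I] [DecidableEq I] {d : I → K} {N : Matrix I I K}
    (hN : IsNilpotent N) (hc : Commute (diagonal d) N)
    (h : (diagonal d + N) * (diagonal d + N) * (diagonal d + N) = diagonal d + N) (i : I) : d i * d i * d i = d i := by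
  obtain ⟨D, hD⟩ : ∃ D, D = diagonal d := ⟨_, rfl⟩
  rw [← hD] at h hc
  have e1 : N * D = D * N := hc.eq.symm
  have e2 : ∀ Z, N * (D * Z) = D * (N * Z) := fun Z => by rw [← Matrix.mul_assoc, e1, Matrix.mul_assoc]
  have h1 : D * D * D - D = (1 - (D * D + D * D + D * D + D * N + D * N + D * N + N * N)) * N := by
    have h2 : D * D * D - D = D * D * D - D - ((D + N) * (D + N) * (D + N) - (D + N)) := by rw [h, sub_self, sub_zero]
    rw [h2]
    simp only [Matrix.add_mul, Matrix.mul_add, Matrix.sub_mul, Matrix.one_mul, Matrix.mul_assoc, e1, e2]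
    abel
  have h2 : Commute (1 - (D * D + D * D + D * D + D * N + D * N + D * N + N * N)) N := by
    have h3 := hc.mul_left hc
    have h4 := hc.mul_left (Commute.refl N)
    have h5 := (Commute.refl N).mul_left (Commute.refl N)
    exact (Commute.one_left N).sub_left
      ((((((h3.add_left h3).add_left h3).add_left h4).add_left h4).add_left h4).add_left h5)
  obtain ⟨m, hm⟩ := h2.isNilpotent_mul_left hN
  rw [← h1, hD, Matrix.diagonal_mul_diagonal, Matrix.diagonal_mul_diagonal, Matrix.diagonal_sub,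
    Matrix.diagonal_pow] at hm
  have h3 := congrFun (congrFun hm i) i
  rw [Matrix.diagonal_apply_eq, Matrix.zero_apply, Pi.pow_apply] at h3
  exact sub_eq_zero.1 (pow_eq_zero_iff'.1 h3).1

/-- **N3** -/
theorem n3 : N3.{u} := by
  intro K _ p _ hp h hh
  have : CharP (Kb K) p := charP_of_injective_algebraMap (algebraMap K (Kb K)).injective p
  obtain ⟨x0, hx0⟩ : ∃ x0, x0 = mp (algebraMap K (Kb K)) h := ⟨_, rfl⟩
  have h1 : adm x0 * adm x0 * adm x0 = adm x0 := by
    rw [hx0, adm_mp, ← Matrix.map_mul, ← Matrix.map_mul, hh]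
  obtain ⟨g1, hg1⟩ := Bor.borel _ x0
  obtain ⟨g2, hx⟩ := jord _ _ hg1
  rw [← act_mul] at hx
  obtain ⟨g, hg⟩ : ∃ g, g = g2 * g1 := ⟨_, rfl⟩
  rw [← hg] at hx
  have h2 : adm (act g x0) * adm (act g x0) * adm (act g x0) = adm (act g x0) := by
    have h3 : adm (act g x0) * adm (act g x0) * adm (act g x0) * mx g = adm (act g x0) * mx g := by
      rw [Matrix.mul_assoc, ← adm_conj, ← Matrix.mul_assoc, Matrix.mul_assoc (adm (act g x0)), ← adm_conj,
        ← Matrix.mul_assoc, ← adm_conj, Matrix.mul_assoc, Matrix.mul_assoc, ← Matrix.mul_assoc (adm x0), h1]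
    calc _ = adm (act g x0) * adm (act g x0) * adm (act g x0) * mx g * mx g⁻¹ := by
          rw [Matrix.mul_assoc _ (mx g), mx_mul_inv, Matrix.mul_one]
      _ = _ := by rw [h3, Matrix.mul_assoc, mx_mul_inv, Matrix.mul_one]
  obtain ⟨x, hxe⟩ : ∃ x, x = act g x0 := ⟨_, rfl⟩
  rw [← hxe] at hx h2
  have h3 := cube_diag (nilp_adm (sub_tp_mem hx.1)) hx.commute (by rw [← adm_split]; exact h2)
  have h4 : tp x = 0 := eq_zero_of_rl (inT_tp x) fun r => by
    rw [← rl_vec]
    refine add_eq_zero_of_cube p hp _ (fun a ha => ?_) _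
    obtain ⟨s, rfl⟩ := exists_idx ha
    exact h3 (Sum.inr s)
  have h5 := nilp_adm (sub_tp_mem hx.1)
  rw [h4, sub_zero] at h5
  have h6 : IsUnit (1 - adm x * adm x) := ((Commute.refl (adm x)).isNilpotent_mul_left h5).isUnit_one_sub
  have h7 : (1 - adm x * adm x) * adm x = 0 := by rw [Matrix.sub_mul, Matrix.one_mul, h2, sub_self]
  have h8 := eq_zero_of_adm (h6.mul_right_eq_zero.1 h7)
  rw [hxe] at h8
  apply mp_injective (algebraMap K (Kb K))
  rw [← hx0, act_eq_zero h8, mp_zero]

end Cfsg.Agent.E8A.Reg5.Aut
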