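import Cfsg.Agent.E8A.Reg5.Form
import Cfsg.Agent.E8A.Reg5.Loc

/-!
# Invariant forms of the icosahedral group (helper42)

* `pw I R e` : the product of the linear forms of the points, with exponents depending on the class; it is invariant;
* `pw_dvd` : an invariant family which vanishes at the base points is divisible by `pw`; `eq_zero_of_deg`;
* `cg_of_inv` : the exponents in the chart at a special point.
-/

set_option autoImplicit false
set_option linter.unusedSectionVars false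

namespace Cfsg.Agent.E8A.Reg5

open Matrix MvPolynomial

universe u v w

variable {k : Type u} [Field k] {R : Type v} [CommRing R] [Algebra k R] {S : Type w} [CommRing S] [Algebra k S]
variable {Γ P : Type} [Group Γ] [Fintype Γ] [Fintype P] {π : Γ →* A5} (I : Ico k Γ P π)

namespace Ico

variable (R) in
/-- the action on forms -/
noncomputable def s (γ : Γ) : Fm R →ₐ[R] Fm R := sb R (I.ρ γ).1

theorem s_s (γ γ' : Γ) (f : Fm R) : I.s R γ (I.s R γ' f) = I.s R (γ' * γ) f := by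
  unfold s
  rw [sb_sb, map_mul]
  rfl

theorem s_one (f : Fm R) : I.s R 1 f = f := by
  unfold s
  rw [map_one]
  exact sb_one f

theorem s_hom (γ : Γ) {f : Fm R} {n : ℕ} (h : f.IsHomogeneous n) : (I.s R γ f).IsHomogeneous n := sb_hom _ h

theorem s_C (γ : Γ) (a : R) : I.s R γ (C a) = C a := sb_C _ _

theorem mf_s (f : R →ₐ[k] S) (γ : Γ) (g : Fm R) : mf f (I.s R γ g) = I.s S γ (mf f g) := mf_sb _ _ _

variable (R) in
/-- the linear form of a point -/
noncomputable def l (x : P) : Fm R := lf R (I.v x)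

theorem s_l (γ : Γ) (x : P) : I.s R γ (I.l R (I.mv γ x)) = C (algebraMap k R (I.sc γ x)⁻¹) * I.l R x := by
  have h1 := sb_lf (R := R) (I.ρ γ).2 (I.v x)
  rw [I.mv_v, lf_smul, map_mul, sb_C] at h1
  unfold s l
  rw [← h1, ← mul_assoc, ← C_mul, ← map_mul, inv_mul_cancel₀ (I.sc_ne γ x), map_one, C_1, one_mul]

theorem s_inv_l (γ : Γ) (x : P) : I.s R γ⁻¹ (I.l R x) = C (algebraMap k R (I.sc γ x)) * I.l R (I.mv γ x) := by
  have h1 := congrArg (I.s R γ⁻¹) (I.s_l (R := R) γ x)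
  rw [s_s, mul_inv_cancel, s_one, map_mul, s_C] at h1
  rw [h1, ← mul_assoc, ← C_mul, ← map_mul, mul_inv_cancel₀ (I.sc_ne γ x), map_one, C_1, one_mul]

include I in
theorem exists_ne (x : P) : ∃ y, x ≠ y := by
  by_cases h : x = I.b none
  · refine ⟨I.b (some 0), fun h1 => ?_⟩
    have := I.b_cl none
    rw [← h, h1, I.b_cl] at this
    cases this
  · exact ⟨_, h⟩

theorem exists_w (x : P) : ∃ w, dt (I.v x) w = 1 := by
  obtain ⟨y, hy⟩ := I.exists_ne x
  exact exists_dt (I.indep x y hy)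

theorem l_regular (x : P) : IsRegular (I.l R x) := by
  obtain ⟨w, hw⟩ := I.exists_w x
  exact lf_regular hw

variable (R) in
/-- products of linear forms -/
noncomputable def pw (e : Option (Fin 3) → ℕ) : Fm R := ∏ x, I.l R x ^ e (I.cl x)

/-- the sizes of the orbits -/
def sz : Option (Fin 3) → ℕ := fun c => c.elim 60 ![30, 20, 12]

/-- the degree of `pw` -/
def dg (e : Option (Fin 3) → ℕ) : ℕ := 60 * e none + (30 * e (some 0) + 20 * e (some 1) + 12 * e (some 2))

theorem card_cl (c : Option (Fin 3)) : (Finset.univ.filter fun x => I.cl x = c).card = sz c := by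
  have h := I.cnt c
  rcases c with _ | i
  · simpa [mo, sz] using h
  · fin_cases i <;> simp [mo, mm, sz] at h ⊢ <;> omega

theorem sum_cl (e : Option (Fin 3) → ℕ) : ∑ x, e (I.cl x) = dg e := by
  rw [← Finset.sum_fiberwise (s := Finset.univ) (g := I.cl) (f := fun x => e (I.cl x))]
  have : ∀ c, ∑ x ∈ Finset.univ with I.cl x = c, e (I.cl x) = sz c * e c := fun c => by
    rw [Finset.sum_congr rfl (g := fun _ => e c) (fun x hx => by rw [(Finset.mem_filter.1 hx).2]), Finset.sum_const,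
      card_cl, smul_eq_mul]
  simp only [this, Fintype.sum_option, Fin.sum_univ_three]
  rfl

theorem pw_hom (e : Option (Fin 3) → ℕ) : (I.pw R e).IsHomogeneous (dg e) := by
  rw [← I.sum_cl]
  exact prod_hom I.v (fun x => e (I.cl x)) Finset.univ

theorem pw_regular (e : Option (Fin 3) → ℕ) : IsRegular (I.pw R e) :=
  IsRegular.prod fun x _ => (I.l_regular x).pow _

theorem pw_add (e e' : Option (Fin 3) → ℕ) : I.pw R (e + e') = I.pw R e * I.pw R e' := by
  unfold pw
  rw [← Finset.prod_mul_distrib]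
  exact Finset.prod_congr rfl fun x _ => pow_add _ _ _

theorem mf_l (f : R →ₐ[k] S) (x : P) : mf f (I.l R x) = I.l S x := mf_lf f _

theorem mf_pw (f : R →ₐ[k] S) (e : Option (Fin 3) → ℕ) : mf f (I.pw R e) = I.pw S e := by
  unfold pw
  rw [map_prod]
  exact Finset.prod_congr rfl fun x _ => by rw [map_pow, mf_l]

theorem s_pw_aux (γ : Γ) (e : Option (Fin 3) → ℕ) :
    I.s R γ (I.pw R e) = C (algebraMap k R (∏ x, (I.sc γ x)⁻¹ ^ e (I.cl x))) * I.pw R e := by
  have hb : Function.Bijective (I.mv γ) := Finite.injective_iff_bijective.1 (I.mv_inj γ)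
  unfold pw
  conv_lhs => rw [← hb.prod_comp (fun x => I.l R x ^ e (I.cl x))]
  rw [map_prod, map_prod, map_prod, ← Finset.prod_mul_distrib]
  refine Finset.prod_congr rfl fun x _ => ?_
  rw [map_pow, s_l, I.mv_cl, mul_pow, map_pow, map_pow]

theorem s_pw (γ : Γ) (e : Option (Fin 3) → ℕ) : I.s R γ (I.pw R e) = I.pw R e := by
  have hne : ∀ γ, (∏ x, (I.sc γ x)⁻¹ ^ e (I.cl x)) ≠ 0 := fun γ =>
    Finset.prod_ne_zero_iff.2 fun x _ => pow_ne_zero _ (inv_ne_zero (I.sc_ne γ x))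
  let χ : Γ →* kˣ := MonoidHom.mk' (fun γ => Units.mk0 _ (hne γ)) fun γ γ' => by
    apply Units.ext
    show (∏ x, (I.sc (γ * γ') x)⁻¹ ^ e (I.cl x)) = (∏ x, (I.sc γ x)⁻¹ ^ e (I.cl x)) * ∏ x, (I.sc γ' x)⁻¹ ^ e (I.cl x)
    have h1 := I.s_s (R := k) γ' γ (I.pw k e)
    rw [s_pw_aux, map_mul, s_C, s_pw_aux, s_pw_aux, ← mul_assoc, ← C_mul] at h1
    exact (C_injective _ _ ((I.pw_regular e).right h1)).symm
  have h1 : (∏ x, (I.sc γ x)⁻¹ ^ e (I.cl x)) = 1 := congrArg Units.val (DFunLike.congr_fun (I.perf χ) γ)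
  rw [s_pw_aux, h1, map_one, C_1, one_mul]

theorem ev_pw (e : Option (Fin 3) → ℕ) (y : Fin 2 → k) :
    ev R y (I.pw R e) = algebraMap k R (∏ x, dt (I.v x) y ^ e (I.cl x)) := by
  unfold pw l
  rw [map_prod, map_prod]
  exact Finset.prod_congr rfl fun x _ => by rw [map_pow, ev_lf, map_pow]

/-- families which are invariant up to constant linear combinations -/
def Fam {T : Type*} (W : T → Fm R) : Prop := ∀ (γ : Γ) (D : Fm R), (∀ t, D ∣ I.s R γ (W t)) → ∀ t, D ∣ W t

theorem pw_dvd {T : Type*} {W : T → Fm R} {n : ℕ} (hW : ∀ t, (W t).IsHomogeneous n) (hF : I.Fam W)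
    {e : Option (Fin 3) → ℕ} (h : ∀ c t, I.l R (I.b c) ^ e c ∣ W t) (t : T) : I.pw R e ∣ W t := by
  refine prod_dvd I.v I.indep (fun x => e (I.cl x)) Finset.univ (hW t) fun x _ => ?_
  obtain ⟨γ, hγ⟩ := I.trans x
  refine hF γ⁻¹ _ (fun t' => ?_) t
  have h1 := map_dvd (I.s R γ⁻¹) (h (I.cl x) t')
  rw [map_pow, s_inv_l, hγ, mul_pow] at h1
  exact Dvd.dvd.trans (Dvd.intro_left _ rfl) h1

theorem exists_pw_quot {T : Type*} {W : T → Fm R} {n : ℕ} (hW : ∀ t, (W t).IsHomogeneous n) (hF : I.Fam W)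
    {e : Option (Fin 3) → ℕ} (h : ∀ c t, I.l R (I.b c) ^ e c ∣ W t) :
    ∃ W' : T → Fm R, (∀ t, W t = I.pw R e * W' t) ∧ ∀ t, (W' t).IsHomogeneous (n - dg e) := by
  choose W' h1 h2 _ using fun t => exists_quot (hW t) (I.pw_hom e) (I.pw_dvd hW hF h t)
  exact ⟨W', h1, h2⟩

theorem eq_zero_of_deg {T : Type*} {W : T → Fm R} {n : ℕ} (hW : ∀ t, (W t).IsHomogeneous n) (hF : I.Fam W)
    {e : Option (Fin 3) → ℕ} (h : ∀ c t, I.l R (I.b c) ^ e c ∣ W t) (hn : n < dg e) (t : T) : W t = 0 := by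
  obtain ⟨Q, h1, -, h2⟩ := exists_quot (hW t) (I.pw_hom e) (I.pw_dvd hW hF h t)
  rw [h1, h2 hn, mul_zero]

theorem fam_of_inv {f : Fm R} (h : ∀ γ, I.s R γ f = f) : I.Fam fun _ : Unit => f := fun γ D hD t => by
  have := hD t
  rwa [h] at this

variable (R) in
/-- the chart at a special point -/
noncomputable def c (i : Fin 3) : Fm R →ₐ[R] Polynomial R := ch R (I.v (I.b (some i))) (I.w i)

theorem dvd_iff (i : Fin 3) {f : Fm R} {n : ℕ} (hf : f.IsHomogeneous n) (a : ℕ) :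
    I.l R (I.b (some i)) ^ a ∣ f ↔ Polynomial.X ^ a ∣ I.c R i f := lf_pow_dvd_iff (I.dt_vw i) hf a

theorem c_l (i : Fin 3) : I.c R i (I.l R (I.b (some i))) = Polynomial.X := ch_lf_self (I.dt_vw i)

theorem c_C (i : Fin 3) (a : R) : I.c R i (C a) = Polynomial.C a := ch_C _ _ _

theorem c_mf (f : R →ₐ[k] S) (i : Fin 3) (g : Fm R) : I.c S i (mf f g) = (I.c R i g).map (f : R →+* S) := ch_mf _ _ _ _

/-- the root of unity -/
def ζ (i : Fin 3) : k := I.η i ^ 2

theorem mm_pos (i : Fin 3) : 0 < mm i := by fin_cases i <;> simp [mm]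

theorem ζ_ne (i : Fin 3) : I.ζ i ≠ 0 := (I.prim i).ne_zero (mm_pos i).ne'

theorem η_ne (i : Fin 3) : I.η i ≠ 0 := fun h => I.ζ_ne i (by rw [ζ, h]; simp)

theorem η_pow (i : Fin 3) (j : ℕ) : I.η i ^ (60 * j) = 1 := by
  have h := (I.prim i).pow_eq_one
  have h1 : ∃ t, 60 = 2 * mm i * t := by
    fin_cases i
    · exact ⟨15, rfl⟩
    · exact ⟨10, rfl⟩
    · exact ⟨6, rfl⟩
  obtain ⟨t, ht⟩ := h1
  rw [ht, mul_assoc, mul_assoc, pow_mul, pow_mul, h, one_pow]

theorem cg_of_inv (i : Fin 3) {f : Fm R} {j : ℕ} (hf : f.IsHomogeneous (60 * j)) {e : ℤ}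
    (h : I.s R (I.g i) f = C (algebraMap k R (I.ζ i ^ e)) * f) : Cg (mm i) e (I.c R i f) := by
  intro n hn
  have h1 := congrArg (fun g => (I.c R i g).coeff n) h
  simp only [map_mul, c_C, Polynomial.coeff_C_mul] at h1
  unfold s c at h1
  rw [ch_sb, I.g_v, I.g_w, coeff_ch_smul (I.dt_vw i) hf (I.η_ne i) (I.η_pow i j)] at h1
  have h2 : (I.ζ i)⁻¹ ^ n = I.ζ i ^ e := by
    by_contra h3
    have h4 := isUnit_algebraMap (R := R) (sub_ne_zero.2 h3)
    apply hn
    refine h4.isRegular.left ?_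
    show _ * _ = _ * (0 : R)
    rw [map_sub, sub_mul, mul_zero]
    exact sub_eq_zero.2 h1
  refine ((I.prim i).zpow_eq_one_iff_dvd _).1 ?_
  show I.ζ i ^ ((n : ℤ) + e) = 1
  rw [zpow_add₀ (I.ζ_ne i), ← h2, zpow_natCast, ← mul_pow, mul_inv_cancel₀ (I.ζ_ne i), one_pow]

/-- the exponents of the form `Δ` -/
def eD : Option (Fin 3) → ℕ := fun c => c.elim 0 mm

/-- the exponents of the form `Q` -/
def eQ : Option (Fin 3) → ℕ := fun c => c.elim 1 fun _ => 0

theorem dg_eD : dg eD = 180 := rfl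

theorem dg_eQ : dg eQ = 60 := rfl

variable (R) in
/-- the form of degree 180 -/
noncomputable def Δ : Fm R := I.pw R eD

variable (R) in
/-- the form of degree 60 which vanishes on the free orbit -/
noncomputable def Q : Fm R := I.pw R eQ

/-- the free base point -/
def v0 : Fin 2 → k := I.v (I.b none)

/-- the value of `Δ` at the free base point -/
noncomputable def D0 : k := ∏ x, dt (I.v x) I.v0 ^ eD (I.cl x)

theorem ev_Δ : ev R I.v0 (I.Δ R) = algebraMap k R I.D0 := I.ev_pw _ _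

theorem D0_ne : I.D0 ≠ 0 := by
  refine Finset.prod_ne_zero_iff.2 fun x _ => ?_
  by_cases h : x = I.b none
  · rw [h, I.b_cl]
    show _ ^ 0 ≠ (0 : k)
    rw [pow_zero]
    exact one_ne_zero
  · exact pow_ne_zero _ (I.indep _ _ h)

open Classical in
variable (R) in
/-- the local unit -/
noncomputable def δ (i : Fin 3) : Polynomial R :=
  I.c R i (∏ x ∈ Finset.univ.erase (I.b (some i)), I.l R x ^ eD (I.cl x))

theorem c_Δ (i : Fin 3) : I.c R i (I.Δ R) = Polynomial.X ^ mm i * I.δ R i := by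
  classical
  unfold Δ pw δ
  rw [← Finset.mul_prod_erase _ _ (Finset.mem_univ (I.b (some i))), map_mul, map_pow, c_l, I.b_cl]
  congr

open Classical in
/-- the value of the local unit -/
noncomputable def δ0 (i : Fin 3) : k :=
  ∏ x ∈ Finset.univ.erase (I.b (some i)), dt (I.v x) (I.v (I.b (some i))) ^ eD (I.cl x)

theorem δ0_ne (i : Fin 3) : I.δ0 i ≠ 0 := by
  classical
  exact Finset.prod_ne_zero_iff.2 fun x hx => pow_ne_zero _ (I.indep _ _ (Finset.ne_of_mem_erase hx))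

theorem δ_coeff (i : Fin 3) : (I.δ R i).coeff 0 = algebraMap k R (I.δ0 i) := by
  unfold δ δ0 c l
  rw [coeff_zero_ch, map_prod, map_prod]
  exact Finset.prod_congr rfl fun x _ => by rw [map_pow, ev_lf, map_pow]

theorem δ_unit (i : Fin 3) : IsUnit ((I.δ R i).coeff 0) := by
  rw [δ_coeff]; exact isUnit_algebraMap (I.δ0_ne i)

theorem δ_cg (i : Fin 3) : Cg (mm i) 0 (I.δ R i) := by
  have h1 : Cg (mm i) 0 (I.c R i (I.Δ R)) :=
    I.cg_of_inv i (j := 3) (I.pw_hom eD) (by rw [zpow_zero, map_one, C_1, one_mul]; exact I.s_pw _ _)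
  intro n hn
  have h2 := h1 (n + mm i) (by rw [c_Δ, Polynomial.coeff_X_pow_mul]; exact hn)
  rw [Nat.cast_add, add_zero] at h2
  rw [add_zero]
  exact (dvd_add_left (dvd_refl _)).1 h2

end Ico

end Cfsg.Agent.E8A.Reg5
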