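import Cfsg.Agent.E8A.Reg5.Iface2
import Cfsg.Agent.E8A.Reg5.AutLat
import Cfsg.Agent.E8A.Reg5.Gen
import Cfsg.Agent.E8A.Fix.BorAlg
import Cfsg.Agent.E8A.Fix.FrmTor

/-!
# The box PAR: a generic point of `G × P₀ × P₁ × P₂` (helper44)

The point is a product of all admissible root elements and a torus element with independent parameters; 718 entries have
independent linear terms.
-/

set_option autoImplicit false
set_option maxRecDepth 100000

namespace Cfsg.Agent.E8A.Reg5.Par

open Cfsg Cfsg.Lie Matrix MvPolynomial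
open Cfsg.Agent.ChevalleyStructure Cfsg.Agent.ChevalleyStructure.JacMain Cfsg.Agent.ChevalleyStructure.Ring
open Cfsg.Agent.ChevalleyStructure.LieAut Cfsg.Agent.ChevalleyStructure.CoxeterGeom
open Cfsg.Agent.Nodes.RGDChev Cfsg.Agent.Tits.Roots
open Cfsg.Agent.KFacts.RgdChevCoord Cfsg.Agent.H129.TorusChar
open Cfsg.Agent.LangThm (van rk encard_le_rk rk_le_of_algebraic rk_le_of_van_le)
open Cfsg.Agent.H942.E8Tab (e8T)
open Cfsg.Agent.H288.E8L (wt wt_inl wt_inr vec_ne_zero wt_inj adA_wt adA_col)
open Cfsg.Agent.E8A.Bor (IV X_mem_IV mem_IV aeval_inj)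
open Cfsg.Agent.E8A.Reg5.Aut (si vec_si)
open Cfsg.Agent.E8A.Frm (invB8)

universe u

section Lin

variable {R : Type*} [CommRing R]

theorem xR_sq (r : Fin chevE8.nroots) {t : R} (ht : t * t = 0) :
    xR chevE8 R r t = 1 + t • adR chevE8 R (Sum.inr r) := by
  obtain ⟨m, hm⟩ := exists_degree_bound chevE8 r
  rw [xR_eq_sum chevE8 r t (m + 2) fun i j => (hm i j).trans_le (Nat.le_add_right _ _), Finset.sum_range_succ',
    Finset.sum_range_succ', Finset.sum_eq_zero fun i _ => by rw [pow_succ, pow_succ, mul_assoc, ht, mul_zero, zero_smul],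
    zero_add, zero_add, pow_one, pow_zero, one_smul, coefE_zero, Matrix.map_one _ (map_zero _) (map_one _), add_comm]
  rfl

theorem word_sq (y : Fin chevE8.nroots → R) (hy : ∀ r s, y r * y s = 0) (l : List (Fin chevE8.nroots)) :
    wordR chevE8 R (l.map fun r => (r.val, y r)) = 1 + (l.map fun r => y r • adR chevE8 R (Sum.inr r)).sum := by
  induction l with
  | nil => rw [List.map_nil, List.map_nil, List.sum_nil, add_zero, wordR_nil]
  | cons r l ih =>
    have h1 : ∀ l : List (Fin chevE8.nroots), y r • (l.map fun s => y s • adR chevE8 R (Sum.inr s)).sum = 0 := by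
      intro l
      induction l with
      | nil => rw [List.map_nil, List.sum_nil, smul_zero]
      | cons s l ih => rw [List.map_cons, List.sum_cons, smul_add, ih, smul_smul, hy, zero_smul, add_zero]
    rw [List.map_cons, wordR_cons, ih, xR_sq r (hy r r), List.map_cons, List.sum_cons, Matrix.add_mul, Matrix.one_mul,
      Matrix.mul_add, Matrix.mul_one, Matrix.smul_mul, ← Matrix.mul_smul, h1, Matrix.mul_zero, add_zero]
    abel

/-- the product of all root elements -/
noncomputable def wd (y : Fin chevE8.nroots → R) : Matrix chevE8.Idx chevE8.Idx R :=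
  wordR chevE8 R ((List.finRange chevE8.nroots).map fun r => (r.val, y r))

theorem wd_map {S : Type*} [CommRing S] (f : R →+* S) (y : Fin chevE8.nroots → R) : (wd y).map f = wd fun r => f (y r) := by
  unfold wd
  rw [wordR_map, List.map_map]
  rfl

theorem wd_mod (I : Ideal R) {y : Fin chevE8.nroots → R} (hy : ∀ r, y r ∈ I) (a b : chevE8.Idx) :
    wd y a b - ((1 : Matrix chevE8.Idx chevE8.Idx R) a b + ∑ r, y r * ((adA chevE8 (Sum.inr r) a b : ℤ) : R)) ∈ I ^ 2 := by
  rw [← Ideal.Quotient.eq_zero_iff_mem, map_sub, sub_eq_zero]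
  have h1 := congrFun (congrFun (wd_map (Ideal.Quotient.mk (I ^ 2)) y) a) b
  rw [Matrix.map_apply] at h1
  rw [h1, wd, word_sq _ (fun r s => by
    rw [← map_mul, Ideal.Quotient.eq_zero_iff_mem, pow_two]
    exact Ideal.mul_mem_mul (hy r) (hy s)), ← Fin.sum_univ_def, Matrix.add_apply, Matrix.sum_apply, map_add, map_sum]
  refine congrArg₂ (· + ·) ?_ ?_
  · rw [Matrix.one_apply, Matrix.one_apply]
    split_ifs
    · exact (map_one _).symm
    · exact (map_zero _).symm
  · exact Finset.sum_congr rfl fun r _ => by rw [map_mul, map_intCast]; rfl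

theorem wd_col (I : Ideal R) {y : Fin chevE8.nroots → R} (hy : ∀ r, y r ∈ I) (r : Fin chevE8.nroots)
    (j : Fin chevE8.rank) : wd y (Sum.inr r) (Sum.inl j) - (-((chevE8.cartan j r : ℤ) : R)) * y r ∈ I ^ 2 := by
  have h1 := wd_mod I hy (Sum.inr r) (Sum.inl j)
  rw [Matrix.one_apply_ne (by simp), zero_add, Finset.sum_eq_single r, adA_col, Int.cast_neg, mul_comm] at h1
  · exact h1
  · intro s _ hs
    by_cases h0 : adA chevE8 (Sum.inr s) (Sum.inr r) (Sum.inl j) = 0
    · rw [h0, Int.cast_zero, mul_zero]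
    · have h2 := adA_wt _ _ _ h0
      rw [wt_inl, add_zero] at h2
      exact absurd (Sum.inr.inj (wt_inj h2 (vec_ne_zero r))).symm hs
  · intro h
    exact absurd (Finset.mem_univ _) h

theorem wd_diag (I : Ideal R) {y : Fin chevE8.nroots → R} (hy : ∀ r, y r ∈ I) (a : chevE8.Idx) : wd y a a - 1 ∈ I ^ 2 := by
  have h1 := wd_mod I hy a a
  rwa [Matrix.one_apply_eq, Finset.sum_eq_zero, add_zero] at h1
  intro s _
  by_cases h0 : adA chevE8 (Sum.inr s) a a = 0
  · rw [h0, Int.cast_zero, mul_zero]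
  · exact absurd (add_eq_right.1 (adA_wt _ _ _ h0).symm) (vec_ne_zero s)

end Lin

section Grp

variable {K : Type u} [Field K]

/-- the product of all root elements, in the group -/
noncomputable def wg (y : Fin chevE8.nroots → K) : G8 K := ((List.finRange chevE8.nroots).map fun r => xr r (y r)).prod

theorem mx_wg (y : Fin chevE8.nroots → K) : mx (wg y) = wd y := by
  unfold wg wd
  generalize List.finRange chevE8.nroots = l
  induction l with
  | nil => rfl
  | cons r l ih => rw [List.map_cons, List.prod_cons, mx_mul, ih, List.map_cons, wordR_cons]; rfl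

variable (K) in
/-- the parabolic subgroups -/
def PP (i : Fin 3) : Subgroup (G8 K) where
  carrier := {g | Sh (lam i) (· ≤ 0) (mx g) ∧ Sh (lam i) (· ≤ 0) (mx g⁻¹)}
  one_mem' := by
    have h : Sh (lam i) (· ≤ 0) (mx (1 : G8 K)) := by
      intro a b h
      by_cases e : a = b
      · rw [e, sub_self]
      · exact absurd (Matrix.one_apply_ne e) h
    exact ⟨h, by rwa [inv_one]⟩
  mul_mem' := fun {a b} ha hb => ⟨ha.1.mul hb.1 fun _ _ h1 h2 => add_nonpos h1 h2, by
    rw [_root_.mul_inv_rev]
    exact hb.2.mul ha.2 fun _ _ h1 h2 => add_nonpos h1 h2⟩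
  inv_mem' := fun {a} ha => ⟨ha.2, by rw [inv_inv]; exact ha.1⟩

theorem sh_xr {i : Fin 3} {r : Fin chevE8.nroots} (h : lam i (Sum.inr r) ≤ 0) (t : K) :
    Sh (lam i) (· ≤ 0) (mx (xr r t)) := by
  intro a b hab
  by_cases e : a = b
  · rw [e, sub_self]
  · obtain ⟨m, -, hm⟩ := xr_sub_entry r t (i := a) (k := b) (by rwa [Matrix.sub_apply, Matrix.one_apply_ne e, sub_zero])
    have h1 : lam i a = lam i b + (m : ℤ) * lam i (Sum.inr r) := congrFun hm (nd i)
    have h2 := mul_nonpos_of_nonneg_of_nonpos (Int.natCast_nonneg m) h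
    show lam i a - lam i b ≤ 0
    omega

theorem sh_TT (i : Fin 3) {t : G8 K} (ht : t ∈ TT chevE8 K) : Sh (lam i) (· ≤ 0) (mx t) := by
  intro a b hab
  by_cases e : a = b
  · rw [e, sub_self]
  · rw [mx_TT ht] at hab
    exact absurd (Matrix.diagonal_apply_ne _ e) hab

theorem wg_mem {i : Fin 3} {y : Fin chevE8.nroots → K} (h : ∀ r, lam i (Sum.inr r) ≤ 0 ∨ y r = 0) : wg y ∈ PP K i := by
  refine Subgroup.list_prod_mem _ fun g hg => ?_
  obtain ⟨r, -, rfl⟩ := List.mem_map.1 hg
  rcases h r with h1 | h1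
  · exact ⟨sh_xr h1 _, by rw [xr_inv]; exact sh_xr h1 _⟩
  · rw [h1, xr_zero]
    exact one_mem _

end Grp

/-- the admissible directions -/
def ok (t : Option (Fin 3) × chevE8.Idx) : Bool := t.1.elim true fun i => decide (lam i t.2 ≤ 0)

/-- the parameters -/
abbrev Pm : Type := {t : Option (Fin 3) × chevE8.Idx // ok t = true}

theorem card_Pm : Fintype.card Pm = 718 := by
  rw [Fintype.card_subtype]
  decide +kernel

theorem ok_inl (c : Option (Fin 3)) (j : Fin chevE8.rank) : ok (c, Sum.inl j) = true := by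
  rcases c with _ | i
  · rfl
  · exact decide_eq_true (le_refl (0 : ℤ))

/-- a point over a large field -/
theorem exists_pt (k : Type u) [Field k] : ∃ (Ω : Type u) (_ : Field Ω) (_ : Algebra k Ω) (g : Option (Fin 3) → G8 Ω),
    (∀ i, g (some i) ∈ PP Ω i) ∧ 718 ≤ rk k (coM fun c => mx (g c)) := by
  let y : Option (Fin 3) → chevE8.Idx → MvPolynomial Pm k := fun c a => if h : ok (c, a) = true then X ⟨(c, a), h⟩ else 0
  have hy : ∀ t : Pm, y t.1.1 t.1.2 = X t := fun t => dif_pos t.2
  have hyI : ∀ c a, y c a ∈ IV Pm k := by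
    intro c a
    by_cases h : ok (c, a) = true
    · rw [hy ⟨(c, a), h⟩]
      exact X_mem_IV _
    · rw [show y c a = 0 from dif_neg h]
      exact zero_mem _
  choose jj hjj using exists_cartan_ne (K := k)
  let W : Option (Fin 3) → Matrix chevE8.Idx chevE8.Idx (MvPolynomial Pm k) := fun c => wd fun r => y c (Sum.inr r)
  let θ : Pm → MvPolynomial Pm k := fun t => Sum.elim
    (fun j => W t.1.1 (Sum.inr (si (ix j))) (Sum.inr (si (ix j))) * (1 + y t.1.1 (Sum.inl j)) - 1)
    (fun r => W t.1.1 (Sum.inr r) (Sum.inl (jj r))) t.1.2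
  have hθ := aeval_inj θ (fun t => Sum.elim (fun _ => 1) (fun r => -((chevE8.cartan (jj r) r : ℤ) : k)) t.1.2)
    (by
      rintro ⟨⟨c, j | r⟩, h⟩
      · exact one_ne_zero
      · exact neg_ne_zero.2 (hjj r))
    (by
      rintro ⟨⟨c, j | r⟩, h⟩
      · rw [← hy]
        have h1 := Ideal.mul_mem_right (1 + y c (Sum.inl j)) _
          (wd_diag (IV Pm k) (fun r => hyI c (Sum.inr r)) (Sum.inr (si (ix j))))
        show W c _ _ * (1 + y c (Sum.inl j)) - 1 - C 1 * y c (Sum.inl j) ∈ _
        convert h1 using 1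
        rw [map_one]
        ring
      · rw [← hy]
        have h1 := wd_col (IV Pm k) (fun r => hyI c (Sum.inr r)) r (jj r)
        show W c _ _ - C (-((chevE8.cartan (jj r) r : ℤ) : k)) * y c (Sum.inr r) ∈ _
        rw [map_neg, map_intCast]
        exact h1)
  let Ω := FractionRing (MvPolynomial Pm k)
  let α : MvPolynomial Pm k →ₐ[k] Ω := IsScalarTower.toAlgHom k _ _
  have hα : Function.Injective α := IsFractionRing.injective (MvPolynomial Pm k) Ω
  have hz : ∀ c (j : Fin 8), α (1 + y c (Sum.inl (xi j))) ≠ 0 := by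
    intro c j h
    have h1 := congrArg constantCoeff (hα (h.trans (map_zero α).symm))
    rw [map_add, map_one, mem_IV.1 (hyI c _), add_zero, map_zero] at h1
    exact one_ne_zero h1
  choose t ht htφ using fun c => exists_cX e8T invB8 one_ne_zero (IsMC.of_prod _ (hz c)) fun i => ⟨_, pow_one _⟩
  have h0 : ∀ c a b, mx (wg (fun r => α (y c (Sum.inr r))) * t c) a b = α (W c a b) * cX e8T (t c) (wt b) := by
    intro c a b
    rw [mx_mul, mx_TT (ht c), Matrix.mul_diagonal, mx_wg]
    exact congrArg (· * cX e8T (t c) (wt b))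
      (congrFun (congrFun (wd_map (α : MvPolynomial Pm k →+* Ω) fun r => y c (Sum.inr r)) a) b).symm
  refine ⟨Ω, inferInstance, inferInstance, fun c => wg (fun r => α (y c (Sum.inr r))) * t c, fun i => ?_, ?_⟩
  · refine mul_mem (wg_mem fun r => ?_) ⟨sh_TT i (ht _), sh_TT i (inv_mem (ht _))⟩
    by_cases h : ok (some i, Sum.inr r) = true
    · exact Or.inl (of_decide_eq_true h)
    · right
      rw [show y (some i) (Sum.inr r) = 0 from dif_neg h, map_zero]
  · have h1 : AlgebraicIndependent k (α ∘ θ) := AlgebraicIndependent.map' (x := θ) hθ hα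
    have h2 := encard_le_rk (k := k) (v := α ∘ θ) (J := Set.univ) (h1.comp _ Subtype.val_injective)
    rw [Set.encard_univ, ENat.card_eq_coe_fintype_card, card_Pm] at h2
    refine le_trans h2 (rk_le_of_algebraic fun s => ?_)
    obtain ⟨B, hB⟩ : ∃ B, B = Algebra.adjoin k
      (Set.range (coM fun c => mx (wg (fun r => α (y c (Sum.inr r))) * t c))) := ⟨_, rfl⟩
    have h3 : ∀ c a b, α (W c a b) * cX e8T (t c) (wt b) ∈ B := fun c a b => by
      rw [hB, ← h0]
      exact Algebra.subset_adjoin ⟨(c, a, b), rfl⟩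
    rw [← hB]
    have h4 : (α ∘ θ) s ∈ B := by
      obtain ⟨⟨c, j | r⟩, h⟩ := s
      · have h5 := h3 c (Sum.inr (si (ix j))) (Sum.inr (si (ix j)))
        rw [wt_inr, vec_si, htφ, Finset.prod_eq_single (ix j), sr_self, zpow_one, ← map_mul] at h5
        · show α (_ - 1) ∈ B
          rw [map_sub, map_one]
          exact sub_mem h5 (one_mem _)
        · intro i _ hi
          rw [sr_ne hi, zpow_zero]
        · intro hh
          exact absurd (Finset.mem_univ _) hh
      · have h5 := h3 c (Sum.inr r) (Sum.inl (jj r))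
        rw [wt_inl, (isMC_cX e8T (ht c)).zero, mul_one] at h5
        exact h5
    exact isAlgebraic_algebraMap (⟨_, h4⟩ : B)

/-- **PAR** -/
theorem par : PAR.{u} := by
  intro k _ _
  obtain ⟨Ω, _, _, g, hg, hr⟩ := exists_pt k
  let E := IntermediateField.adjoin k (Set.range (coM fun c => mx (g c)))
  let M : Option (Fin 3) → Matrix chevE8.Idx chevE8.Idx E := fun c =>
    Matrix.of fun a b => ⟨mx (g c) a b, IntermediateField.subset_adjoin _ _ ⟨(c, a, b), rfl⟩⟩
  let f : E →+* Ω := algebraMap E Ω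
  have hf : Function.Injective f := f.injective
  have hM : ∀ c, (M c).map f = mx (g c) := fun _ => rfl
  have h1 : ∀ c, M c * (M c)⁻¹ = 1 := by
    intro c
    refine Matrix.mul_nonsing_inv _ (isUnit_iff_ne_zero.2 fun h => ?_)
    have h2 := congrArg Matrix.det (mx_mul_inv (g c))
    rw [Matrix.det_mul, ← hM, ← RingHom.mapMatrix_apply, ← RingHom.map_det, h, map_zero, zero_mul, Matrix.det_one] at h2
    exact zero_ne_one h2
  have h2 : ∀ c, ((M c)⁻¹).map f = mx (g c)⁻¹ := by
    intro c
    have h3 : mx (g c) * ((M c)⁻¹).map f = 1 := by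
      rw [← hM, ← Matrix.map_mul, h1, Matrix.map_one _ (map_zero _) (map_one _)]
    rw [← Matrix.one_mul (((M c)⁻¹).map f), ← mx_inv_mul (g c), Matrix.mul_assoc, h3, Matrix.mul_one]
  refine ⟨E, inferInstance, inferInstance, M, fun c => (M c)⁻¹, h1, fun c x => ?_, fun i a b h => ?_, fun i a b h => ?_,
    ?_, ?_⟩
  · apply Matrix.map_injective hf
    show Matrix.map _ f = Matrix.map _ f
    rw [one_smul, Matrix.map_mul, Matrix.map_mul, ad_map, ad_map, mulVec_map, hM]
    exact (adm_conj (g c) _).symm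
  · exact (hg i).1 a b fun h0 => h (hf (h0.trans (map_zero f).symm))
  · refine (hg i).2 a b fun h0 => h (hf ?_)
    rw [← h2] at h0
    exact h0.trans (map_zero f).symm
  · apply IntermediateField.map_injective E.val
    rw [IntermediateField.adjoin_map, ← Set.range_comp, ← AlgHom.fieldRange_eq_map, IntermediateField.fieldRange_val]
    rfl
  · exact hr.trans (rk_le_of_van_le (Gen.van_le_map E.val (coM M)))

end Cfsg.Agent.E8A.Reg5.Par
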