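import Cfsg.Agent.E8A.Reg5.Str

/-!
# Sections (helper42)

* `Sec I φ n x` : invariant sections of degree `n`; `Cd I d U i x` : the condition at the special point `i`;
* `Hs` : both; the trace form and the bracket of sections; division by invariant forms.
-/

set_option autoImplicit false
set_option linter.unusedSectionVars false

namespace Cfsg.Agent.E8A.Reg5

open Matrix MvPolynomial Ico

universe u v w

variable {ι : Type} [Fintype ι] [DecidableEq ι] {A : ι → Matrix ι ι ℤ}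
variable {k : Type u} [Field k] {R : Type v} [CommRing R] [Algebra k R] {S : Type w} [CommRing S] [Algebra k S]
variable {Γ P : Type} [Group Γ] [Fintype Γ] [Fintype P] {π : Γ →* A5}

section Loc

variable {d : ι → ℤ} {m : ℕ}

omit [Algebra k R] in
theorem GrB.kf_dvd (h : GrB A d m) {t : R} {y y' : ι → R} (hy : ∀ a, t ^ xp d m a ∣ y a) (hy' : ∀ a, t ^ xp d m a ∣ y' a) :
    t ^ (m + m) ∣ kf A y y' := by
  rw [kf_eq_sum]
  refine Finset.dvd_sum fun a _ => Finset.dvd_sum fun b _ => ?_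
  by_cases h0 : kil A R a b = 0
  · rw [h0, zero_mul]
    exact dvd_zero _
  · have h1 := h.gr.kil_ne h0
    have h2 := h.xp_cast a
    have h3 := h.xp_cast b
    rw [show m + m = xp d m a + xp d m b by omega, pow_add]
    exact Dvd.dvd.mul_left (mul_dvd_mul (hy a) (hy' b)) _

omit [Algebra k R] in
theorem GrB.br_dvd (h : GrB A d m) {t : R} {y y' : ι → R} (hy : ∀ a, t ^ xp d m a ∣ y a) (hy' : ∀ a, t ^ xp d m a ∣ y' a)
    (c : ι) : t ^ (m + xp d m c) ∣ (ad A y *ᵥ y') c := by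
  show _ ∣ ∑ b, ad A y c b * y' b
  refine Finset.dvd_sum fun b _ => ?_
  rw [ad_apply, Finset.sum_mul]
  refine Finset.dvd_sum fun j _ => ?_
  by_cases h0 : A j c b = 0
  · rw [h0, Int.cast_zero, mul_zero, zero_mul]
    exact dvd_zero _
  · have h1 := h.gr j c b h0
    have h2 := h.xp_cast j
    have h3 := h.xp_cast b
    have h4 := h.xp_cast c
    rw [show m + xp d m c = xp d m j + xp d m b by omega, pow_add, mul_right_comm]
    exact Dvd.dvd.mul_right (mul_dvd_mul (hy j) (hy' b)) _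

omit [Algebra k R] in
theorem kf_dvd_right {t : R} (y : ι → R) {y' : ι → R} (hy' : ∀ a, t ∣ y' a) : t ∣ kf A y y' := by
  rw [kf_eq_sum]
  exact Finset.dvd_sum fun a _ => Finset.dvd_sum fun b _ => Dvd.dvd.mul_left (Dvd.dvd.mul_left (hy' b) _) _

omit [Algebra k R] in
theorem dvd_mulVec {t : R} (M : Matrix ι ι R) {y : ι → R} (hy : ∀ a, t ∣ y a) (a : ι) : t ∣ (M *ᵥ y) a :=
  Finset.dvd_sum fun b _ => Dvd.dvd.mul_left (hy b) _

end Loc

theorem amulVec_map {T : Type*} [CommSemiring T] [Algebra T R] [Algebra T S] (f : R →ₐ[T] S) (M : Matrix ι ι R)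
    (x : ι → R) : (fun j => f ((M *ᵥ x) j)) = M.map f *ᵥ fun j => f (x j) := mulVec_map (f : R →+* S) M x

theorem aad_map {T : Type*} [CommSemiring T] [Algebra T R] [Algebra T S] (f : R →ₐ[T] S) (x : ι → R) :
    (ad A x).map f = ad A fun j => f (x j) := ad_map (f : R →+* S) x

theorem akf_map {T : Type*} [CommSemiring T] [Algebra T R] [Algebra T S] (f : R →ₐ[T] S) (x y : ι → R) :
    f (kf A x y) = kf A (fun j => f (x j)) fun j => f (y j) := kf_map (f : R →+* S) x y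

omit [Algebra k R] in
theorem hom_mulVec {n : ℕ} (M : Matrix ι ι R) {x : ι → Fm R} (hx : ∀ a, (x a).IsHomogeneous n) (a : ι) :
    ((cs M *ᵥ x) a).IsHomogeneous n := IsHomogeneous.sum _ _ _ fun c _ => (hx c).C_mul _

omit [Algebra k R] in
theorem hom_int (z : ℤ) : ((z : ℤ) : Fm R).IsHomogeneous 0 := by
  rw [← map_intCast (C : R →+* Fm R)]
  exact isHomogeneous_C _ _

omit [Algebra k R] in
theorem hom_br {n n' : ℕ} {x y : ι → Fm R} (hx : ∀ a, (x a).IsHomogeneous n) (hy : ∀ a, (y a).IsHomogeneous n')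
    (c : ι) : ((ad A x *ᵥ y) c).IsHomogeneous (n + n') := by
  refine IsHomogeneous.sum _ _ _ fun b _ => IsHomogeneous.mul ?_ (hy b)
  show (ad A x c b).IsHomogeneous n
  rw [ad_apply]
  exact IsHomogeneous.sum _ _ _ fun j _ => (hx j).mul (hom_int _)

omit [Algebra k R] in
theorem hom_kf {n n' : ℕ} {x y : ι → Fm R} (hx : ∀ a, (x a).IsHomogeneous n) (hy : ∀ a, (y a).IsHomogeneous n') :
    (kf A x y).IsHomogeneous (n + n') := by
  rw [kf_eq_sum, ← kil_map (C : R →+* Fm R)]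
  exact IsHomogeneous.sum _ _ _ fun a _ => IsHomogeneous.sum _ _ _ fun b _ => ((hx a).mul (hy b)).C_mul _

/-- invariant sections -/
structure Sec (I : Ico k Γ P π) (φ : Γ →* Matrix ι ι k) (n : ℕ) (x : ι → Fm R) : Prop where
  hom : ∀ a, (x a).IsHomogeneous n
  inv : ∀ γ, (fun a => I.s R γ (x a)) = fk (Fm R) (φ γ) *ᵥ x

/-- the condition at a special point -/
def Cd (I : Ico k Γ P π) (d : Fin 3 → ι → ℤ) (U : Fin 3 → Matrix ι ι R) (i : Fin 3) (x : ι → Fm R) : Prop :=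
  ∀ a, I.l R (I.b (some i)) ^ xp (d i) (mm i) a ∣ (cs (U i) *ᵥ x) a

variable {I : Ico k Γ P π} {d : Fin 3 → ι → ℤ} {φ : Γ →* Matrix ι ι k} {U V : Fin 3 → Matrix ι ι R} {n n' : ℕ}
  {x y : ι → Fm R}

theorem sec_zero : Sec I φ n (0 : ι → Fm R) where
  hom _ := isHomogeneous_zero _ _ _
  inv γ := by
    rw [Matrix.mulVec_zero]
    funext a
    exact map_zero _

theorem Sec.add (hx : Sec I φ n x) (hy : Sec I φ n y) : Sec I φ n (x + y) where
  hom a := (hx.hom a).add (hy.hom a)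
  inv γ := by
    rw [Matrix.mulVec_add, ← hx.inv, ← hy.inv]
    funext a
    exact map_add _ _ _

theorem Sec.mul (hx : Sec I φ n x) {f : Fm R} (hf : f.IsHomogeneous n') (hi : ∀ γ, I.s R γ f = f) :
    Sec I φ (n' + n) (f • x) where
  hom a := hf.mul (hx.hom a)
  inv γ := by
    rw [Matrix.mulVec_smul, ← hx.inv]
    funext a
    show I.s R γ (f * x a) = f * I.s R γ (x a)
    rw [map_mul, hi]

theorem smul_eq_C (c : R) (x : ι → Fm R) : c • x = (C c : Fm R) • x := by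
  funext a
  exact smul_eq_C_mul _ _

theorem Sec.smul (hx : Sec I φ n x) (c : R) : Sec I φ n (c • x) := by
  have := hx.mul (isHomogeneous_C (Fin 2) c) (fun γ => I.s_C γ c)
  rwa [zero_add, ← smul_eq_C] at this

theorem Sec.fam (hx : Sec I φ n x) : I.Fam x := by
  intro γ D hD a
  have h1 : x = fk (Fm R) (φ γ⁻¹) *ᵥ fun a => I.s R γ (x a) := by
    rw [hx.inv, Matrix.mulVec_mulVec, fk_inv', Matrix.one_mulVec]
  rw [h1]
  exact dvd_mulVec _ hD a

theorem Sec.map (hx : Sec I φ n x) (f : R →ₐ[k] S) : Sec I φ n fun a => mf f (x a) where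
  hom a := mf_hom f (hx.hom a)
  inv γ := by
    rw [← fk_map (mf f), ← amulVec_map, ← hx.inv]
    funext a
    exact (I.mf_s f γ _).symm

theorem Sec.br (hφ : Rep A I φ) (hx : Sec I φ n x) (hy : Sec I φ n' y) : Sec I φ (n + n') (ad A x *ᵥ y) where
  hom := hom_br hx.hom hy.hom
  inv γ := by
    rw [amulVec_map, aad_map, hx.inv, hy.inv, (hφ.tw γ).fk.br, one_smul]

theorem Sec.kf_inv (hφ : Rep A I φ) (hx : Sec I φ n x) (hy : Sec I φ n' y) (γ : Γ) : I.s R γ (kf A x y) = kf A x y := by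
  rw [akf_map, hx.inv, hy.inv, (hφ.tw γ).fk.kf_same (fk_inv φ γ)]

theorem Sec.quot (hx : Sec I φ n x) {e : Option (Fin 3) → ℕ} (h : ∀ c a, I.l R (I.b c) ^ e c ∣ x a) :
    ∃ y, x = I.pw R e • y ∧ Sec I φ (n - dg e) y := by
  obtain ⟨y, h1, h2⟩ := I.exists_pw_quot hx.hom hx.fam h
  have h3 : x = I.pw R e • y := funext h1
  refine ⟨y, h3, h2, fun γ => ?_⟩
  have h4 := hx.inv γ
  rw [h3, Matrix.mulVec_smul] at h4
  funext a
  have h5 := congrFun h4 a
  simp only [Pi.smul_apply, smul_eq_mul, map_mul, I.s_pw] at h5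
  exact (I.pw_regular e).left h5

theorem cd_zero (i : Fin 3) : Cd I d U i 0 := fun a => by
  rw [Matrix.mulVec_zero]
  exact dvd_zero _

theorem Cd.add {i : Fin 3} (hx : Cd I d U i x) (hy : Cd I d U i y) : Cd I d U i (x + y) := fun a => by
  rw [Matrix.mulVec_add]
  exact dvd_add (hx a) (hy a)

theorem Cd.mul {i : Fin 3} (hx : Cd I d U i x) (f : Fm R) : Cd I d U i (f • x) := fun a => by
  rw [Matrix.mulVec_smul]
  exact Dvd.dvd.mul_left (hx a) f

theorem Cd.map {i : Fin 3} (hx : Cd I d U i x) (f : R →ₐ[k] S) : Cd I d (fun i => (U i).map f) i fun a => mf f (x a) := by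
  intro a
  have := map_dvd (mf f) (hx a)
  rw [map_pow, I.mf_l] at this
  rw [← C_map_mf, ← amulVec_map]
  exact this

theorem Frm.cs_inv (hF : Frm A I d φ U V) (i : Fin 3) : cs (U i) * cs (V i) = 1 := by rw [← C_mul', hF.inv, C_one']

theorem Frm.cs_tw (hF : Frm A I d φ U V) (i : Fin 3) : Tw A 1 (cs (U i)) := (hF.tw i).map1 (C : R →+* Fm R)

theorem Frm.dvd_of (hF : Frm A I d φ U V) (i : Fin 3) {D : Fm R} (h : ∀ a, D ∣ (cs (U i) *ᵥ x) a) (a : ι) : D ∣ x a := by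
  have h1 : x = cs (V i) *ᵥ (cs (U i) *ᵥ x) := by
    rw [Matrix.mulVec_mulVec, mul_eq_one_comm.1 (hF.cs_inv i), Matrix.one_mulVec]
  rw [h1]
  exact dvd_mulVec _ h a

theorem Cd.kf_dvd (hd : ∀ i, GrB A (d i) (mm i)) (hF : Frm A I d φ U V) {i : Fin 3} (hx : Cd I d U i x)
    (hy : Cd I d U i y) : I.l R (I.b (some i)) ^ (mm i + mm i) ∣ kf A x y := by
  rw [← (hF.cs_tw i).kf_same (hF.cs_inv i)]
  exact (hd i).kf_dvd hx hy

theorem Cd.br_dvd (hd : ∀ i, GrB A (d i) (mm i)) (hF : Frm A I d φ U V) {i : Fin 3} (hx : Cd I d U i x)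
    (hy : Cd I d U i y) (a : ι) :
    I.l R (I.b (some i)) ^ (mm i + xp (d i) (mm i) a) ∣ (cs (U i) *ᵥ (ad A x *ᵥ y)) a := by
  have h1 := (hF.cs_tw i).br x y
  rw [one_smul] at h1
  rw [← h1]
  exact (hd i).br_dvd hx hy a

omit [Algebra k R] in
theorem X_pow_dvd_of_unit {δ f : Polynomial R} (hu : IsUnit (δ.coeff 0)) {a : ℕ} (h : Polynomial.X ^ a ∣ δ * f) :
    Polynomial.X ^ a ∣ f := by
  refine IsCoprime.dvd_of_dvd_mul_left (IsCoprime.pow_left ?_) h
  obtain ⟨c, hc⟩ := hu.exists_left_inv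
  refine ⟨-(Polynomial.C c * δ.divX), Polynomial.C c, ?_⟩
  have h1 := Polynomial.divX_mul_X_add δ
  have h2 : Polynomial.C c * Polynomial.C (δ.coeff 0) = 1 := by rw [← map_mul, hc, map_one]
  linear_combination h2 - Polynomial.C c * h1

theorem pw_unit (i : Fin 3) {e : Option (Fin 3) → ℕ} (he : e (some i) = 0) : IsUnit ((I.c R i (I.pw R e)).coeff 0) := by
  unfold Ico.c
  rw [coeff_zero_ch, I.ev_pw]
  refine isUnit_algebraMap (Finset.prod_ne_zero_iff.2 fun x _ => ?_)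
  by_cases h : x = I.b (some i)
  · rw [h, I.b_cl, he, pow_zero]
    exact one_ne_zero
  · exact pow_ne_zero _ (I.indep _ _ h)

theorem Cd.of_pw {i : Fin 3} {e : Option (Fin 3) → ℕ} (he : e (some i) = 0) (hy : ∀ a, (y a).IsHomogeneous n)
    (h : Cd I d U i (I.pw R e • y)) : Cd I d U i y := by
  intro a
  have h1 := map_dvd (I.c R i) (h a)
  rw [Matrix.mulVec_smul, map_pow, I.c_l, Pi.smul_apply, smul_eq_mul, map_mul] at h1
  rw [I.dvd_iff i (hom_mulVec _ hy a)]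
  exact X_pow_dvd_of_unit (pw_unit i he) h1

theorem Cd.of_Δ {i : Fin 3} (hy : ∀ a, (y a).IsHomogeneous n)
    (h : ∀ a, I.l R (I.b (some i)) ^ (mm i + xp (d i) (mm i) a) ∣ (cs (U i) *ᵥ (I.Δ R • y)) a) : Cd I d U i y := by
  intro a
  have h1 := map_dvd (I.c R i) (h a)
  rw [Matrix.mulVec_smul, map_pow, I.c_l, Pi.smul_apply, smul_eq_mul, map_mul, I.c_Δ, pow_add, mul_assoc] at h1
  obtain ⟨z, hz⟩ := h1
  rw [mul_assoc] at hz
  rw [I.dvd_iff i (hom_mulVec _ hy a)]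
  exact X_pow_dvd_of_unit (I.δ_unit i) ⟨z, (Polynomial.isRegular_X_pow _).left hz⟩

/-- sections which satisfy all conditions -/
structure Hs (I : Ico k Γ P π) (d : Fin 3 → ι → ℤ) (φ : Γ →* Matrix ι ι k) (U : Fin 3 → Matrix ι ι R) (n : ℕ)
    (x : ι → Fm R) : Prop where
  sec : Sec I φ n x
  cd : ∀ i, Cd I d U i x

theorem Hs.kf_eq_zero (hd : ∀ i, GrB A (d i) (mm i)) (hφ : Rep A I φ) (hF : Frm A I d φ U V) (hx : Hs I d φ U n x)
    (hy : Hs I d φ U n' y) (h : n + n' < 360) : kf A x y = 0 := by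
  refine I.eq_zero_of_deg (W := fun _ : Unit => kf A x y) (fun _ => hom_kf hx.sec.hom hy.sec.hom)
    (I.fam_of_inv (hx.sec.kf_inv hφ hy.sec)) (e := eD + eD) ?_ h ()
  rintro (_ | i) _
  · show _ ^ 0 ∣ _
    rw [pow_zero]
    exact one_dvd _
  · exact (hx.cd i).kf_dvd hd hF (hy.cd i)

theorem Hs.kf_eq (hd : ∀ i, GrB A (d i) (mm i)) (hφ : Rep A I φ) (hF : Frm A I d φ U V) (hx : Hs I d φ U 180 x)
    (hy : Hs I d φ U 180 y) : ∃ c : R, kf A x y = I.Δ R * I.Δ R * C c := by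
  obtain ⟨Y, h1, h2⟩ := I.exists_pw_quot (W := fun _ : Unit => kf A x y) (fun _ => hom_kf hx.sec.hom hy.sec.hom)
    (I.fam_of_inv (hx.sec.kf_inv hφ hy.sec)) (e := eD + eD) (by
      rintro (_ | i) _
      · show _ ^ 0 ∣ _
        rw [pow_zero]
        exact one_dvd _
      · exact (hx.cd i).kf_dvd hd hF (hy.cd i))
  refine ⟨ev R I.v0 (Y ()), ?_⟩
  have h3 : (Y ()).IsHomogeneous 0 := h2 ()
  rw [← hom_zero_eq h3 I.v0, h1 (), I.pw_add]
  rfl

theorem Hs.br (hd : ∀ i, GrB A (d i) (mm i)) (hφ : Rep A I φ) (hF : Frm A I d φ U V) (hx : Hs I d φ U n x)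
    (hy : Hs I d φ U n' y) : ∃ z, ad A x *ᵥ y = I.Δ R • z ∧ Hs I d φ U (n + n' - 180) z := by
  have h0 := fun i => (hx.cd i).br_dvd hd hF (hy.cd i)
  obtain ⟨z, h1, h2⟩ := (hx.sec.br hφ hy.sec).quot (e := eD) (by
    rintro (_ | i) a
    · show _ ^ 0 ∣ _
      rw [pow_zero]
      exact one_dvd _
    · exact hF.dvd_of i (fun b => (pow_dvd_pow _ (Nat.le_add_right _ _)).trans (h0 i b)) a)
  refine ⟨z, h1, h2, fun i => Cd.of_Δ h2.hom fun a => ?_⟩
  have h3 := h0 i a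
  rwa [h1] at h3

theorem Hs.quot (hx : Hs I d φ U n x) (h0 : ∀ a, ev R I.v0 (x a) = 0) : ∃ y, x = I.Q R • y ∧ Hs I d φ U (n - 60) y := by
  obtain ⟨y, h1, h2⟩ := hx.sec.quot (e := eQ) (by
    rintro (_ | i) a
    · obtain ⟨w, hw⟩ := I.exists_w (I.b none)
      show lf R _ ^ 1 ∣ _
      rw [lf_pow_dvd_iff hw (hx.sec.hom a), pow_one, Polynomial.X_dvd_iff, coeff_zero_ch]
      exact h0 a
    · show _ ^ 0 ∣ _
      rw [pow_zero]
      exact one_dvd _)
  refine ⟨y, h1, h2, fun i => Cd.of_pw (e := eQ) rfl h2.hom ?_⟩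
  rw [← h1]
  exact hx.cd i

end Cfsg.Agent.E8A.Reg5
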