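import Cfsg.Agent.E8A.Reg5.Orb

/-!
# Trivializations and the gluing lemma (helper42)

* `Rep` : a representation by automorphisms; `Frm` : frames at the three special points;
* `Str` : a trivialization `Φ`; `Str.loc`, `Str.map`; `am` : the values at the special points;
* `Str.glue` : **gluing**.
-/

set_option autoImplicit false
set_option linter.unusedSectionVars false

namespace Cfsg.Agent.E8A.Reg5

open Matrix MvPolynomial Ico

universe u v w

variable {ι : Type} [Fintype ι] [DecidableEq ι] {A : ι → Matrix ι ι ℤ}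
variable {k : Type u} [Field k] {R : Type v} [CommRing R] [Algebra k R] {S : Type w} [CommRing S] [Algebra k S]
variable {Γ P : Type} [Group Γ] [Fintype Γ] [Fintype P] {π : Γ →* A5}

/-- constant matrices of forms -/
noncomputable abbrev cs (M : Matrix ι ι R) : Matrix ι ι (Fm R) := M.map C

variable (R) in
/-- constant matrices -/
noncomputable def fk (M : Matrix ι ι k) : Matrix ι ι R := M.map (algebraMap k R)

theorem fk_mul (M N : Matrix ι ι k) : fk R (M * N) = fk R M * fk R N := Matrix.map_mul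

theorem fk_one : fk R (1 : Matrix ι ι k) = 1 := Matrix.map_one _ (map_zero _) (map_one _)

theorem fk_map (f : R →ₐ[k] S) (M : Matrix ι ι k) : (fk R M).map f = fk S M := by
  ext a b
  exact f.commutes _

theorem fk_C (M : Matrix ι ι k) : cs (fk R M) = fk (Fm R) M := rfl

theorem Tw.fk {M : Matrix ι ι k} (h : Tw A 1 M) : Tw A 1 (fk R M) := by
  have := h.map (algebraMap k R)
  rwa [map_one] at this

theorem Tw.map1 {M : Matrix ι ι R} (h : Tw A 1 M) (f : R →+* S) : Tw A 1 (M.map f) := by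
  have := h.map f
  rwa [map_one] at this

theorem amap_mul {T : Type*} [CommSemiring T] [Algebra T R] [Algebra T S] (f : R →ₐ[T] S) (M N : Matrix ι ι R) :
    (M * N).map f = M.map f * N.map f := Matrix.map_mul (f := (f : R →+* S))

theorem amap_one {T : Type*} [CommSemiring T] [Algebra T R] [Algebra T S] (f : R →ₐ[T] S) :
    (1 : Matrix ι ι R).map f = 1 := Matrix.map_one _ (map_zero _) (map_one _)

theorem amap_smul {T : Type*} [CommSemiring T] [Algebra T R] [Algebra T S] (f : R →ₐ[T] S) (c : R) (M : Matrix ι ι R) :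
    (c • M).map f = f c • M.map f := by
  ext a b
  exact map_mul f _ _

theorem C_mul' (M N : Matrix ι ι R) : cs (M * N) = cs M * cs N := Matrix.map_mul

theorem C_one' : cs (1 : Matrix ι ι R) = 1 := Matrix.map_one _ (map_zero _) (map_one _)

theorem amap_C {T : Type*} [CommRing T] [Algebra R T] (f : Fm R →ₐ[R] T) (M : Matrix ι ι R) :
    (cs M).map f = M.map (algebraMap R T) := by
  ext a b
  exact f.commutes _

theorem st_amap {T : Type*} [CommRing T] [Algebra R T] [Algebra k T] [IsScalarTower k R T] (f : Fm R →ₐ[R] T)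
    (M : Matrix ι ι (Fm R)) : (st A k M).map f = st A k (M.map f) := st_map (f.restrictScalars k) M

/-- homogeneous matrices -/
def HomM (n : ℕ) (M : Matrix ι ι (Fm R)) : Prop := ∀ a b, (M a b).IsHomogeneous n

omit [Algebra k R] in
theorem HomM.mul {n n' : ℕ} {M N : Matrix ι ι (Fm R)} (hM : HomM n M) (hN : HomM n' N) : HomM (n + n') (M * N) :=
  fun a b => by
    rw [Matrix.mul_apply]
    exact IsHomogeneous.sum _ _ _ fun c _ => (hM a c).mul (hN c b)

omit [Algebra k R] in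
theorem homM_C (M : Matrix ι ι R) : HomM 0 (cs M) := fun _ _ => isHomogeneous_C _ _

omit [Algebra k R] in
theorem HomM.C_mul {n : ℕ} {M : Matrix ι ι (Fm R)} (hM : HomM n M) (N : Matrix ι ι R) : HomM n (cs N * M) := by
  have := (homM_C N).mul hM
  rwa [zero_add] at this

omit [Algebra k R] in
theorem HomM.mul_C {n : ℕ} {M : Matrix ι ι (Fm R)} (hM : HomM n M) (N : Matrix ι ι R) : HomM n (M * cs N) :=
  hM.mul (homM_C N)

theorem kin_C' : kin A k (Fm R) = cs (kin A k R) := rfl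

theorem HomM.st {n : ℕ} {M : Matrix ι ι (Fm R)} (hM : HomM n M) : HomM n (st A k M) := by
  unfold Reg5.st
  rw [kin_C', ← kil_map (C : R →+* Fm R)]
  exact (HomM.C_mul (M := Mᵀ) (fun a b => hM b a) _).mul_C _

omit [Algebra k R] in
theorem dvd_mul_mul {D : R} {M : Matrix ι ι R} (h : ∀ a b, D ∣ M a b) (L N : Matrix ι ι R) (a b : ι) :
    D ∣ (L * M * N) a b := by
  rw [Matrix.mul_apply]
  refine Finset.dvd_sum fun c _ => Dvd.dvd.mul_right ?_ _
  rw [Matrix.mul_apply]
  exact Finset.dvd_sum fun e _ => Dvd.dvd.mul_left (h e c) _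

variable (A) in
/-- a representation by automorphisms -/
structure Rep (I : Ico k Γ P π) (φ : Γ →* Matrix ι ι k) : Prop where
  tw : ∀ γ, Tw A 1 (φ γ)
  z : φ I.z = 1

theorem fk_inv (φ : Γ →* Matrix ι ι k) (γ : Γ) : fk R (φ γ) * fk R (φ γ⁻¹) = 1 := by
  rw [← fk_mul, ← map_mul, mul_inv_cancel, map_one, fk_one]

theorem fk_inv' (φ : Γ →* Matrix ι ι k) (γ : Γ) : fk R (φ γ⁻¹) * fk R (φ γ) = 1 := by
  rw [← fk_mul, ← map_mul, inv_mul_cancel, map_one, fk_one]

variable (A) in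
/-- frames at the special points -/
structure Frm (I : Ico k Γ P π) (d : Fin 3 → ι → ℤ) (φ : Γ →* Matrix ι ι k) (U V : Fin 3 → Matrix ι ι R) : Prop where
  inv : ∀ i, U i * V i = 1
  tw : ∀ i, Tw A 1 (U i)
  eq : ∀ i, U i * fk R (φ (I.g i)) = fk R (Matrix.diagonal fun a => I.ζ i ^ d i a) * U i

variable {I : Ico k Γ P π} {d : Fin 3 → ι → ℤ} {φ φ' : Γ →* Matrix ι ι k} {U V U' V' : Fin 3 → Matrix ι ι R}

theorem Frm.map (h : Frm A I d φ U V) (f : R →ₐ[k] S) : Frm A I d φ (fun i => (U i).map f) (fun i => (V i).map f) where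
  inv i := by rw [← amap_mul, h.inv, amap_one]
  tw i := (h.tw i).map1 (f : R →+* S)
  eq i := by rw [← fk_map f, ← fk_map f, ← amap_mul, ← amap_mul, h.eq]

/-- the exponents in the chart, for matrices with any column type -/
theorem Frm.cg (h : Frm A I d φ U V) (i : Fin 3) {j : ℕ} {x : ι → Fm R} (hx : ∀ a, (x a).IsHomogeneous (60 * j))
    (hi : (fun a => I.s R (I.g i) (x a)) = fk (Fm R) (φ (I.g i)) *ᵥ x) (a : ι) :
    Cg (mm i) (d i a) (I.c R i ((cs (U i) *ᵥ x) a)) := by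
  refine I.cg_of_inv i (j := j) ?_ ?_
  · exact IsHomogeneous.sum _ _ _ fun c _ => (hx c).C_mul _
  · have h1 := congrFun (mulVec_map (I.s R (I.g i) : Fm R →+* Fm R) (cs (U i)) x) a
    have h2 : (cs (U i)).map (I.s R (I.g i) : Fm R →+* Fm R) = cs (U i) := amap_C (I.s R (I.g i)) (U i)
    rw [h2] at h1
    refine h1.trans ?_
    show (cs (U i) *ᵥ fun a => I.s R (I.g i) (x a)) a = _
    rw [hi, Matrix.mulVec_mulVec, ← fk_C, ← C_mul', h.eq, C_mul', ← Matrix.mulVec_mulVec]
    rw [fk_C]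
    unfold fk
    rw [Matrix.diagonal_map (map_zero _), Matrix.mulVec_diagonal]
    rfl

variable (A) in
/-- a trivialization -/
structure Str (I : Ico k Γ P π) (d : Fin 3 → ι → ℤ) (φ : Γ →* Matrix ι ι k) (U : Fin 3 → Matrix ι ι R)
    (Φ : Matrix ι ι (Fm R)) : Prop where
  hom : HomM 180 Φ
  inv : ∀ γ, Φ.map (I.s R γ) = fk (Fm R) (φ γ) * Φ
  dvd : ∀ i a b, I.l R (I.b (some i)) ^ xp (d i) (mm i) a ∣ (cs (U i) * Φ) a b
  ev0 : Φ.map (ev R I.v0) = algebraMap k R I.D0 • (1 : Matrix ι ι R)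
  tw : Tw A (I.Δ R) Φ
  iso : Iso A (I.Δ R) Φ

variable (I) in
/-- the local matrix -/
noncomputable def lm (U : Fin 3 → Matrix ι ι R) (Φ : Matrix ι ι (Fm R)) (i : Fin 3) : Matrix ι ι (Polynomial R) :=
  (cs (U i) * Φ).map (I.c R i)

variable {Φ Φ' : Matrix ι ι (Fm R)}

theorem Str.loc (hF : Frm A I d φ U V) (h : Str A I d φ U Φ) (i : Fin 3) :
    Loc A (d i) (mm i) (I.δ R i) (lm I U Φ i) where
  cg a b := by
    refine hF.cg i (j := 3) (x := fun c => Φ c b) (fun c => h.hom c b) ?_ a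
    funext c
    exact congrFun (congrFun (h.inv (I.g i)) c) b
  dvd a b := (I.dvd_iff i (h.hom.C_mul (U i) a b) _).1 (h.dvd i a b)
  tw := by
    have := (((hF.tw i).map1 (C : R →+* Fm R)).mul h.tw).map (I.c R i : Fm R →+* Polynomial R)
    rw [one_mul] at this
    rw [← I.c_Δ]
    exact this
  iso := by
    have h1 : cs (U i) * cs (V i) = (1 : Matrix ι ι (Fm R)) := by rw [← C_mul', hF.inv, C_one']
    have := ((((hF.tw i).map1 (C : R →+* Fm R)).iso h1).mul h.iso).map (I.c R i : Fm R →+* Polynomial R)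
    rw [one_mul] at this
    rw [← I.c_Δ]
    exact this

theorem C_map_mf (f : R →ₐ[k] S) (M : Matrix ι ι R) : (cs M).map (mf f) = cs (M.map f) := by
  ext1 a b
  exact mf_C f _

theorem Str.map (h : Str A I d φ U Φ) (f : R →ₐ[k] S) : Str A I d φ (fun i => (U i).map f) (Φ.map (mf f)) where
  hom a b := mf_hom f (h.hom a b)
  inv γ := by
    rw [← fk_map (mf f), ← amap_mul, ← h.inv]
    ext1 a b
    exact (I.mf_s f γ _).symm
  dvd i a b := by
    have := map_dvd (mf f) (h.dvd i a b)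
    rw [map_pow, I.mf_l] at this
    rw [← C_map_mf, ← amap_mul]
    exact this
  ev0 := by
    have : (Φ.map (mf f)).map (ev S I.v0) = (Φ.map (ev R I.v0)).map f := by
      ext a b
      exact ev_mf f _ _
    rw [this, h.ev0, amap_smul, amap_one, f.commutes]
  tw := by
    have := h.tw.map (mf f : Fm R →+* Fm S)
    rw [← show mf f (I.Δ R) = I.Δ S from I.mf_pw f _]
    exact this
  iso := by
    have := h.iso.map (mf f : Fm R →+* Fm S)
    rw [← show mf f (I.Δ R) = I.Δ S from I.mf_pw f _]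
    exact this

variable (I d) in
/-- the normalized values at the special points -/
noncomputable def am (U : Fin 3 → Matrix ι ι R) (Φ : Matrix ι ι (Fm R)) (i : Fin 3) : Matrix ι ι R :=
  algebraMap k R (I.δ0 i)⁻¹ • lo (d i) (mm i) (lm I U Φ i)

theorem am_map (f : R →ₐ[k] S) (U : Fin 3 → Matrix ι ι R) (Φ : Matrix ι ι (Fm R)) (i : Fin 3) :
    (am I d U Φ i).map f = am I d (fun i => (U i).map f) (Φ.map (mf f)) i := by
  unfold am
  rw [amap_smul, f.commutes]
  congr 1
  ext a b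
  unfold lm
  rw [← C_map_mf, ← amap_mul]
  show f (Polynomial.coeff (I.c R i _) _) = Polynomial.coeff (I.c S i (mf f _)) _
  rw [I.c_mf, Polynomial.coeff_map]
  rfl

theorem lo_eq (U : Fin 3 → Matrix ι ι R) (Φ : Matrix ι ι (Fm R)) (i : Fin 3) :
    lo (d i) (mm i) (lm I U Φ i) = algebraMap k R (I.δ0 i) • am I d U Φ i := by
  unfold am
  rw [smul_smul, ← map_mul, mul_inv_cancel₀ (I.δ0_ne i), map_one, one_smul]

theorem Str.am_tw (hd : ∀ i, GrB A (d i) (mm i)) (hF : Frm A I d φ U V) (h : Str A I d φ U Φ) (i : Fin 3) :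
    Tw A 1 (am I d U Φ i) ∧ Iso A 1 (am I d U Φ i) := by
  obtain ⟨h1, h2⟩ := (h.loc hF i).tw_lo (hd i)
  have e : algebraMap k R (I.δ0 i)⁻¹ * (I.δ R i).coeff 0 = 1 := by
    rw [I.δ_coeff, ← map_mul, inv_mul_cancel₀ (I.δ0_ne i), map_one]
  have h3 := h1.smul (algebraMap k R (I.δ0 i)⁻¹)
  have h4 := h2.smul (algebraMap k R (I.δ0 i)⁻¹)
  rw [e] at h3 h4
  exact ⟨h3, h4⟩

theorem Str.am_st (hG : Good A k) (hd : ∀ i, GrB A (d i) (mm i)) (hF : Frm A I d φ U V) (h : Str A I d φ U Φ)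
    (i : Fin 3) : am I d U Φ i * st A k (am I d U Φ i) = 1 := by
  have := hG.self_mul_st isRegular_one (h.am_tw hd hF i).2
  rwa [one_mul, one_smul] at this

theorem hom_zero_eq {f : Fm R} (h : f.IsHomogeneous 0) (y : Fin 2 → k) : f = C (ev R y f) := by
  have h1 : f = C (coeff 0 f) := by rw [← homogeneousComponent_zero, homogeneousComponent_eq_self h]
  rw [h1, ev_C]

/-- **Gluing.** -/
theorem Str.glue (hG : Good A k) (hd : ∀ i, GrB A (d i) (mm i)) (hφ : Rep A I φ) (hF : Frm A I d φ U V)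
    (hF' : Frm A I d φ' U' V') (h : Str A I d φ U Φ) (h' : Str A I d φ' U' Φ') {x x' : Matrix ι ι R} (hx : Tw A 1 x)
    (hxx : x * x' = 1) (hq : ∀ i, Sh (d i) (· ≤ 0) (am I d U' Φ' i * x * st A k (am I d U Φ i))) :
    Φ' * cs x = cs x * Φ ∧ ∀ γ, fk R (φ' γ) * x = x * fk R (φ γ) := by
  set Ψ := Φ' * cs x * st A k Φ with hΨ
  have hΔ : IsRegular (I.Δ R) := I.pw_regular _
  have hD : IsRegular (algebraMap k R I.D0) := (isUnit_algebraMap I.D0_ne).isRegular
  have hhom : HomM 360 Ψ := (h'.hom.mul_C x).mul h.hom.st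
  have hinv : ∀ γ, Ψ.map (I.s R γ) = fk (Fm R) (φ' γ) * Ψ * fk (Fm R) (φ γ⁻¹) := by
    intro γ
    rw [hΨ, amap_mul, amap_mul, st_amap, h.inv, h'.inv, amap_C, hG.st_mul,
      hG.st_eq_inv (hφ.tw γ).fk (fk_inv φ γ)]
    simp only [Matrix.mul_assoc]
    rfl
  have hfam : I.Fam fun t : ι × ι => Ψ t.1 t.2 := by
    intro γ D hD t
    have h1 : Ψ = fk (Fm R) (φ' γ⁻¹) * Ψ.map (I.s R γ) * fk (Fm R) (φ γ) := by
      rw [hinv, ← Matrix.mul_assoc, ← Matrix.mul_assoc, fk_inv', Matrix.one_mul, Matrix.mul_assoc, fk_inv',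
        Matrix.mul_one]
    rw [h1]
    exact dvd_mul_mul (fun a b => hD (a, b)) _ _ _ _
  have hdiv : ∀ c (t : ι × ι), I.l R (I.b c) ^ (eD + eD) c ∣ Ψ t.1 t.2 := by
    rintro (_ | i) t
    · show _ ^ 0 ∣ _
      rw [pow_zero]
      exact one_dvd _
    · have hUV : cs (U i) * cs (V i) = (1 : Matrix ι ι (Fm R)) := by rw [← C_mul', hF.inv, C_one']
      have hVU : cs (V i) * cs (U i) = (1 : Matrix ι ι (Fm R)) := mul_eq_one_comm.1 hUV
      have hVU' : cs (V' i) * cs (U' i) = (1 : Matrix ι ι (Fm R)) :=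
        mul_eq_one_comm.1 (by rw [← C_mul', hF'.inv, C_one'])
      have h1 : (cs (U' i) * Ψ * cs (V i)).map (I.c R i) =
          lm I U' Φ' i * x.map Polynomial.C * st A k (lm I U Φ i) := by
        unfold lm
        rw [← st_amap, hG.st_mul, hG.st_eq_inv ((hF.tw i).map1 (C : R →+* Fm R)) hUV, hΨ]
        simp only [amap_mul, Matrix.mul_assoc]
        rw [amap_C (I.c R i) x]
        rfl
      have h2 : ∀ a b, I.l R (I.b (some i)) ^ (mm i + mm i) ∣ (cs (U' i) * Ψ * cs (V i)) a b := by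
        intro a b
        rw [I.dvd_iff i ((hhom.C_mul (U' i)).mul_C (V i) a b)]
        have h3 := Loc.glue hG (hd i) (I.δ_cg i) (I.δ_unit i) (h.loc hF i) (h'.loc hF' i) hx hxx (by
          rw [lo_eq, lo_eq, st_smul, Matrix.mul_smul, Matrix.smul_mul, Matrix.smul_mul]
          exact ((hq i).smul _).smul _) a b
        rw [← h1] at h3
        exact h3
      have h4 : Ψ = cs (V' i) * (cs (U' i) * Ψ * cs (V i)) * cs (U i) := by
        rw [← Matrix.mul_assoc, ← Matrix.mul_assoc, hVU', Matrix.one_mul, Matrix.mul_assoc, hVU, Matrix.mul_one]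
      rw [h4]
      exact dvd_mul_mul h2 _ _ _ _
  obtain ⟨Y, hY1, hY2⟩ := I.exists_pw_quot (n := 360) (fun t : ι × ι => hhom t.1 t.2) hfam hdiv
  have hev : Ψ.map (ev R I.v0) = (algebraMap k R I.D0 * algebraMap k R I.D0) • x := by
    rw [hΨ, amap_mul, amap_mul, st_amap, h.ev0, h'.ev0, amap_C, st_smul, hG.st_eq_inv tw_one (Matrix.mul_one 1)]
    simp only [Matrix.mul_smul, Matrix.smul_mul, Matrix.one_mul, Matrix.mul_one, smul_smul]
    rfl
  have h5 : Ψ = (I.Δ R * I.Δ R) • cs x := by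
    ext1 a b
    have h6 := hY1 (a, b)
    have h7 : (Y (a, b)).IsHomogeneous 0 := hY2 (a, b)
    rw [I.pw_add] at h6
    have h8 := congrFun (congrFun hev a) b
    rw [Matrix.map_apply, h6, map_mul, map_mul, show ev R I.v0 (I.pw R eD) = _ from I.ev_Δ, Matrix.smul_apply,
      smul_eq_mul] at h8
    rw [h6, hom_zero_eq h7 I.v0, (hD.mul hD).left h8]
    rfl
  have h9 : Φ' * cs x = cs x * Φ := by
    refine smul_cancel (hΔ.mul hΔ) ?_
    rw [← Matrix.smul_mul (I.Δ R * I.Δ R) (cs x) Φ, ← h5, hΨ, Matrix.mul_assoc _ (st A k Φ), hG.st_mul_self h.iso,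
      Matrix.mul_smul, Matrix.mul_one]
  refine ⟨h9, fun γ => ?_⟩
  have h10 := congrArg (fun M : Matrix ι ι (Fm R) => M.map (I.s R γ)) h9
  simp only [amap_mul, h.inv, h'.inv, amap_C] at h10
  have h11 : (x.map (algebraMap R (Fm R))) = cs x := rfl
  rw [h11, Matrix.mul_assoc, h9] at h10
  have h12 := congrArg (fun M : Matrix ι ι (Fm R) => M.map (ev R I.v0)) h10
  simp only [amap_mul, h.ev0, amap_C, ← fk_C, Matrix.mul_smul, Matrix.mul_one] at h12
  exact smul_cancel hD h12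

end Cfsg.Agent.E8A.Reg5
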