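import Cfsg.Agent.E8A.Reg5.Sec
import Cfsg.Agent.E8A.Reg5.Iface2

/-!
# The bracket of sections of small degree vanishes (helper42)
-/

set_option autoImplicit false
set_option linter.unusedSectionVars false

namespace Cfsg.Agent.E8A.Reg5

open Matrix MvPolynomial Ico

universe u

variable {ι : Type} [Fintype ι] [DecidableEq ι] {A : ι → Matrix ι ι ℤ}
variable {k : Type u} [Field k] {K : Type u} [Field K] [Algebra k K]
variable {Γ P : Type} [Group Γ] [Fintype Γ] [Fintype P] {π : Γ →* A5}

theorem eps_mul_eq {a b : DualNumber K} (h : a.fst = b.fst) : DualNumber.eps * a = DualNumber.eps * b := by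
  ext <;> simp [h]

theorem eps_mf {f : K →ₐ[k] DualNumber K} (hf : ∀ a, (f a).fst = a) (g : Fm K) :
    C DualNumber.eps * mf f g = C DualNumber.eps * mf (inD k K) g := by
  ext1 s
  rw [coeff_C_mul, coeff_C_mul, mf_apply, mf_apply, coeff_map, coeff_map]
  exact eps_mul_eq (hf _)

variable {I : Ico k Γ P π} {d : Fin 3 → ι → ℤ} {φ : Γ →* Matrix ι ι k} {U V : Fin 3 → Matrix ι ι K} {n n' : ℕ}
  {x y : ι → Fm K}

theorem dvd_of_eps (i : Fin 3) {g : Fm K} (hg : g.IsHomogeneous n) {a : ℕ}
    (h : I.l (DualNumber K) (I.b (some i)) ^ a ∣ C DualNumber.eps * mf (inD k K) g) : I.l K (I.b (some i)) ^ a ∣ g := by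
  have h1 := map_dvd (I.c (DualNumber K) i) h
  rw [map_pow, I.c_l, map_mul, I.c_C, I.c_mf, Polynomial.X_pow_dvd_iff] at h1
  rw [I.dvd_iff i hg, Polynomial.X_pow_dvd_iff]
  intro j hj
  have h2 := congrArg TrivSqZeroExt.snd (h1 j hj)
  rw [Polynomial.coeff_C_mul, Polynomial.coeff_map] at h2
  simpa using h2

theorem map_single {R S : Type*} [CommRing R] [CommRing S] (f : R →+* S) (β : ι) :
    (fun j => f ((Pi.single β 1 : ι → R) j)) = Pi.single β 1 := by
  funext j
  by_cases h : j = β
  · rw [h, Pi.single_eq_same, Pi.single_eq_same, map_one]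
  · rw [Pi.single_eq_of_ne h, Pi.single_eq_of_ne h, map_zero]

theorem Hs.kf_br_dvd (hG : Good A k) (hd : ∀ i, GrB A (d i) (mm i)) (hφ : Rep A I φ) (hF : Frm A I d φ U V)
    (hM : Mov A d k U) (hx : Hs I d φ U n x) (hy : Hs I d φ U n' y) (h : n + n' ≤ 240) (i : Fin 3) {β : ι}
    (hβ : d i β = -(mm i : ℤ)) :
    I.l K (I.b (some i)) ^ (mm i + mm i) ∣ kf A (Pi.single β 1) (cs (U i) *ᵥ (ad A x *ᵥ y)) := by
  obtain ⟨f, hf, h1, h2⟩ := hM i β hβ
  set xf : ι → Fm (DualNumber K) := fun a => mf f (x a) with hxf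
  set y0 : ι → Fm (DualNumber K) := fun a => mf (inD k K) (y a) with hy0
  have hF0 := hF.map (inD k K)
  have sx : Sec I φ n xf := hx.sec.map f
  have sy : Sec I φ n' y0 := hy.sec.map _
  have cx := fun j => (hx.cd j).map f
  have cy := fun j => (hy.cd j).map (inD k K)
  set e : ι → Fm (DualNumber K) := Pi.single β 1 with he
  set u := cs ((U i).map f) *ᵥ xf with hu
  set w := cs ((U i).map (inD k K)) *ᵥ y0 with hw
  have h3 : cs ((U i).map (inD k K)) *ᵥ xf = u + (C DualNumber.eps : Fm (DualNumber K)) • (ad A e *ᵥ u) := by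
    rw [h2, C_mul', ← Matrix.mulVec_mulVec, ← hu]
    have : cs (1 + (DualNumber.eps : DualNumber K) • ad A (Pi.single β (1 : DualNumber K))) =
        1 + (C DualNumber.eps : Fm (DualNumber K)) • ad A e := by
      rw [he, ← map_single (C : DualNumber K →+* Fm (DualNumber K)) β, ← ad_map, ← C_one']
      ext1 a b
      simp only [Matrix.map_apply, Matrix.add_apply, Matrix.smul_apply, smul_eq_mul, map_add, map_mul]
    rw [this, Matrix.add_mulVec, Matrix.one_mulVec, Matrix.smul_mulVec]
  have h4 : kf A xf y0 = kf A u w + C DualNumber.eps * kf A e (ad A u *ᵥ w) := by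
    rw [← (hF0.cs_tw i).kf_same (hF0.cs_inv i), h3, kf_add_left, kf_smul_left, hG.kf_inv]
  have h5 : I.l (DualNumber K) (I.b (some i)) ^ (mm i + mm i) ∣ kf A u w := (hd i).kf_dvd (cx i) (cy i)
  have h6 : kf A xf y0 = 0 := by
    refine I.eq_zero_of_deg (W := fun _ : Unit => kf A xf y0) (fun _ => hom_kf sx.hom sy.hom)
      (I.fam_of_inv (sx.kf_inv hφ sy)) (e := fun c => c.elim 0 fun j => if j = i then mm j else mm j + mm j) ?_ ?_ ()
    · rintro (_ | j) _
      · show _ ^ 0 ∣ _
        rw [pow_zero]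
        exact one_dvd _
      · show _ ^ (if j = i then mm j else mm j + mm j) ∣ _
        split_ifs with hj
        · rw [hj, h4]
          refine dvd_add ((pow_dvd_pow _ (Nat.le_add_right _ _)).trans h5) (Dvd.dvd.mul_left (kf_dvd_right _ fun a => ?_) _)
          exact (pow_dvd_pow _ (Nat.le_add_right _ _)).trans ((hd i).br_dvd (cx i) (cy i) a)
        · refine Cd.kf_dvd hd hF0 (fun a => ?_) (cy j)
          have := cx j a
          beta_reduce at this ⊢
          rwa [h1 j hj] at this
    · have : dg (fun c => c.elim 0 fun j => if j = i then mm j else mm j + mm j) = 300 := by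
        fin_cases i <;> rfl
      omega
  have h7 : I.l (DualNumber K) (I.b (some i)) ^ (mm i + mm i) ∣ C DualNumber.eps * kf A e (ad A u *ᵥ w) := by
    rw [h6] at h4
    rw [eq_neg_of_add_eq_zero_right h4.symm]
    exact h5.neg_right
  have h8 : (C DualNumber.eps : Fm (DualNumber K)) • u =
      (C DualNumber.eps : Fm (DualNumber K)) • fun a => mf (inD k K) ((cs (U i) *ᵥ x) a) := by
    rw [hu, hxf, ← C_map_mf, ← amulVec_map]
    funext a
    exact eps_mf hf _
  have h9 : w = fun a => mf (inD k K) ((cs (U i) *ᵥ y) a) := by rw [hw, hy0, ← C_map_mf, ← amulVec_map]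
  have h10 := (hF.cs_tw i).br x y
  rw [one_smul] at h10
  refine dvd_of_eps i (n := 0 + (n + n')) (hom_kf (fun a => ?_) (hom_mulVec _ (hom_br hx.sec.hom hy.sec.hom))) ?_
  · rw [← map_single (C : K →+* Fm K) β]
    exact isHomogeneous_C _ _
  · rw [akf_map, ← h10, amulVec_map, aad_map, ← h9, ← kf_smul_right, ← Matrix.smul_mulVec, ← ad_smul, ← h8, ad_smul,
      Matrix.smul_mulVec, kf_smul_right]
    have := map_single (mf (inD k K) : Fm K →+* Fm (DualNumber K)) β
    rw [show (fun j => mf (inD k K) ((Pi.single β 1 : ι → Fm K) j)) = e from this]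
    exact h7

theorem Good.dvd_top {R : Type*} [CommRing R] [Algebra k R] (hG : Good A k) {d : ι → ℤ} (hd : Gr A d) {m : ℤ} {D : R}
    {z : ι → R} (h : ∀ β, d β = -m → D ∣ kf A (Pi.single β 1) z) {a : ι} (ha : d a = m) : D ∣ z a := by
  let z' : ι → R := fun c => if d c = m then z c else 0
  have h1 : ∀ β, D ∣ (kil A R *ᵥ z') β := by
    intro β
    by_cases hβ : d β = -m
    · have h2 := h β hβ
      rw [kf_eq, single_one_dotProduct] at h2
      have h3 : (kil A R *ᵥ z') β = (kil A R *ᵥ z) β := by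
        refine Finset.sum_congr rfl fun c _ => ?_
        by_cases h0 : kil A R β c = 0
        · show kil A R β c * _ = kil A R β c * _
          rw [h0, zero_mul, zero_mul]
        · have := hd.kil_ne h0
          show _ * (if d c = m then z c else 0) = _
          rw [if_pos (by omega)]
      rwa [h3]
    · refine Finset.dvd_sum fun c _ => ?_
      by_cases h0 : kil A R β c = 0
      · show D ∣ kil A R β c * _
        rw [h0, zero_mul]
        exact dvd_zero _
      · have := hd.kil_ne h0
        show D ∣ _ * (if d c = m then z c else 0)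
        rw [if_neg (by omega), mul_zero]
        exact dvd_zero _
  have h4 := dvd_mulVec (kin A k R) h1 a
  rw [Matrix.mulVec_mulVec, hG.kin_mul, Matrix.one_mulVec] at h4
  simpa [z', ha] using h4

/-- **Vanishing.** -/
theorem Hs.br_eq_zero (hG : Good A k) (hd : ∀ i, GrB A (d i) (mm i)) (hφ : Rep A I φ) (hF : Frm A I d φ U V)
    (hM : Mov A d k U) (hx : Hs I d φ U n x) (hy : Hs I d φ U n' y) (h : n + n' ≤ 240) : ad A x *ᵥ y = 0 := by
  have hs := hx.sec.br hφ hy.sec
  funext c
  refine I.eq_zero_of_deg hs.hom hs.fam (e := fun c => c.elim 0 fun j => mm j + 1) ?_ ?_ c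
  · rintro (_ | i) a
    · show _ ^ 0 ∣ _
      rw [pow_zero]
      exact one_dvd _
    · refine hF.dvd_of i (fun b => ?_) a
      show _ ^ (mm i + 1) ∣ _
      by_cases hb : d i b = mm i
      · refine (pow_dvd_pow _ (Nat.add_le_add_left (mm_pos i) _)).trans ?_
        exact hG.dvd_top (hd i).gr (fun β hβ => hx.kf_br_dvd hG hd hφ hF hM hy h i hβ) hb
      · refine (pow_dvd_pow _ (Nat.add_le_add_left ?_ _)).trans ((hx.cd i).br_dvd hd hF (hy.cd i) b)
        have h1 := (hd i).xp_cast b
        have h2 := (hd i).ub b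
        omega
  · have : dg (fun c => c.elim 0 fun j => mm j + 1) = 242 := rfl
    omega

end Cfsg.Agent.E8A.Reg5
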