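import Cfsg.Agent.E8A.Reg5.Dim
import Cfsg.Agent.E8A.Reg5.Van
import Cfsg.Agent.E8A.Reg5.Ab

/-!
# The trivialization (helper42)

`triv : TRIV`.
-/

set_option autoImplicit false
set_option linter.unusedSectionVars false

namespace Cfsg.Agent.E8A.Reg5

open Matrix MvPolynomial Ico Module

universe u

variable {ι : Type} [Fintype ι] [DecidableEq ι] {A : ι → Matrix ι ι ℤ}
variable {k : Type u} [Field k] {K : Type u} [Field K] [Algebra k K]
variable {Γ P : Type} [Group Γ] [Fintype Γ] [Fintype P] {π : Γ →* A5}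
variable {I : Ico k Γ P π} {d : Fin 3 → ι → ℤ} {φ : Γ →* Matrix ι ι k} {U V : Fin 3 → Matrix ι ι K}

variable (I d φ U) in
/-- the values of the sections -/
noncomputable def FS (e : ℕ) : Submodule K (ι → K) := (HS I d φ U (60 * e)).map (evv ι K I)

theorem evv_br (x y : ι → Fm K) : evv ι K I (ad A x *ᵥ y) = ad A (evv ι K I x) *ᵥ evv ι K I y := by
  rw [evv_apply, amulVec_map, aad_map]
  rfl

theorem evv_kf (x y : ι → Fm K) : ev K I.v0 (kf A x y) = kf A (evv ι K I x) (evv ι K I y) := akf_map _ _ _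

theorem FS_kf (hd : ∀ i, GrB A (d i) (mm i)) (hφ : Rep A I φ) (hF : Frm A I d φ U V) {e e' : ℕ} (h : e + e' ≤ 5) :
    ∀ x ∈ FS I d φ U e, ∀ y ∈ FS I d φ U e', kf A x y = 0 := by
  rintro _ ⟨x, hx, rfl⟩ _ ⟨y, hy, rfl⟩
  rw [← evv_kf, Hs.kf_eq_zero hd hφ hF hx hy (by omega), map_zero]

theorem FS_br (hd : ∀ i, GrB A (d i) (mm i)) (hφ : Rep A I φ) (hF : Frm A I d φ U V) {e e' e'' : ℕ}
    (h : e + e' = e'' + 3) : ∀ x ∈ FS I d φ U e, ∀ y ∈ FS I d φ U e', ad A x *ᵥ y ∈ FS I d φ U e'' := by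
  rintro _ ⟨x, hx, rfl⟩ _ ⟨y, hy, rfl⟩
  obtain ⟨z, h1, h2⟩ := Hs.br hd hφ hF hx hy
  rw [show 60 * e + 60 * e' - 180 = 60 * e'' by omega] at h2
  rw [← evv_br, h1, evv_smul]
  exact Submodule.smul_mem _ _ ⟨z, h2, rfl⟩

theorem FS_van (hG : Good A k) (hd : ∀ i, GrB A (d i) (mm i)) (hφ : Rep A I φ) (hF : Frm A I d φ U V)
    (hM : Mov A d k U) {e e' : ℕ} (h : e + e' ≤ 4) : ∀ x ∈ FS I d φ U e, ∀ y ∈ FS I d φ U e', ad A x *ᵥ y = 0 := by
  rintro _ ⟨x, hx, rfl⟩ _ ⟨y, hy, rfl⟩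
  rw [← evv_br, Hs.br_eq_zero hG hd hφ hF hM hx hy (by omega), map_zero]

theorem FS_three (hG : Good A k) (hd : ∀ i, GrB A (d i) (mm i)) (hφ : Rep A I φ) (hF : Frm A I d φ U V)
    (hfix : ∀ v : ι → k, (∀ γ, φ γ *ᵥ v = v) → v = 0) (h3 : ∀ h : ι → K, ad A h * ad A h * ad A h = ad A h → h = 0)
    (hc : Cnt d) (hM : Mov A d k U) : FS I d φ U 3 = ⊤ ∧ HS I d φ U 120 = ⊥ := by
  have s : ∀ e, finrank K (HS I d φ U (60 * (e + 1))) ≤ finrank K (FS I d φ U (e + 1)) + finrank K (HS I d φ U (60 * e)) :=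
    finrank_HS_succ
  have z0 : finrank K (HS I d φ U (60 * 0)) = 0 := by
    rw [show HS I d φ U (60 * 0) = ⊥ from eq_bot_iff.2 fun x hx => Sec.eq_zero hfix (Hs.sec hx), finrank_bot]
  have s0 := s 0
  have s1 := s 1
  have s2 := s 2
  have s3 := s 3
  have s4 := s 4
  have t1 := le_finrank_VS (K := K) hG hφ 5
  have t2 := finrank_VS_le hd hF hc 5
  obtain ⟨o14, -⟩ := hG.orth (FS_kf hd hφ hF (e := 1) (e' := 4) le_rfl)
  obtain ⟨o23, p23⟩ := hG.orth (FS_kf hd hφ hF (e := 2) (e' := 3) le_rfl)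
  obtain ⟨-, p32⟩ := hG.orth (FS_kf hd hφ hF (e := 3) (e' := 2) le_rfl)
  have o5 := Submodule.finrank_le (FS I d φ U 5)
  have top : ∀ e, Fintype.card ι ≤ finrank K (FS I d φ U e) → FS I d φ U e = ⊤ := fun e h =>
    Submodule.eq_top_of_finrank_eq (le_antisymm (Submodule.finrank_le _) (by rwa [Module.finrank_fintype_fun_eq_card]))
  rw [Module.finrank_fintype_fun_eq_card] at o5
  simp only [Nat.reduceAdd] at s0 s1 s2 s3 s4
  have f5 := top 5 (by omega)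
  have f1 : FS I d φ U 1 = ⊥ := eq_bot_iff.2 fun x hx => hG.sandwich (ext_mulVec fun j => by
    rw [← Matrix.mulVec_mulVec, Matrix.zero_mulVec]
    exact FS_van hG hd hφ hF hM (e := 1) (e' := 3) le_rfl x hx _
      (FS_br hd hφ hF (e := 1) (e' := 5) rfl x hx _ (f5 ▸ Submodule.mem_top)))
  have g1 : finrank K (FS I d φ U 1) = 0 := by rw [f1, finrank_bot]
  have f4 := top 4 (by omega)
  have f2 : FS I d φ U 2 = ⊥ := hG.eq_bot h3 (Q := FS I d φ U 3) (FS_van hG hd hφ hF hM le_rfl)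
    (FS_br hd hφ hF rfl) (fun x hx y => FS_br hd hφ hF (e := 2) (e' := 4) rfl x hx y (f4 ▸ Submodule.mem_top))
    (FS_br hd hφ hF rfl) (p23 (by omega)) (p32 (by omega))
  have g2 : finrank K (FS I d φ U 2) = 0 := by rw [f2, finrank_bot]
  have := fin_HS (I := I) (d := d) (φ := φ) (U := U) (60 * 2)
  exact ⟨top 3 (by omega), Submodule.finrank_eq_zero.1 (show finrank K (HS I d φ U (60 * 2)) = 0 by omega)⟩

theorem exists_str (hd : ∀ i, GrB A (d i) (mm i)) (hφ : Rep A I φ) (hF : Frm A I d φ U V)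
    (h3 : FS I d φ U 3 = ⊤) (h2 : HS I d φ U 120 = ⊥) : ∃ Φ, Str A I d φ U Φ := by
  have hD : algebraMap k K I.D0 ≠ 0 := (isUnit_algebraMap I.D0_ne).ne_zero
  have inj : ∀ x ∈ HS I d φ U 180, ∀ y ∈ HS I d φ U 180, evv ι K I x = evv ι K I y → x = y := by
    intro x hx y hy h
    obtain ⟨z, h4, h5⟩ := Hs.quot (Submodule.sub_mem _ hx hy)
      (congrFun (show evv ι K I (x - y) = 0 by rw [map_sub, h, sub_self]))
    have h6 : z ∈ HS I d φ U 120 := h5
    rw [h2, Submodule.mem_bot] at h6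
    rw [h6, smul_zero] at h4
    exact sub_eq_zero.1 h4
  have ex : ∀ b : ι, ∃ s ∈ HS I d φ U 180, evv ι K I s = algebraMap k K I.D0 • Pi.single b 1 := fun b =>
    (show algebraMap k K I.D0 • Pi.single b 1 ∈ FS I d φ U 3 from h3 ▸ Submodule.mem_top)
  choose s hs1 hs2 using ex
  let Φ : Matrix ι ι (Fm K) := Matrix.of fun a b => s b a
  have hΦ : ∀ b, Φ *ᵥ Pi.single b 1 = s b := fun b => by
    rw [Matrix.mulVec_single_one]
    rfl
  have hC : ∀ y : ι → K, Φ *ᵥ (fun a => C (y a)) = ∑ b, y b • s b := fun y => by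
    funext a
    rw [Finset.sum_apply]
    refine Finset.sum_congr rfl fun b _ => ?_
    rw [Pi.smul_apply, smul_eq_C_mul, mul_comm]
    rfl
  refine ⟨Φ, fun a b => (hs1 b).sec.hom a, fun γ => ?_, fun i a b => (hs1 b).cd i a, ?_, tw_of_basis fun j => ?_,
    iso_of_kf fun i j => ?_⟩
  · ext1 a b
    exact congrFun ((hs1 b).sec.inv γ) a
  · ext a b
    have := congrFun (hs2 b) a
    rw [Pi.smul_apply, Pi.single_apply] at this
    rw [Matrix.smul_apply, Matrix.one_apply, ← this]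
    rfl
  · refine ext_mulVec fun b => ?_
    obtain ⟨z, h4, h5⟩ := Hs.br hd hφ hF (hs1 j) (hs1 b)
    have h6 : (ad A (Pi.single j 1) *ᵥ Pi.single b 1 : ι → Fm K) =
        fun a => C ((ad A (Pi.single j (1 : K)) *ᵥ Pi.single b 1) a) := by
      rw [mulVec_map (C : K →+* Fm K), ad_map, map_single, map_single]
    rw [← Matrix.mulVec_mulVec, hΦ, hΦ, Matrix.smul_mulVec, ← Matrix.mulVec_mulVec, h4, h6, hC]
    congr 1
    refine inj _ h5 _ (Submodule.sum_mem _ fun c _ => Submodule.smul_mem _ _ (hs1 c)) ?_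
    have h7 := congrArg (evv ι K I) h4
    rw [evv_br, evv_smul, I.ev_Δ, hs2, hs2, ad_smul, Matrix.smul_mulVec, Matrix.mulVec_smul] at h7
    rw [← smul_right_injective _ hD h7, map_sum]
    simp only [map_smul, hs2, smul_comm _ (algebraMap k K I.D0), ← Finset.smul_sum]
    rw [← eq_sum_single]
  · obtain ⟨c, hc⟩ := Hs.kf_eq hd hφ hF (hs1 i) (hs1 j)
    have h7 := congrArg (ev K I.v0) hc
    rw [evv_kf, hs2, hs2, kf_smul_left, kf_smul_right, kf_single, map_mul, map_mul, I.ev_Δ, ev_C, mul_assoc] at h7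
    rw [hΦ, hΦ, hc, ← mul_left_cancel₀ hD (mul_left_cancel₀ hD h7), ← kil_map (C : K →+* Fm K)]
    rfl

/-- **TRIV** -/
theorem triv : TRIV.{u} := by
  intro ι _ _ A k K _ _ _ Γ P _ _ _ π I d φ U V hG hd hφ hF hfix h3 hc hM
  obtain ⟨h1, h2⟩ := FS_three hG hd hφ hF hfix h3 hc hM
  exact exists_str hd hφ hF h1 h2

end Cfsg.Agent.E8A.Reg5
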